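import Cfsg.Agent.SolvLin.Main

/-!
# Derived series of subgroups; derived length of small permutation groups
-/

set_option autoImplicit false
set_option linter.style.haveILetI false
open scoped commutatorElement

namespace Cfsg.Agent.SolvLin

universe u

section ds
variable {G : Type*} [Group G]

/-- derived series of a subgroup, inside the ambient group -/
def ds (L : Subgroup G) : ℕ → Subgroup G
  | 0 => L
  | n + 1 => ⁅ds L n, ds L n⁆

theorem ds_mono {L L' : Subgroup G} (h : L ≤ L') : ∀ n, ds L n ≤ ds L' n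
  | 0 => h
  | n + 1 => Subgroup.commutator_mono (ds_mono h n) (ds_mono h n)

theorem ds_add (L : Subgroup G) (a : ℕ) : ∀ b, ds (ds L a) b = ds L (a + b)
  | 0 => rfl
  | b + 1 => by rw [← Nat.add_assoc, ds, ds, ds_add L a b]

theorem ds_le (L : Subgroup G) : ∀ n, ds L n ≤ L
  | 0 => le_rfl
  | n + 1 => by
    rw [ds, Subgroup.commutator_le]
    intro x hx y hy
    rw [commutatorElement_def]
    have := ds_le L n hx
    have := ds_le L n hy
    exact mul_mem (mul_mem (mul_mem ‹_› ‹_›) (inv_mem ‹_›)) (inv_mem ‹_›)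

theorem ds_anti (L : Subgroup G) {a b : ℕ} (h : a ≤ b) : ds L b ≤ ds L a := by
  obtain ⟨c, rfl⟩ := Nat.exists_eq_add_of_le h
  rw [← ds_add]
  exact ds_le _ _

theorem ds_map {G' : Type*} [Group G'] (f : G →* G') (L : Subgroup G) :
    ∀ n, (ds L n).map f = ds (L.map f) n
  | 0 => rfl
  | n + 1 => by rw [ds, ds, Subgroup.map_commutator, ds_map f L n]

theorem ds_top : ∀ n, ds (⊤ : Subgroup G) n = derivedSeries G n
  | 0 => rfl
  | n + 1 => by rw [ds, ds_top n, derivedSeries_succ]

theorem ds_eq_map (L : Subgroup G) (n : ℕ) : ds L n = (ds ⊤ n).map L.subtype := by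
  rw [ds_map, ← MonoidHom.range_eq_map, Subgroup.range_subtype]

theorem ds_hom {G' : Type*} [Group G'] (f : G →* G') {L : Subgroup G} {L' : Subgroup G'}
    (h : ∀ g ∈ L, f g ∈ L') {n : ℕ} {g : G} (hg : g ∈ ds L n) : f g ∈ ds L' n :=
  ds_mono (Subgroup.map_le_iff_le_comap.2 h) n (ds_map f L n ▸ Subgroup.mem_map_of_mem f hg)

theorem ds_succ_le {L P : Subgroup G} {n : ℕ} (h : ∀ x ∈ ds L n, ∀ y ∈ ds L n, ⁅x, y⁆ ∈ P) :
    ds L (n + 1) ≤ P := Subgroup.commutator_le.2 h

end ds

theorem Irr.nsmul_eq_zero {G N : Type*} [Group G] [AddCommGroup N] [DistribMulAction G N] [Finite N]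
    (h : Irr G N) {p : ℕ} (hp : p.Prime) (hd : p ∣ Nat.card N) (x : N) : p • x = 0 := by
  haveI := Fact.mk hp
  obtain ⟨y, hy⟩ := exists_prime_addOrderOf_dvd_card' p hd
  let U : AddSubgroup N := (nsmulAddMonoidHom p).ker
  have h1 : U = ⊤ := by
    refine (h.2 U fun g v hv => ?_).resolve_left fun h0 => ?_
    · change p • g • v = 0
      rw [smul_comm, show p • v = 0 from hv, smul_zero]
    · have : y ∈ U := by
        change p • y = 0
        rw [← hy, addOrderOf_nsmul_eq_zero]
      rw [h0, AddSubgroup.mem_bot] at this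
      rw [this, addOrderOf_zero] at hy
      exact hp.one_lt.ne hy
  exact (h1 ▸ AddSubgroup.mem_top x : x ∈ U)

theorem exists_gen_of_prime {N : Type*} [AddCommGroup N] (hp : (Nat.card N).Prime) :
    ∃ x : N, ∀ y, ∃ k : ℤ, k • x = y := by
  haveI := Fact.mk hp
  haveI : IsAddCyclic N := isAddCyclic_of_prime_card rfl
  exact IsAddCyclic.exists_zsmul_surjective

theorem aff_model {G : Type u} [Group G] [Finite G] (hG : Group.IsSolvable G) {H : Subgroup G}
    (hH : IsCoatom H) : ∃ (N : Type u) (_ : AddCommGroup N) (_ : Finite N)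
      (_ : DistribMulAction G N), Irr G N ∧ ∃ e : G ⧸ H ≃ N,
        ∀ g : G, ∃ n, ∀ ω, e (g • ω) = n + g • e ω := by
  classical
  let S := G ⧸ H.normalCore
  let π : G →* S := QuotientGroup.mk' _
  let H' : Subgroup S := H.map π
  have hker : π.ker ≤ H := by
    rw [QuotientGroup.ker_mk']
    exact H.normalCore_le
  have hmem : ∀ g, π g ∈ H' ↔ g ∈ H := by
    intro g
    rw [← Subgroup.mem_comap, Subgroup.comap_map_eq_self hker]
  have hsurj : Function.Surjective π := QuotientGroup.mk'_surjective _
  have hcore : ∀ B : Subgroup S, B.Normal → B ≤ H' → B = ⊥ := by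
    intro B hB hBH
    rw [eq_bot_iff]
    intro x hx
    obtain ⟨g, rfl⟩ := hsurj x
    have h1 : B.comap π ≤ H.normalCore :=
      (Subgroup.normal_le_normalCore).2 (fun y hy => (hmem y).1 (hBH hy))
    exact (QuotientGroup.eq_one_iff _).2 (h1 hx)
  have hmax : ∀ B : Subgroup S, ¬ B ≤ H' → B ⊔ H' = ⊤ := by
    intro B hB
    have h1 : (B ⊔ H').comap π = ⊤ := by
      refine hH.2 _ (lt_of_le_of_ne (fun y hy => Subgroup.mem_sup_right ((hmem y).2 hy)) fun h => ?_)
      apply hB
      intro x hx
      obtain ⟨g, rfl⟩ := hsurj x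
      rw [hmem, h]
      exact Subgroup.mem_sup_left hx
    rw [eq_top_iff]
    intro x _
    obtain ⟨g, rfl⟩ := hsurj x
    exact (h1 ▸ Subgroup.mem_top g : g ∈ (B ⊔ H').comap π)
  have htop : (⊤ : Subgroup S) ≠ ⊥ := by
    intro h
    apply hH.1
    rw [eq_top_iff]
    intro g _
    have : π g ∈ (⊥ : Subgroup S) := h ▸ Subgroup.mem_top _
    rw [← hmem, Subgroup.mem_bot.1 this]
    exact one_mem _
  obtain ⟨N, -, ⟨hNn, hN0⟩, hmin⟩ := Finite.exists_le_minimal
    (p := fun B : Subgroup S => B.Normal ∧ B ≠ ⊥) ⟨inferInstance, htop⟩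
  have hcomm : ∀ x ∈ N, ∀ y ∈ N, x * y = y * x := by
    have hlt : ⁅N, N⁆ < N := Group.IsSolvable.commutator_lt_of_ne_bot hN0
    have h1 : ⁅N, N⁆ = ⊥ := by
      by_contra h
      exact absurd (hmin ⟨inferInstance, h⟩ hlt.le) hlt.not_ge
    rw [Subgroup.commutator_eq_bot_iff_le_centralizer] at h1
    exact fun x hx y hy => (h1 hx y hy).symm
  have hsup : N ⊔ H' = ⊤ := hmax N (fun h => hN0 (hcore N hNn h))
  have hdec : ∀ s : S, ∃ n ∈ N, ∃ h ∈ H', n * h = s := fun s =>
    Subgroup.mem_sup_of_normal_left.1 (hsup ▸ Subgroup.mem_top s)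
  have hinf : ∀ n ∈ N, n ∈ H' → n = 1 := by
    intro x hx hh
    have h1 : (N ⊓ H').Normal := by
      constructor
      intro x hx s
      obtain ⟨n, hn, k, hk, rfl⟩ := hdec s
      have h2 : k * x * k⁻¹ ∈ N ⊓ H' :=
        ⟨hNn.conj_mem x hx.1 k, H'.mul_mem (H'.mul_mem hk hx.2) (H'.inv_mem hk)⟩
      have h3 : n * k * x * (n * k)⁻¹ = k * x * k⁻¹ := by
        calc n * k * x * (n * k)⁻¹ = n * (k * x * k⁻¹) * n⁻¹ := by group
          _ = _ := by rw [hcomm n hn _ h2.1]; group
      rwa [h3]
    have := hcore _ h1 inf_le_right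
    exact Subgroup.mem_bot.1 (this ▸ (⟨hx, hh⟩ : x ∈ N ⊓ H'))
  have huniq : ∀ n ∈ N, ∀ h ∈ H', ∀ n' ∈ N, ∀ h' ∈ H', n * h = n' * h' → n = n' := by
    intro n hn h hh n' hn' h' hh' e
    have h1 : n'⁻¹ * n = h' * h⁻¹ := by
      rw [inv_mul_eq_iff_eq_mul, ← mul_assoc, ← e, mul_inv_cancel_right]
    have := hinf _ (mul_mem (inv_mem hn') hn) (h1 ▸ mul_mem hh' (inv_mem hh))
    exact (inv_mul_eq_one.1 this).symm
  letI : CommGroup N := { (inferInstance : Group N) with
    mul_comm := fun x y => Subtype.ext (hcomm x x.2 y y.2) }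
  letI : DistribMulAction G (Additive N) :=
    { smul := fun s x => Additive.ofMul (MulAut.conjNormal (π s) x.toMul)
      one_smul := fun x => by
        change Additive.ofMul (MulAut.conjNormal (π 1) x.toMul) = x
        simp
      mul_smul := fun s s' x => by
        change Additive.ofMul (MulAut.conjNormal (π (s * s')) x.toMul) =
          Additive.ofMul (MulAut.conjNormal (π s) (MulAut.conjNormal (π s') x.toMul))
        simp
      smul_zero := fun s => by
        change Additive.ofMul (MulAut.conjNormal (π s) 1) = 0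
        simp
      smul_add := fun s x y => by
        change Additive.ofMul (MulAut.conjNormal (π s) (x.toMul * y.toMul)) =
          Additive.ofMul (MulAut.conjNormal (π s) x.toMul * MulAut.conjNormal (π s) y.toMul)
        simp }
  have hsm : ∀ (s : G) (x : Additive N), (((s • x).toMul : N) : S) = π s * x.toMul * (π s)⁻¹ :=
    fun s x => rfl
  have hirr : Irr G (Additive N) := by
    haveI : Nontrivial N := (Subgroup.nontrivial_iff_ne_bot N).2 hN0
    refine ⟨inferInstance, fun U hU => ?_⟩
    let U' : Subgroup S := (AddSubgroup.toSubgroup' U).map N.subtype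
    have hU' : ∀ x : Additive N, ((x.toMul : N) : S) ∈ U' ↔ x ∈ U := by
      intro x
      constructor
      · rintro ⟨y, hy, hxy⟩
        have : y = x.toMul := Subtype.ext hxy
        subst this
        exact hy
      · intro hx
        exact ⟨_, hx, rfl⟩
    have hn : U'.Normal := by
      constructor
      rintro _ ⟨y, hy, rfl⟩ s
      obtain ⟨s, rfl⟩ := hsurj s
      exact (hU' (s • Additive.ofMul y)).2 (hU s _ hy)
    by_cases h : U' = ⊥
    · left
      rw [eq_bot_iff]
      intro x hx
      have := (hU' x).2 hx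
      rw [h, Subgroup.mem_bot] at this
      exact Subtype.ext this
    · right
      rw [eq_top_iff]
      intro x _
      exact (hU' x).1 (hmin ⟨hn, h⟩ (Subgroup.map_subtype_le _) x.toMul.2)
  choose nn hnn hh hhh hdec' using hdec
  let e0 : G ⧸ H → Additive N := Quotient.lift (fun g => Additive.ofMul ⟨nn (π g), hnn _⟩) (by
    intro a b hab
    have h1 : a⁻¹ * b ∈ H := QuotientGroup.leftRel_apply.1 hab
    refine congrArg Additive.ofMul (Subtype.ext ?_)
    refine huniq _ (hnn _) _ (mul_mem (hhh (π a)) ((hmem _).2 h1)) _ (hnn _) _ (hhh (π b)) ?_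
    rw [hdec', ← mul_assoc, hdec', ← map_mul, mul_inv_cancel_left])
  have he0 : ∀ g : G, (((e0 g).toMul : N) : S) = nn (π g) := fun g => rfl
  have hbij : Function.Bijective e0 := by
    constructor
    · intro a b hab
      induction a using QuotientGroup.induction_on with | H a => ?_
      induction b using QuotientGroup.induction_on with | H b => ?_
      have h1 : nn (π a) = nn (π b) := by rw [← he0, hab, he0]
      rw [QuotientGroup.eq, ← hmem, map_mul, map_inv, ← hdec' (π a), ← hdec' (π b), h1]
      simpa [mul_assoc] using mul_mem (inv_mem (hhh (π a))) (hhh (π b))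
    · intro x
      obtain ⟨y, hy⟩ := hsurj (x.toMul : N)
      refine ⟨y, Additive.toMul.injective (Subtype.ext ?_)⟩
      rw [he0]
      refine huniq _ (hnn _) _ (hhh (π y)) _ (Subtype.property _) 1 (one_mem _) ?_
      rw [hdec', hy, mul_one]
  refine ⟨Additive N, inferInstance, inferInstance, inferInstance, hirr, Equiv.ofBijective e0 hbij,
    fun g => ⟨e0 g, fun ω => ?_⟩⟩
  induction ω using QuotientGroup.induction_on with | H y => ?_
  apply Additive.toMul.injective
  apply Subtype.ext
  change nn (π (g * y)) = _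
  rw [Equiv.ofBijective_apply, toMul_add, Subgroup.coe_mul, hsm, he0, he0]
  refine huniq _ (hnn _) _ (hhh (π (g * y))) _ (mul_mem (hnn _) (hNn.conj_mem _ (hnn _) _)) _
    (mul_mem (hhh (π g)) (hhh (π y))) ?_
  rw [hdec', hcomm _ (hnn _) _ (hNn.conj_mem _ (hnn _) _), map_mul]
  calc π g * π y = π g * (nn (π y) * hh (π y)) := by rw [hdec']
    _ = π g * nn (π y) * (π g)⁻¹ * (nn (π g) * hh (π g)) * hh (π y) := by
      rw [hdec' (π g)]; group
    _ = _ := by group

/-- bound for the derived length of a solvable permutation group of degree `n ≤ 8` -/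
def dd (n : ℕ) : ℕ :=
  if n ≤ 1 then 0 else if n ≤ 2 then 1 else if n ≤ 3 then 2 else if n ≤ 7 then 3 else 4

theorem dd_mono {a b : ℕ} (h : a ≤ b) : dd a ≤ dd b := by
  unfold dd
  split_ifs <;> omega

theorem idx_top (n : ℕ) : ∀ (G : Type u) [Group G] [Finite G], Group.IsSolvable G →
    ∀ H : Subgroup G, H.index = n → n ≤ 8 → ds ⊤ (dd n) ≤ H := by
  induction n using Nat.strong_induction_on with | _ n ih => ?_
  intro G _ _ hG H hn h8
  rcases eq_top_or_exists_le_coatom H with rfl | ⟨K, hK, hHK⟩
  · exact le_top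
  have hK1 : 1 < K.index := Subgroup.one_lt_index_of_ne_top hK.1
  have hmul := Subgroup.relIndex_mul_index hHK
  rw [hn] at hmul
  by_cases hne : H = K
  · subst hne
    obtain ⟨N, _, _, _, hirr, e, he⟩ := aff_model hG hK
    have hc : Nat.card N = n := by rw [← hn, ← Nat.card_congr e]; rfl
    have key : ∀ k, (∀ g ∈ ds (⊤ : Subgroup G) k, ∀ x : N, g • x = x) → ds ⊤ (k + 1) ≤ H := by
      intro k hk
      refine ds_succ_le fun x hx y hy => ?_
      obtain ⟨a, ha⟩ := he x
      obtain ⟨b, hb⟩ := he y
      have h1 : ∀ ω : G ⧸ H, x • y • ω = y • x • ω := fun ω => e.injective (by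
        rw [ha, hb, hb, ha, hk x hx, hk y hy, hk x hx, hk y hy, add_left_comm])
      have h2 : ⁅x, y⁆ • ((1 : G) : G ⧸ H) = (1 : G) := by
        rw [commutatorElement_def, mul_smul, mul_smul, mul_smul, h1, smul_inv_smul, smul_inv_smul]
      rw [MulAction.Quotient.smul_mk, smul_eq_mul, mul_one, eq_comm, QuotientGroup.eq] at h2
      simpa using h2
    by_cases hp : n.Prime
    · obtain ⟨x, hx⟩ := exists_gen_of_prime (hc ▸ hp)
      by_cases h2 : n = 2
      · rw [h2]
        refine key 0 fun g _ y => ?_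
        by_cases hy : y = 0
        · rw [hy, smul_zero]
        · obtain ⟨z, -, hz⟩ := (Nat.card_eq_two_iff' (0 : N)).1 (hc.trans h2)
          rw [hz y hy]
          exact hz _ (by rw [← hz y hy]; exact act_ne_zero g hy)
      refine (ds_anti _ (?_ : 1 + 1 ≤ dd n)).trans (key 1 fun g hg y => ?_)
      · have := hp.two_le
        unfold dd
        split_ifs <;> omega
      · obtain ⟨k, rfl⟩ := hx y
        have : g ∈ MulAction.stabilizer G x := by
          refine ds_succ_le (n := 0) (fun a _ b _ => ?_) hg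
          obtain ⟨i, hi⟩ := hx (a • x)
          obtain ⟨j, hj⟩ := hx (b • x)
          have h1 : ∀ y : N, a • b • y = b • a • y := by
            intro y
            obtain ⟨l, rfl⟩ := hx y
            rw [smul_comm b, smul_comm a, smul_comm a l, smul_comm b l, ← hj, smul_comm a, ← hi,
              smul_comm b, ← hj, smul_comm i]
          rw [MulAction.mem_stabilizer_iff, commutatorElement_def, mul_smul, mul_smul, mul_smul,
            h1, smul_inv_smul, smul_inv_smul]
        rw [smul_comm, this]
    have h6 : n ≠ 6 := by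
      rintro rfl
      haveI := hirr.1
      obtain ⟨x, hx⟩ := exists_ne (0 : N)
      have h2 := hirr.nsmul_eq_zero Nat.prime_two (by rw [hc]; decide) x
      have h3 := hirr.nsmul_eq_zero Nat.prime_three (by rw [hc]; decide) x
      rw [succ_nsmul, h2, zero_add] at h3
      exact hx h3
    refine (ds_anti _ (?_ : dd (n - 1) + 1 ≤ dd n)).trans (key _ fun g hg x => ?_)
    · rw [hn] at hK1
      interval_cases n <;> first | decide | exact absurd rfl h6 | exact absurd (by norm_num) hp
    · by_cases hx : x = 0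
      · rw [hx, smul_zero]
      have hlt : (MulAction.stabilizer G x).index < n := by
        rw [MulAction.index_stabilizer, ← hc, ← Set.ncard_univ]
        refine Set.ncard_lt_ncard (Set.ssubset_univ_iff.2 fun h => ?_)
        obtain ⟨g, hg⟩ : (0 : N) ∈ MulAction.orbit G x := h ▸ Set.mem_univ _
        exact act_ne_zero g hx hg
      exact ih _ hlt G hG _ rfl (by omega) (ds_anti _ (dd_mono (by omega)) hg)
  · have h1 : 1 < H.relIndex K := by
      have h0 : H.relIndex K ≠ 0 := Subgroup.FiniteIndex.index_ne_zero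
      have : H.relIndex K ≠ 1 := fun h => hne (le_antisymm hHK (Subgroup.relIndex_eq_one.1 h))
      omega
    have ha : H.relIndex K < n := by nlinarith
    have hb : K.index < n := by nlinarith
    have h2 := ih _ hb G hG K rfl (by omega)
    have h3 : ds K (dd (H.relIndex K)) ≤ H := by
      rw [ds_eq_map, Subgroup.map_le_iff_le_comap]
      exact ih _ ha K inferInstance (H.subgroupOf K) rfl (by omega)
    refine (ds_anti _ (?_ : dd K.index + dd (H.relIndex K) ≤ dd n)).trans ?_
    · generalize K.index = a at *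
      generalize H.relIndex K = b at *
      subst hmul
      have : a ≤ 4 := by nlinarith
      have : b ≤ 4 := by nlinarith
      interval_cases a <;> interval_cases b <;> first | decide | omega
    · rw [← ds_add]
      exact (ds_mono h2 _).trans h3

/-- a point with a small orbit is fixed by a term of the derived series -/
theorem ds_fix {G Ω : Type*} [Group G] [Finite G] (hG : Group.IsSolvable G) [MulAction G Ω]
    (L : Subgroup G) {y : Ω} {Y : Set Ω} (hY : Y.Finite) {n : ℕ} (hn : Y.ncard ≤ n) (h8 : n ≤ 8)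
    (h : ∀ g ∈ L, g • y ∈ Y) {g : G} (hg : g ∈ ds L (dd n)) : g • y = y := by
  have h1 : (MulAction.stabilizer L y).index ≤ n := by
    rw [MulAction.index_stabilizer]
    exact (Set.ncard_le_ncard (by rintro _ ⟨g, rfl⟩; exact h g g.2) hY).trans hn
  have h2 := ds_anti _ (dd_mono h1) hg
  rw [ds_eq_map] at h2
  obtain ⟨g', hg', rfl⟩ := h2
  exact idx_top _ L inferInstance _ rfl (h1.trans h8) hg'

end Cfsg.Agent.SolvLin
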