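import Cfsg.Agent.SolvLin.Defs

/-!
# An irreducible module is imprimitive or carries a maximal invariant field
-/

set_option autoImplicit false
set_option linter.style.haveILetI false

namespace Cfsg.Agent.SolvLin

variable {G V : Type*} [Group G] [AddCommGroup V] [DistribMulAction G V]

/-- conjugation of additive endomorphisms by a group element -/
def cj (g : G) : AddMonoid.End V →+* AddMonoid.End V where
  toFun x := DistribMulAction.toAddMonoidEnd G V g * x * DistribMulAction.toAddMonoidEnd G V g⁻¹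
  map_one' := by rw [mul_one, ← map_mul, mul_inv_cancel, map_one]
  map_mul' x y := by
    ext v
    change g • x (y (g⁻¹ • v)) = g • x (g⁻¹ • g • y (g⁻¹ • v))
    rw [inv_smul_smul]
  map_zero' := by rw [mul_zero, zero_mul]
  map_add' x y := by rw [mul_add, add_mul]

theorem cj_apply (g : G) (x : AddMonoid.End V) (v : V) : cj g x v = g • x (g⁻¹ • v) := rfl

theorem cj_mul (g h : G) (x : AddMonoid.End V) : cj (g * h) x = cj g (cj h x) := by
  ext v
  simp [cj_apply, mul_smul]

theorem cj_one (x : AddMonoid.End V) : cj (1 : G) x = x := by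
  ext v
  simp [cj_apply]

theorem cj_inj (g : G) : Function.Injective (cj g : AddMonoid.End V → AddMonoid.End V) := by
  intro x y h
  have := congrArg (cj g⁻¹) h
  rwa [← cj_mul, ← cj_mul, inv_mul_cancel, cj_one, cj_one] at this

/-- invariant commutative subrings -/
def InvComm (G : Type*) [Group G] [DistribMulAction G V] (K : Subring (AddMonoid.End V)) : Prop :=
  (∀ x ∈ K, ∀ y ∈ K, x * y = y * x) ∧ ∀ g : G, ∀ x ∈ K, cj g x ∈ K

instance finite_end [Finite V] : Finite (AddMonoid.End V) :=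
  Finite.of_injective (fun (f : AddMonoid.End V) => (f : V → V)) DFunLike.coe_injective

theorem InvComm.reduced [Finite V] (hirr : Irr G V) {K : Subring (AddMonoid.End V)}
    (hK : InvComm G K) {x : AddMonoid.End V} (hx : x ∈ K) (hn : IsNilpotent x) : x = 0 := by
  classical
  let U : AddSubgroup V :=
    { carrier := {v | ∀ x ∈ K, IsNilpotent x → x v = 0}
      add_mem' := fun {a b} ha hb x hx hn => by rw [map_add, ha x hx hn, hb x hx hn, add_zero]
      zero_mem' := fun x _ _ => map_zero x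
      neg_mem' := fun {a} ha x hx hn => by rw [map_neg, ha x hx hn, neg_zero] }
  have hU : Inv G U := by
    intro g v hv x hx hn
    have := hv (cj g⁻¹ x) (hK.2 _ _ hx) (hn.map _)
    rw [cj_apply, inv_inv, smul_eq_zero_iff_eq] at this
    exact this
  haveI := hirr.1
  obtain ⟨v0, hv0⟩ := exists_ne (0 : V)
  obtain ⟨A, -, ⟨v, hv, rfl⟩, hmax⟩ := Finite.exists_le_maximal
    (p := fun A : Set (AddMonoid.End V) => ∃ v : V, v ≠ 0 ∧ {x | x ∈ K ∧ x v = 0} = A)
    ⟨v0, hv0, rfl⟩
  have hvU : v ∈ U := by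
    intro y hy hny
    have hex : ∃ n : ℕ, (y ^ n) v = 0 := by
      obtain ⟨n, hn⟩ := hny
      exact ⟨n, by rw [hn]; rfl⟩
    have h0 : Nat.find hex ≠ 0 := by
      intro h
      have := Nat.find_spec hex
      rw [h, pow_zero] at this
      exact hv this
    obtain ⟨k, hk⟩ := Nat.exists_eq_succ_of_ne_zero h0
    have h1 : (y ^ k) v ≠ 0 := Nat.find_min hex (by omega)
    have h2 := Nat.find_spec hex
    rw [hk, pow_succ'] at h2
    refine (hmax ⟨_, h1, rfl⟩ ?_ ⟨hy, h2⟩).2
    rintro z ⟨hz, hzv⟩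
    refine ⟨hz, ?_⟩
    change (z * y ^ k) v = 0
    rw [hK.1 z hz _ (pow_mem hy k)]
    change (y ^ k) (z v) = 0
    rw [hzv, map_zero]
  rcases hirr.2 U hU with h | h
  · rw [h] at hvU
    exact absurd hvU hv
  · ext w
    have : w ∈ U := h ▸ AddSubgroup.mem_top w
    exact this x hx hn

theorem exists_idem_pow {R : Type*} [Monoid R] [Finite R] (x : R) :
    ∃ m, 0 < m ∧ x ^ m * x ^ m = x ^ m := by
  obtain ⟨a, b, hab, h⟩ := Finite.exists_ne_map_eq_of_infinite (fun n : ℕ => x ^ n)
  wlog hlt : a < b generalizing a b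
  · exact this b a hab.symm h.symm (by omega)
  obtain ⟨d, rfl⟩ := Nat.exists_eq_add_of_lt hlt
  have h1 : ∀ k, x ^ (a + k * (d + 1)) = x ^ a := by
    intro k
    induction k with
    | zero => simp
    | succ k ih =>
      rw [show a + (k + 1) * (d + 1) = (a + d + 1) + k * (d + 1) by ring, pow_add]
      rw [← h, ← pow_add, ih]
  refine ⟨(a + 1) * (d + 1), by positivity, ?_⟩
  obtain ⟨t, ht⟩ : ∃ t, (a + 1) * (d + 1) = a + t := ⟨(a + 1) * (d + 1) - a, by
    have : a ≤ (a + 1) * (d + 1) := by nlinarith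
    omega⟩
  rw [← pow_add]
  calc x ^ ((a + 1) * (d + 1) + (a + 1) * (d + 1)) = x ^ (a + (a + 1) * (d + 1)) * x ^ t := by
        rw [← pow_add]; congr 1; omega
    _ = _ := by rw [h1, ← pow_add, ht]

theorem InvComm.imprim [Finite G] [Finite V] (hirr : Irr G V) {K : Subring (AddMonoid.End V)}
    (hK : InvComm G K) {e : AddMonoid.End V} (he : e ∈ K) (hee : e * e = e) (he0 : e ≠ 0)
    (he1 : e ≠ 1) : Nonempty (Imprim G V) := by
  classical
  obtain ⟨A, -, ⟨e1, ⟨h1K, h11, h10⟩, rfl⟩, hmin⟩ := Finite.exists_le_minimal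
    (p := fun A : AddSubgroup V => ∃ f : AddMonoid.End V, (f ∈ K ∧ f * f = f ∧ f ≠ 0) ∧
      AddMonoidHom.range f = A) ⟨e, ⟨he, hee, he0⟩, rfl⟩
  -- `e1` is a minimal idempotent
  have hle : ∀ f ∈ K, f * f = f → e1 * f = 0 ∨ e1 * f = e1 := by
    intro f hf hff
    by_cases h : e1 * f = 0
    · exact Or.inl h
    right
    have h2 : (e1 * f) * (e1 * f) = e1 * f := by
      rw [mul_assoc, ← mul_assoc f, hK.1 f hf e1 h1K, mul_assoc, hff, ← mul_assoc, h11]
    have h3 := hmin ⟨e1 * f, ⟨mul_mem h1K hf, h2, h⟩, rfl⟩ (by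
      rintro _ ⟨v, rfl⟩
      exact ⟨f v, rfl⟩)
    ext v
    obtain ⟨w, hw⟩ := h3 ⟨v, rfl⟩
    have h4 : (e1 * f) (e1 v) = e1 v := by
      have : (e1 * f) w = e1 v := hw
      rw [← this]
      exact DFunLike.congr_fun h2 w
    have h5 : e1 * f * e1 = e1 * f := by
      rw [mul_assoc, hK.1 f hf e1 h1K, ← mul_assoc, h11]
    rw [← h5]
    exact h4
  have horth : ∀ g h : G, cj g e1 ≠ cj h e1 → cj g e1 * cj h e1 = 0 := by
    intro g h hne
    have hid : ∀ k : G, cj k e1 * cj k e1 = cj k e1 := fun k => by rw [← map_mul, h11]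
    rcases hle _ (hK.2 (g⁻¹ * h) _ h1K) (hid _) with h1 | h1
    · have := congrArg (cj g) h1
      rwa [map_mul, map_zero, ← cj_mul, mul_inv_cancel_left] at this
    rcases hle _ (hK.2 (h⁻¹ * g) _ h1K) (hid _) with h2 | h2
    · have := congrArg (cj h) h2
      rwa [map_mul, map_zero, ← cj_mul, mul_inv_cancel_left,
        hK.1 _ (hK.2 _ _ h1K) _ (hK.2 _ _ h1K)] at this
    have h3 := congrArg (cj g) h1
    have h4 := congrArg (cj h) h2
    rw [map_mul, ← cj_mul, mul_inv_cancel_left] at h3 h4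
    rw [hK.1 _ (hK.2 _ _ h1K) _ (hK.2 _ _ h1K), h3] at h4
    exact absurd h4 hne
  let H1 : Subgroup G :=
    { carrier := {g | cj g e1 = e1}
      mul_mem' := fun {a b} ha hb => by
        change cj (a * b) e1 = e1
        rw [cj_mul, hb, ha]
      one_mem' := cj_one _
      inv_mem' := fun {a} ha => by
        change cj a⁻¹ e1 = e1
        apply cj_inj a
        rw [← cj_mul, mul_inv_cancel, cj_one, ha] }
  have hH1 : H1 ≠ ⊤ := by
    intro h
    have hinv : Inv G (AddMonoidHom.range e1) := by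
      rintro g _ ⟨v, rfl⟩
      have hg : cj g e1 = e1 := (h ▸ Subgroup.mem_top g : g ∈ H1)
      refine ⟨g • v, ?_⟩
      have := DFunLike.congr_fun hg (g • v)
      rw [cj_apply, inv_smul_smul] at this
      exact this.symm
    rcases hirr.2 _ hinv with h2 | h2
    · apply h10
      ext v
      have : e1 v ∈ AddMonoidHom.range e1 := ⟨v, rfl⟩
      rw [h2] at this
      exact this
    · have h3 : e1 = 1 := by
        ext v
        obtain ⟨w, rfl⟩ : v ∈ AddMonoidHom.range e1 := h2 ▸ AddSubgroup.mem_top v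
        exact DFunLike.congr_fun h11 w
      rcases hle e he hee with h4 | h4
      · rw [h3, one_mul] at h4
        exact he0 h4
      · rw [h3, one_mul] at h4
        exact he1 h4
  obtain ⟨H, hH, hH1H⟩ := (eq_top_or_exists_le_coatom H1).resolve_left hH1
  haveI := Fintype.ofFinite G
  let T : Finset (AddMonoid.End V) := (Finset.univ.filter (· ∈ H)).image (fun g : G => cj g e1)
  have hT : ∀ f, f ∈ T ↔ ∃ h ∈ H, cj h e1 = f := by
    intro f
    simp [T]
  let e' : AddMonoid.End V := ∑ f ∈ T, f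
  have hmul : ∀ f ∈ T, e' * f = f := by
    intro f hf
    rw [Finset.sum_mul, Finset.sum_eq_single f]
    · obtain ⟨h, -, rfl⟩ := (hT f).1 hf
      rw [← map_mul, h11]
    · intro f' hf' hne
      obtain ⟨h, -, rfl⟩ := (hT f).1 hf
      obtain ⟨h', -, rfl⟩ := (hT f').1 hf'
      exact horth _ _ hne
    · intro h
      exact absurd hf h
  have hcj : ∀ h ∈ H, cj h e' = e' := by
    intro h hh
    rw [map_sum]
    refine Finset.sum_bij (fun f _ => cj h f) ?_ ?_ ?_ (fun _ _ => rfl)
    · intro f hf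
      obtain ⟨k, hk, rfl⟩ := (hT f).1 hf
      exact (hT _).2 ⟨h * k, mul_mem hh hk, cj_mul _ _ _⟩
    · intro f _ f' _ hff
      exact cj_inj h hff
    · intro f hf
      obtain ⟨k, hk, rfl⟩ := (hT f).1 hf
      exact ⟨cj (h⁻¹ * k) e1, (hT _).2 ⟨_, mul_mem (inv_mem hh) hk, rfl⟩, by
        rw [← cj_mul, mul_inv_cancel_left]⟩
  refine ⟨⟨H, hH, e', ?_, ?_, ?_, ?_⟩⟩
  · intro v
    have : e' * e' = e' := by
      conv_lhs => rw [Finset.mul_sum, Finset.sum_congr rfl hmul]
    exact DFunLike.congr_fun this v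
  · intro h
    have := hmul e1 ((hT _).2 ⟨1, one_mem _, cj_one _⟩)
    have h' : e' = 0 := h
    rw [h', zero_mul] at this
    exact h10 this.symm
  · intro h hh v
    have := DFunLike.congr_fun (hcj h hh) (h • v)
    rw [cj_apply, inv_smul_smul] at this
    exact this.symm
  · intro g hg v
    have : e' * cj g e' = 0 := by
      rw [map_sum, Finset.sum_mul_sum]
      refine Finset.sum_eq_zero fun f hf => Finset.sum_eq_zero fun f' hf' => ?_
      obtain ⟨h, hh, rfl⟩ := (hT f).1 hf
      obtain ⟨h', hh', rfl⟩ := (hT f').1 hf'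
      rw [← cj_mul]
      refine horth _ _ fun hne => hg ?_
      have h1 : h⁻¹ * (g * h') ∈ H1 := by
        change cj _ e1 = e1
        rw [cj_mul, ← hne, ← cj_mul, inv_mul_cancel, cj_one]
      have := mul_mem (mul_mem hh (hH1H h1)) (inv_mem hh')
      simpa using this
    have := DFunLike.congr_fun this (g • v)
    change e' (cj g e' (g • v)) = 0 at this
    rw [cj_apply, inv_smul_smul] at this
    exact this

universe v

theorem imprim_or_setup {G : Type*} {V : Type v} [Group G] [Finite G] [AddCommGroup V] [Finite V]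
    [DistribMulAction G V] (hG : Group.IsSolvable G) (hirr : Irr G V) :
    Nonempty (Imprim G V) ∨ ∃ (K : Type v) (_ : Field K) (_ : Finite K) (_ : Module K V)
      (Γ : Type v) (_ : Group Γ) (_ : Finite Γ) (_ : DistribMulAction Γ V) (S : Setup K V Γ)
      (f : G →* Γ), (∀ g (v : V), f g • v = g • v) ∧ ∀ γ : Γ, γ ^ Nat.card G ∈ S.s.range := by
  classical
  haveI := hirr.1
  have hP0 : InvComm G (Subring.center (AddMonoid.End V)) := by
    refine ⟨fun x hx y _ => (Subring.mem_center_iff.1 hx y).symm, fun g x hx => ?_⟩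
    have : cj g x = x := by
      change _ * x * _ = x
      rw [Subring.mem_center_iff.1 hx, mul_assoc, ← map_mul, mul_inv_cancel, map_one, mul_one]
    rwa [this]
  obtain ⟨K, -, hK, hmax⟩ := Finite.exists_le_maximal (p := InvComm G) hP0
  by_cases hid : ∃ e ∈ K, e * e = e ∧ e ≠ 0 ∧ e ≠ 1
  · obtain ⟨e, he, h1, h2, h3⟩ := hid
    exact Or.inl (hK.imprim hirr he h1 h2 h3)
  right
  push Not at hid
  have hfield : IsField K := by
    refine ⟨⟨0, 1, fun h => ?_⟩, fun x y => Subtype.ext (hK.1 x x.2 y y.2), fun {x} hx => ?_⟩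
    · obtain ⟨v, hv⟩ := exists_ne (0 : V)
      have := DFunLike.congr_fun (congrArg Subtype.val h) v
      exact hv this.symm
    · obtain ⟨m, hm, hmm⟩ := exists_idem_pow (x : AddMonoid.End V)
      have h1 := hid _ (pow_mem x.2 m) hmm (fun h => hx (Subtype.ext (hK.reduced hirr x.2 ⟨m, h⟩)))
      obtain ⟨k, rfl⟩ := Nat.exists_eq_succ_of_ne_zero hm.ne'
      refine ⟨x ^ k, Subtype.ext ?_⟩
      rw [pow_succ'] at h1
      simpa using h1
  letI : Field K := hfield.toField
  let ρ : G →* (AddMonoid.End V)ˣ := (DistribMulAction.toAddMonoidEnd G V).toHomUnits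
  let s : Kˣ →* (AddMonoid.End V)ˣ := Units.map K.subtype.toMonoidHom
  have hsK : ∀ u : (AddMonoid.End V)ˣ, u ∈ s.range ↔ (u : AddMonoid.End V) ∈ K := by
    intro u
    constructor
    · rintro ⟨c, rfl⟩
      exact (c : K).2
    · intro hu
      refine ⟨Units.mk0 ⟨u, hu⟩ (fun h => ?_), Units.ext rfl⟩
      obtain ⟨v, hv⟩ := exists_ne (0 : V)
      have h2 : (u : AddMonoid.End V) = 0 := congrArg Subtype.val h
      have h3 := u.inv_mul
      rw [h2, mul_zero] at h3
      exact hv (DFunLike.congr_fun h3 v).symm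
  have hconj : ∀ g, ∀ u ∈ s.range, ρ g * u * (ρ g)⁻¹ ∈ s.range := by
    intro g u hu
    rw [hsK] at hu ⊢
    rw [← map_inv]
    exact hK.2 g _ hu
  let Γ : Subgroup (AddMonoid.End V)ˣ :=
    { carrier := {γ | ∃ g, ∃ u ∈ s.range, γ = u * ρ g}
      mul_mem' := by
        rintro _ _ ⟨g, u, hu, rfl⟩ ⟨g', u', hu', rfl⟩
        exact ⟨g * g', u * (ρ g * u' * (ρ g)⁻¹), mul_mem hu (hconj g u' hu'), by
          rw [map_mul]; group⟩
      one_mem' := ⟨1, 1, one_mem _, by simp⟩
      inv_mem' := by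
        rintro _ ⟨g, u, hu, rfl⟩
        exact ⟨g⁻¹, _, hconj g⁻¹ u⁻¹ (inv_mem hu), by rw [map_inv]; group⟩ }
  let sΓ : Kˣ →* Γ := s.codRestrict Γ (fun c => ⟨1, s c, ⟨c, rfl⟩, by simp⟩)
  let f : G →* Γ := ρ.codRestrict Γ (fun g => ⟨g, 1, one_mem _, by simp⟩)
  have hsΓ : ∀ γ : Γ, γ ∈ sΓ.range ↔ (γ : (AddMonoid.End V)ˣ) ∈ s.range := by
    intro γ
    constructor
    · rintro ⟨c, rfl⟩
      exact ⟨c, rfl⟩
    · rintro ⟨c, hc⟩
      exact ⟨c, Subtype.ext hc⟩
  haveI hnorm : sΓ.range.Normal := by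
    constructor
    rintro n hn ⟨_, g, u, hu, rfl⟩
    rw [hsΓ] at hn ⊢
    have := mul_mem (mul_mem hu (hconj g _ hn)) (inv_mem hu)
    convert this using 1
    simp only [Subgroup.coe_mul, Subgroup.coe_inv]
    group
  have hsurj : Function.Surjective ((QuotientGroup.mk' sΓ.range).comp f) := by
    intro x
    induction x using QuotientGroup.induction_on with | H γ => ?_
    obtain ⟨_, g, u, hu, rfl⟩ := γ
    refine ⟨g, ?_⟩
    change ((f g : Γ) : Γ ⧸ sΓ.range) = _
    rw [QuotientGroup.eq, hsΓ]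
    have := hconj g⁻¹ u hu
    convert this using 1
    simp [f, mul_assoc]
  have hsolv : Group.IsSolvable Γ := by
    haveI : Group.IsSolvable (Γ ⧸ sΓ.range) := Group.isSolvable_of_surjective hsurj
    haveI : Group.IsSolvable Kˣ := inferInstance
    exact Group.isSolvable_of_ker_le_range sΓ (QuotientGroup.mk' sΓ.range) (by simp)
  refine ⟨K, inferInstance, inferInstance, inferInstance, Γ, inferInstance, inferInstance,
    inferInstance, ⟨sΓ, fun c v => rfl, ?_, hnorm, hsolv, ?_, hirr.1⟩, f, fun g v => rfl, ?_⟩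
  · intro g hg
    apply Subtype.ext
    apply Units.ext
    ext v
    exact hg v
  · intro B hB hcomm hZB
    let B' : Set (AddMonoid.End V) := (fun γ : Γ => ((γ : (AddMonoid.End V)ˣ) : AddMonoid.End V)) '' B
    have hK' : InvComm G (Subring.closure B') := by
      constructor
      · have := Subring.isMulCommutative_closure (s := B') (by
          rintro _ ⟨x, hx, rfl⟩ _ ⟨y, hy, rfl⟩
          exact congrArg (fun γ : Γ => ((γ : (AddMonoid.End V)ˣ) : AddMonoid.End V))
            (hcomm x hx y hy))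
        intro x hx y hy
        exact setLike_mul_comm hx hy
      · intro g x hx
        have : Subring.closure B' ≤ (Subring.closure B').comap (cj g) := by
          rw [Subring.closure_le]
          rintro _ ⟨y, hy, rfl⟩
          apply Subring.subset_closure
          refine ⟨_, hB.conj_mem y hy (f g), ?_⟩
          rw [← map_inv]
          rfl
        exact this hx
    have hle : K ≤ Subring.closure B' := by
      intro x hx
      by_cases hx0 : (⟨x, hx⟩ : K) = 0
      · have : x = 0 := congrArg Subtype.val hx0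
        rw [this]
        exact zero_mem _
      · exact Subring.subset_closure ⟨_, hZB ⟨Units.mk0 _ hx0, rfl⟩, rfl⟩
    intro γ hγ
    rw [hsΓ, hsK]
    exact hmax hK' hle (Subring.subset_closure ⟨γ, hγ, rfl⟩)
  · intro γ
    rw [← QuotientGroup.eq_one_iff, QuotientGroup.mk_pow]
    obtain ⟨g, hg⟩ := hsurj (γ : Γ ⧸ sΓ.range)
    have := map_pow ((QuotientGroup.mk' sΓ.range).comp f) g (Nat.card G)
    rw [pow_card_eq_one', map_one, hg] at this
    exact this.symm

end Cfsg.Agent.SolvLin
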