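import Cfsg.Agent.SolvLin.Design

/-!
# Solvable `3'`-groups on symplectic spaces of order 16 and 64
-/

set_option autoImplicit false
set_option linter.style.haveILetI false
open scoped commutatorElement

namespace Cfsg.Agent.SolvLin

open MulAction

theorem card_modEq_fix {G X : Type*} [Group G] [MulAction G X] [Finite X] {p : ℕ} [Fact p.Prime]
    (hG : IsPGroup p G) (S : Set X) (hS : ∀ g : G, ∀ x ∈ S, g • x ∈ S) :
    S.ncard ≡ {x | x ∈ S ∧ ∀ g : G, g • x = x}.ncard [MOD p] := by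
  let S' : SubMulAction G X := ⟨S, fun g {x} hx => hS g x hx⟩
  have h := hG.card_modEq_card_fixedPoints S'
  rw [← Nat.card_coe_set_eq, ← Nat.card_coe_set_eq]
  have e : fixedPoints G S' ≃ {x | x ∈ S ∧ ∀ g : G, g • x = x} :=
    ⟨fun x => ⟨x.1.1, x.1.2, fun g => congrArg Subtype.val (x.2 g)⟩,
      fun x => ⟨⟨x.1, x.2.1⟩, fun g => Subtype.ext (x.2.2 g)⟩, fun _ => rfl, fun _ => rfl⟩
  rwa [Nat.card_congr e] at h

theorem pow_smul_fix {G X : Type*} [Group G] [MulAction G X] {t : G} {x : X} (h : t • x = x)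
    (n : ℕ) : t ^ n • x = x := (stabilizer G x).pow_mem h n

theorem card_modEq_fix_one {G X : Type*} [Group G] [MulAction G X] [Finite X] {p : ℕ}
    [Fact p.Prime] {t : G} (ht : t ^ p = 1) (S : Set X) (hS : ∀ x ∈ S, t • x ∈ S) :
    S.ncard ≡ {x | x ∈ S ∧ t • x = x}.ncard [MOD p] := by
  have hp : p.Prime := Fact.out
  have hfin : IsOfFinOrder t := isOfFinOrder_iff_pow_eq_one.2 ⟨p, hp.pos, ht⟩
  have h := card_modEq_fix (G := Subgroup.zpowers t) (p := p) (by
    rintro ⟨_, k, rfl⟩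
    refine ⟨1, Subtype.ext ?_⟩
    change (t ^ k) ^ p ^ 1 = 1
    rw [pow_one, ← zpow_natCast, ← zpow_mul, mul_comm, zpow_mul, zpow_natCast, ht, one_zpow]) S (by
    rintro ⟨g, hg⟩ x hx
    obtain ⟨n, rfl⟩ := hfin.mem_powers_iff_mem_zpowers.2 hg
    change t ^ n • x ∈ S
    clear hg
    induction n with
    | zero => simpa using hx
    | succ n ih => rw [pow_succ', mul_smul]; exact hS _ ih)
  convert h using 2
  ext x
  exact and_congr_right fun _ => ⟨fun h g =>
    (Subgroup.zpowers_le (H := stabilizer G x)).2 h g.2,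
    fun h => h ⟨t, Subgroup.mem_zpowers t⟩⟩

instance fact7 : Fact (Nat.Prime 7) := ⟨by norm_num⟩

set_option synthInstance.maxSize 100000 in
set_option synthInstance.maxHeartbeats 200000 in
theorem fpf_arith {n c d s : ℕ} (hs : s.Prime) (h2 : s ≠ 2) (h3 : s ≠ 3) (hn : n = 16 ∨ n = 64)
    (a1 : n ≡ c [MOD s]) (a2 : n ≡ d [MOD s]) (a3 : d ≤ c) (a4 : c ∣ n) (a5 : c ≠ n) (a6 : c ≠ 8)
    (a7 : d = 1 ∨ 5 ≤ d) : c = 1 ∧ (n = 16 ∧ s = 5 ∨ n = 64 ∧ s = 7) := by
  have b1 : c ≤ n := Nat.le_of_dvd (by omega) a4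
  have b2 : s < 65 := by
    have := Nat.le_of_dvd (by omega) ((Nat.modEq_iff_dvd' b1).1 a1.symm)
    omega
  have b3 : ¬ 2 ∣ s := fun e => h2 ((Nat.prime_dvd_prime_iff_eq Nat.prime_two hs).1 e).symm
  have b4 : ¬ 3 ∣ s := fun e => h3 ((Nat.prime_dvd_prime_iff_eq Nat.prime_three hs).1 e).symm
  have key : ∀ n ∈ [16, 64], ∀ c < 65, c ∣ n → c ≠ n → c ≠ 8 → ∀ s < 65, s ≠ 1 → ¬ 2 ∣ s →
      ¬ 3 ∣ s → n % s = c % s → ∀ d < 65, d ≤ c → n % s = d % s → (d = 1 ∨ 5 ≤ d) →
      c = 1 ∧ (n = 16 ∧ s = 5 ∨ n = 64 ∧ s = 7) := by decide +kernel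
  exact key n (by simpa using hn) c (by omega) a4 a5 a6 s b2 hs.one_lt.ne' b3 b4 a1 d (by omega)
    a3 a2 a7

/-- the data of an invariant symplectic form without invariant isotropic vectors -/
structure Sympl (R W : Type*) {C : Type*} [Group R] [CommGroup W] [CommGroup C]
    [MulDistribMulAction R W] (b : W →* W →* C) (ε : C) : Prop where
  sq : ∀ w : W, w * w = 1
  alt : ∀ w, b w w = 1
  val : ∀ x y, b x y = 1 ∨ b x y = ε
  inv : ∀ (r : R) x y, b (r • x) (r • y) = b x y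
  orb : ∀ w, (∀ r : R, b w (r • w) = 1) → w = 1
  faith : ∀ r : R, (∀ w : W, r • w = w) → r = 1

namespace Sympl
variable {R W C : Type*} [Group R] [CommGroup W] [CommGroup C] [MulDistribMulAction R W]
  {b : W →* W →* C} {ε : C} (h : Sympl R W b ε)
include h

theorem b_sq (x y : W) : b x y * b x y = 1 := by rw [← map_mul, h.sq, map_one]

theorem symm (x y : W) : b y x = b x y := by
  have h1 := h.alt (x * y)
  simp only [map_mul, MonoidHom.mul_apply, h.alt, one_mul, mul_one] at h1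
  exact mul_right_cancel (h1.trans (h.b_sq x y).symm)

theorem nondeg {w : W} (hw : ∀ y, b w y = 1) : w = 1 := h.orb w fun _ => hw _

theorem eq_of_mul {x y : W} (hxy : x * y = 1) : x = y := mul_right_cancel (hxy.trans (h.sq y).symm)

theorem alt8 [Finite W] (U : Subgroup W) (hU : ∀ z ∈ U, (∀ y ∈ U, b z y = 1) → z = 1) :
    Nat.card U ≠ 8 := by
  classical
  intro h8
  haveI : Nontrivial U := Finite.one_lt_card_iff_nontrivial.1 (by omega)
  obtain ⟨⟨x, hx⟩, hx1⟩ := exists_ne (1 : U)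
  obtain ⟨y, hy, hxy⟩ : ∃ y ∈ U, b x y ≠ 1 := by
    by_contra hc
    push Not at hc
    exact hx1 (Subtype.ext (hU x hx hc))
  obtain ⟨z, hz, hz1, hxz, hyz⟩ : ∃ z ∈ U, z ≠ 1 ∧ b x z = 1 ∧ b y z = 1 := by
    haveI := Fintype.ofFinite U
    obtain ⟨c, c', hne, he⟩ := Fintype.exists_ne_map_eq_of_card_lt
      (fun c : U => (decide (b x c = 1), decide (b y c = 1)))
      (by rw [← Nat.card_eq_fintype_card (α := U), h8]; decide)
    simp only [Prod.mk.injEq, decide_eq_decide] at he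
    have key : ∀ a, (b a c = 1 ↔ b a c' = 1) → b a (c * c') = 1 := by
      intro a ha
      rw [map_mul]
      by_cases h1 : b a c = 1
      · rw [h1, ha.1 h1, one_mul]
      · rw [(h.val _ _).resolve_left (mt ha.2 h1), ← (h.val _ _).resolve_left h1, h.b_sq]
    exact ⟨c * c', mul_mem c.2 c'.2, fun h1 => hne (Subtype.ext (h.eq_of_mul h1)), key x he.1,
      key y he.2⟩
  have hyx : b y x ≠ 1 := by rwa [h.symm]
  let Z : Subgroup W := U ⊓ (b z).ker
  have hZ : Z = U := by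
    have h1 : Nat.card Z ∣ 8 := h8 ▸ Subgroup.card_dvd_of_le inf_le_left
    have h2 : ({1, x, y, x * y, z} : Set W) ⊆ Z := by
      have a1 : x ∈ Z := ⟨hx, (h.symm _ _).trans hxz⟩
      have a2 : y ∈ Z := ⟨hy, (h.symm _ _).trans hyz⟩
      rintro _ (rfl | rfl | rfl | rfl | rfl)
      exacts [one_mem _, a1, a2, mul_mem a1 a2, ⟨hz, h.alt _⟩]
    have d : ∀ {u w : W} (a : W), b a u = 1 → b a w ≠ 1 → u ≠ w ∧ w ≠ u :=
      fun a h1 h2 => ⟨fun e => h2 (e ▸ h1), fun e => h2 (e ▸ h1)⟩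
    have e1 : b x (x * y) ≠ 1 := by simpa [h.alt] using hxy
    have e2 : b y (x * y) ≠ 1 := by simpa [h.alt] using hyx
    have h3 : ({1, x, y, x * y, z} : Set W).ncard = 5 := by
      rw [Set.ncard_insert_of_notMem, Set.ncard_insert_of_notMem, Set.ncard_insert_of_notMem,
        Set.ncard_pair (d x hxz e1).2]
      · rintro (a | a)
        exacts [(d y (h.alt y) e2).1 a, (d x hxz hxy).2 a]
      · rintro (a | a | a)
        exacts [(d x (h.alt x) hxy).1 a, (d x (h.alt x) e1).1 a, (d y hyz hyx).2 a]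
      · rintro (a | a | a | a)
        exacts [(d y (map_one _) hyx).1 a, (d x (map_one _) hxy).1 a, (d x (map_one _) e1).1 a,
          hz1 a.symm]
    have h4 := Set.ncard_le_ncard h2
    rw [h3, ← Nat.card_coe_set_eq] at h4
    refine Subgroup.eq_of_le_of_card_ge inf_le_left ?_
    have h5 : Nat.card Z ≤ 8 := Nat.le_of_dvd (by decide) h1
    change 5 ≤ Nat.card Z at h4
    rw [h8]
    generalize Nat.card Z = n at *
    revert h1
    interval_cases n <;> decide
  exact hz1 (hU z hz fun y hy => (hZ.ge hy).2)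

theorem five_le [Finite W] [Finite R] (h3 : ¬ 3 ∣ Nat.card R) {U : Subgroup W}
    (hU : ∀ r : R, ∀ w ∈ U, r • w ∈ U) (hne : U ≠ ⊥) : 5 ≤ Nat.card U := by
  obtain ⟨⟨w, hw⟩, hw1⟩ := Subgroup.ne_bot_iff_exists_ne_one.1 hne
  have hw1 : w ≠ 1 := fun e => hw1 (Subtype.ext e)
  have hfix : ∀ u : W, (∀ r : R, r • u = u) → u = 1 := fun u hu =>
    h.orb u fun r => by rw [hu, h.alt]
  have h1 : (orbit R w).ncard ∣ Nat.card R := index_stabilizer R w ▸ Subgroup.index_dvd_card _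
  have h2 : orbit R w ⊆ (U : Set W) \ {1} := by
    rintro _ ⟨r, rfl⟩
    exact ⟨hU r w hw, fun e => hw1 (smul_left_cancel r (e.trans (smul_one r).symm))⟩
  have h4 := Set.ncard_le_ncard h2
  rw [Set.ncard_sdiff_singleton_of_mem (one_mem U), ← Nat.card_coe_set_eq (U : Set W)] at h4
  have h5 : 0 < (orbit R w).ncard := (Set.ncard_pos).2 ⟨w, mem_orbit_self w⟩
  have h6 : (orbit R w).ncard ≠ 1 := by
    intro e
    obtain ⟨a, ha⟩ := Set.ncard_eq_one.1 e
    have a1 : ∀ r : R, r • w = a := fun r => (ha ▸ mem_orbit w r : r • w ∈ ({a} : Set W))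
    exact hw1 (hfix w fun r => by rw [a1, ← a1 1, one_smul])
  have h7 : (orbit R w).ncard ≠ 2 := by
    intro e
    obtain ⟨a, c, hac, ha⟩ := Set.ncard_eq_two.1 e
    have a1 : ∀ (r : R), ∀ u ∈ ({a, c} : Set W), r • u ∈ ({a, c} : Set W) := fun r u hu =>
      ha ▸ mem_orbit_of_mem_orbit r (ha ▸ hu)
    refine hac (h.eq_of_mul (hfix _ fun r => ?_))
    have a2 : r • a ≠ r • c := fun e => hac (smul_left_cancel r e)
    rw [smul_mul']
    rcases a1 r a (by simp) with e | e <;> rcases a1 r c (by simp) with e' | e'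
    · exact absurd (e.trans e'.symm) a2
    · rw [e, e']
    · rw [e, e', mul_comm]
    · exact absurd (e.trans e'.symm) a2
  have h8 : (orbit R w).ncard ≠ 3 := fun e => h3 (e ▸ h1)
  change _ ≤ Nat.card U - 1 at h4
  omega

omit h in
/-- the fixed points of a set of operators -/
def fx (W : Type*) [CommGroup W] [MulDistribMulAction R W] (P : Set R) : Subgroup W where
  carrier := {w | ∀ r ∈ P, r • w = w}
  mul_mem' := fun {x y} hx hy r hr => by rw [smul_mul', hx r hr, hy r hr]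
  one_mem' := fun r _ => smul_one r
  inv_mem' := fun {x} hx r hr => by rw [smul_inv', hx r hr]

theorem fx_ne_eight [Finite W] {t : R} {s : ℕ} (hs : Odd s) (ht : t ^ s = 1) :
    Nat.card (fx W {t}) ≠ 8 := by
  refine h.alt8 _ fun z hz hz' => h.nondeg fun w => ?_
  have hz1 : t • z = z := hz t rfl
  have h1 : ∏ j ∈ Finset.range s, t ^ j • w ∈ fx W {t} := by
    intro r hr
    rw [show r = t from hr]
    have := (Finset.prod_range_succ' (fun j => t ^ j • w) s).symm.trans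
      (Finset.prod_range_succ (fun j => t ^ j • w) s)
    rw [ht, pow_zero] at this
    rw [Finset.smul_prod', ← mul_right_cancel this]
    simp only [pow_succ', mul_smul]
  have h2 := hz' _ h1
  rw [map_prod, Finset.prod_congr rfl (fun j _ => show b z (t ^ j • w) = b z w by
    rw [← h.inv (t ^ j) z w, pow_smul_fix hz1]), Finset.prod_const, Finset.card_range] at h2
  obtain ⟨k, rfl⟩ := hs
  rwa [pow_succ, pow_mul, _root_.sq, h.b_sq, one_pow, one_mul] at h2

theorem exists_fpf [Finite W] [Finite R] (hR : Group.IsSolvable R) (h3 : ¬ 3 ∣ Nat.card R)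
    (hc : Nat.card W = 16 ∨ Nat.card W = 64) : ∃ (t : R) (s : ℕ), t ^ s = 1 ∧
      (Nat.card W = 16 ∧ s = 5 ∨ Nat.card W = 64 ∧ s = 7) ∧ (∀ w : W, t • w = w → w = 1) ∧
      ∀ r : R, Commute (r * t * r⁻¹) t := by
  haveI : Nontrivial W := Finite.one_lt_card_iff_nontrivial.1 (by omega)
  have hne : (⊤ : Subgroup R) ≠ ⊥ := by
    intro e
    obtain ⟨w, hw⟩ := exists_ne (1 : W)
    exact hw (h.orb w fun r => by
      rw [show r = 1 from Subgroup.mem_bot.1 (e ▸ Subgroup.mem_top r), one_smul, h.alt])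
  obtain ⟨N, -, ⟨hN, hN1⟩, hmin⟩ := Finite.exists_le_minimal
    (p := fun N : Subgroup R => N.Normal ∧ N ≠ ⊥) ⟨inferInstance, hne⟩
  have hlt : ⁅N, N⁆ < N := Group.IsSolvable.commutator_lt_of_ne_bot hN1
  have hNN : ⁅N, N⁆ = ⊥ := by
    by_contra e
    exact hlt.not_ge (hmin ⟨inferInstance, e⟩ hlt.le)
  have hcomm : ∀ x ∈ N, ∀ y ∈ N, Commute x y := fun x hx y hy =>
    commutatorElement_eq_one_iff_commute.1
      (Subgroup.mem_bot.1 (hNN ▸ Subgroup.commutator_mem_commutator hx hy))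
  obtain ⟨s, hs, hsN⟩ := Nat.exists_prime_and_dvd (mt Subgroup.card_eq_one.1 hN1)
  haveI := Fact.mk hs
  obtain ⟨⟨t, htN⟩, ht⟩ := exists_prime_orderOf_dvd_card' s hsN
  replace ht : orderOf t = s := (Subgroup.orderOf_coe (⟨t, htN⟩ : N)).trans ht
  have hts : t ^ s = 1 := ht ▸ pow_orderOf_eq_one t
  have ht1 : t ≠ 1 := fun e => hs.one_lt.ne' (by rw [← ht, e]; simp)
  have hs3 : s ≠ 3 := fun e => h3 (e ▸ hsN.trans (Subgroup.card_subgroup_dvd_card N))
  let P : Subgroup R :=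
    { carrier := {y | y ∈ N ∧ y ^ s = 1}
      mul_mem' := fun {x y} hx hy => ⟨mul_mem hx.1 hy.1, by
        rw [(hcomm x hx.1 y hy.1).mul_pow, hx.2, hy.2, one_mul]⟩
      one_mem' := ⟨one_mem _, one_pow _⟩
      inv_mem' := fun {x} hx => ⟨inv_mem hx.1, by rw [inv_pow, hx.2, inv_one]⟩ }
  have hP : IsPGroup s P := fun y => ⟨1, Subtype.ext (by simpa using y.2.2)⟩
  have hinv : ∀ r : R, ∀ w ∈ fx W (P : Set R), r • w ∈ fx W (P : Set R) := by
    intro r w hw y hy
    have := hw (r⁻¹ * y * r⁻¹⁻¹) ⟨hN.conj_mem _ hy.1 _, by rw [conj_pow, hy.2]; simp⟩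
    rwa [inv_inv, mul_smul, mul_smul, inv_smul_eq_iff] at this
  obtain ⟨w0, hw0⟩ : ∃ w : W, t • w ≠ w := by
    by_contra e
    push Not at e
    exact ht1 (h.faith t e)
  have hs2 : s ≠ 2 := by
    rintro rfl
    let I : Subgroup W := (MonoidHom.id W * MulDistribMulAction.toMonoidHom W t).range
    have hI : ∀ w, w ∈ I ↔ ∃ u, u * t • u = w := fun _ => Iff.rfl
    have h1 := card_modEq_fix hP (I : Set W) (by
      rintro y _ ⟨u, rfl⟩
      refine (hI _).2 ⟨(y : R) • u, ?_⟩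
      change _ = (y : R) • (u * t • u)
      rw [smul_mul', ← mul_smul, ← mul_smul, (hcomm _ y.2.1 _ htN).eq])
    have h2 : {x | x ∈ (I : Set W) ∧ ∀ g : P, g • x = x} = {1} := by
      ext x
      refine ⟨fun hx => h.orb x fun r => ?_, by rintro rfl; exact ⟨one_mem I, fun g => smul_one g⟩⟩
      obtain ⟨⟨u, rfl⟩, hx⟩ := hx
      have a1 := hinv r _ (fun y hy => hx ⟨y, hy⟩) t ⟨htN, hts⟩
      change b (u * t • u) _ = 1
      rw [map_mul, MonoidHom.mul_apply]
      nth_rw 2 [← a1]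
      rw [h.inv, h.b_sq]
    rw [h2, Set.ncard_singleton, ← Nat.card_coe_set_eq] at h1
    have h4 : Nat.card I ∣ 2 ^ 6 := (Subgroup.card_subgroup_dvd_card I).trans (by
      rcases hc with e | e <;> rw [e] <;> decide)
    have h5 : Nat.card I = 1 := Nat.eq_one_of_dvd_one (by
      have := Nat.Coprime.pow_right 6 (Nat.coprime_two_right.2 (Nat.odd_iff.2 h1))
      exact this ▸ Nat.dvd_gcd dvd_rfl h4)
    have h6 : w0 * t • w0 ∈ I := ⟨w0, rfl⟩
    rw [Subgroup.card_eq_one.1 h5, Subgroup.mem_bot] at h6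
    exact hw0 (h.eq_of_mul h6).symm
  have a1 : Nat.card W ≡ Nat.card (fx W {t}) [MOD s] := by
    have := card_modEq_fix_one hts (Set.univ : Set W) (fun _ _ => trivial)
    rw [Set.ncard_univ, ← Nat.card_coe_set_eq] at this
    convert this using 3
    ext w
    simp [fx]
  have a2 : Nat.card W ≡ Nat.card (fx W (P : Set R)) [MOD s] := by
    have := card_modEq_fix hP (Set.univ : Set W) (fun _ _ _ => trivial)
    rw [Set.ncard_univ, ← Nat.card_coe_set_eq] at this
    convert this using 3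
    ext w
    simp [fx, Subgroup.smul_def]
  have a3 : Nat.card (fx W (P : Set R)) ≤ Nat.card (fx W {t}) :=
    Subgroup.card_le_of_le (fun w hw r hr => hw r (hr ▸ ⟨htN, hts⟩))
  have a4 := Subgroup.card_subgroup_dvd_card (fx W {t})
  have a5 : Nat.card (fx W {t}) ≠ Nat.card W := fun e =>
    hw0 (((Subgroup.card_eq_iff_eq_top _).1 e ▸ Subgroup.mem_top w0 : w0 ∈ fx W {t}) t rfl)
  have a6 := h.fx_ne_eight (hs.odd_of_ne_two hs2) hts
  have a7 : Nat.card (fx W (P : Set R)) = 1 ∨ 5 ≤ Nat.card (fx W (P : Set R)) :=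
    or_iff_not_imp_left.2 fun e => h.five_le h3 hinv (mt Subgroup.card_eq_one.2 e)
  obtain ⟨a8, a9⟩ := fpf_arith hs hs2 hs3 hc a1 a2 a3 a4 a5 a6 a7
  refine ⟨t, s, hts, a9, fun w hw => ?_, fun r => hcomm _ (hN.conj_mem _ htN r) _ htN⟩
  have : w ∈ fx W {t} := by rintro _ rfl; exact hw
  rwa [Subgroup.card_eq_one.1 a8, Subgroup.mem_bot] at this

omit h in
theorem norm_eq_one {t : R} {s : ℕ} (ht : t ^ s = 1) (hf : ∀ w : W, t • w = w → w = 1) (w : W) :
    ∏ j ∈ Finset.range s, t ^ j • w = 1 := by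
  apply hf
  have := (Finset.prod_range_succ' (fun j => t ^ j • w) s).symm.trans
    (Finset.prod_range_succ (fun j => t ^ j • w) s)
  rw [ht, pow_zero] at this
  rw [Finset.smul_prod', ← mul_right_cancel this]
  simp only [pow_succ', mul_smul]

theorem singer [Finite W] (hc : Nat.card W = 64) {t : R} (ht : t ^ 7 = 1)
    (hf : ∀ w : W, t • w = w → w = 1) : ∃ U : Subgroup W, Nat.card U = 8 ∧
      (∀ u ∈ U, t • u ∈ U) ∧ ∀ w, w ∈ U ↔ ∀ u ∈ U, b u w = 1 := by
  haveI : Nontrivial W := Finite.one_lt_card_iff_nontrivial.1 (by omega)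
  obtain ⟨w0, hw0⟩ := exists_ne (1 : W)
  have h8 : ∀ U : Subgroup W, (∀ u ∈ U, t • u ∈ U) → U ≠ ⊥ → U ≠ ⊤ → Nat.card U = 8 := by
    intro U hU h1 h2
    have a1 := card_modEq_fix_one ht (U : Set W) hU
    have a2 : {x | x ∈ (U : Set W) ∧ t • x = x} = {1} := by
      ext x
      exact ⟨fun hx => hf x hx.2, by rintro rfl; exact ⟨one_mem U, smul_one t⟩⟩
    rw [a2, Set.ncard_singleton, ← Nat.card_coe_set_eq] at a1
    have a3 : Nat.card U ∣ 2 ^ 6 := (Subgroup.card_subgroup_dvd_card U).trans (hc ▸ dvd_rfl)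
    obtain ⟨k, hk, a4⟩ := (Nat.dvd_prime_pow Nat.prime_two).1 a3
    have a5 := mt Subgroup.card_eq_one.1 h1
    have a6 := mt (Subgroup.card_eq_iff_eq_top U).1 h2
    change Nat.card U ≡ 1 [MOD 7] at a1
    rw [hc] at a6
    rw [a4] at a1 a5 a6 ⊢
    revert a1 a5 a6
    interval_cases k <;> decide
  have hadj : ∀ (i j : ℕ) (x y : W), i + j = 7 → b (t ^ i • x) y = b x (t ^ j • y) := by
    intro i j x y hij
    rw [← h.inv (t ^ i) x, ← mul_smul, ← pow_add, hij, ht, one_smul]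
  let f : W →* W := MonoidHom.id W * MulDistribMulAction.toMonoidHom W (t ^ 1) *
    MulDistribMulAction.toMonoidHom W (t ^ 3)
  have hf1 : ∀ w, f w = w * t ^ 1 • w * t ^ 3 • w := fun _ => rfl
  have hf2 : ∀ x y, b (f x) y = b x (y * t ^ 6 • y * t ^ 4 • y) := fun x y => by
    simp only [hf1, map_mul, MonoidHom.mul_apply, hadj 1 6, hadj 3 4]
  have h7 : t ^ (4 + 3) = 1 := ht
  have h9 : t ^ (6 + 3) = t ^ 2 := by rw [show 6 + 3 = 7 + 2 from rfl, pow_add, ht, one_mul]
  have hinv : ∀ u ∈ f.range, t • u ∈ f.range := by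
    rintro _ ⟨w, rfl⟩
    refine ⟨t • w, ?_⟩
    simp only [hf1, smul_mul', ← mul_smul, ← pow_succ, ← pow_succ']
  have hiso : ∀ u ∈ f.range, ∀ u' ∈ f.range, b u u' = 1 := by
    rintro _ ⟨x, rfl⟩ _ ⟨y, rfl⟩
    have := norm_eq_one ht hf y
    simp only [Finset.prod_range_succ, Finset.prod_range_zero, one_mul, pow_zero, one_smul] at this
    rw [hf2, ← map_one (b x), ← this]
    congr 1
    simp only [hf1, smul_mul', ← mul_smul, ← pow_add, ht, h9, one_smul]
    rw [← mul_one y, ← h.sq y]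
    simp only [mul_one, h.sq]
    norm_num
    nth_rw 2 [← mul_one (t ^ 6 • y)]
    rw [← h.sq y]
    ac_rfl
  have hne : f.range ≠ ⊥ := by
    intro e
    have a1 : ∀ w, f w = 1 := fun w => Subgroup.mem_bot.1 (e ▸ (⟨w, rfl⟩ : f w ∈ f.range))
    have a2 := h.nondeg (w := t ^ 3 • w0 * t ^ 6 • t ^ 3 • w0 * t ^ 4 • t ^ 3 • w0) fun x => by
      rw [h.symm, ← hf2, a1, map_one, MonoidHom.one_apply]
    have a3 := a1 w0
    simp only [← mul_smul, ← pow_add, h7, h9, one_smul] at a2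
    have a4 : t • t ^ 1 • w0 = t ^ 1 • w0 := by
      rw [← mul_smul, ← pow_succ']
      apply mul_left_cancel (a := w0 * t ^ 3 • w0)
      rw [mul_right_comm _ _ (t ^ 1 • w0), ← hf1, a3, ← a2, one_add_one_eq_two]
      ac_rfl
    exact hw0 (smul_left_cancel (t ^ 1) ((hf _ a4).trans (smul_one _).symm))
  have a8 := h8 _ hinv hne fun e => hw0 (h.nondeg fun y => hiso _ (e ▸ trivial) _ (e ▸ trivial))
  let U' : Subgroup W :=
    { carrier := {w | ∀ u ∈ f.range, b u w = 1}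
      mul_mem' := fun {x y} hx hy u hu => by rw [map_mul, hx u hu, hy u hu, one_mul]
      one_mem' := fun u _ => map_one _
      inv_mem' := fun {x} hx u hu => by rw [map_inv, hx u hu, inv_one] }
  have hle : f.range ≤ U' := fun u hu u' hu' => hiso u' hu' u hu
  have a9 := h8 U' (fun w hw u hu => by
      have := hadj 6 1 u w rfl
      rw [pow_one] at this
      rw [← this]
      apply hw
      simp only [pow_succ', pow_zero, mul_smul, one_smul]
      apply_rules) (fun e => hne (le_bot_iff.1 (e ▸ hle))) (fun e => hne (by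
      rw [eq_bot_iff]
      intro u hu
      exact h.nondeg fun y => (e ▸ trivial : y ∈ U') u hu))
  have : f.range = U' := Subgroup.eq_of_le_of_card_ge hle (by rw [a8, a9])
  exact ⟨f.range, a8, hinv, fun w => by rw [this]; exact ⟨fun hw u hu => hw u (this ▸ hu),
    fun hw u hu => hw u (this ▸ hu)⟩⟩

end Sympl

theorem fix8 {X : Type*} [CommGroup X] [Finite X] (h8 : Nat.card X = 8) (hsq : ∀ x : X, x * x = 1)
    {t τ : MulAut X} (ht : t ^ 7 = 1) (hf : ∀ x, t x = x → x = 1) (hc : Commute (τ * t * τ⁻¹) t)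
    {k : ℕ} (hk : ¬ 3 ∣ k) (hτ : τ ^ k = 1) {x₀ : X} (h0 : x₀ ≠ 1) (h1 : τ x₀ = x₀) (x : X) :
    τ x = x := by
  have horb : ∀ x, x ≠ 1 → ∃ j : ℕ, (t ^ j) x₀ = x := by
    let S : Set X := {x | ∃ j : ℕ, (t ^ j) x₀ = x}
    have a1 := card_modEq_fix_one ht S (by
      rintro _ ⟨j, rfl⟩
      exact ⟨j + 1, by rw [pow_succ']; rfl⟩)
    have a2 : S ⊆ Set.univ \ {1} := by
      rintro _ ⟨j, rfl⟩
      exact ⟨trivial, by simpa using h0⟩
    have a3 : {x | x ∈ S ∧ t • x = x} = ∅ :=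
      Set.eq_empty_of_forall_notMem fun x hx => (a2 hx.1).2 (hf x hx.2)
    have a4 : (Set.univ \ {1} : Set X).ncard = 7 := by
      rw [Set.ncard_sdiff_singleton_of_mem (Set.mem_univ _), Set.ncard_univ, h8]
    have a5 : 0 < S.ncard := (Set.ncard_pos).2 ⟨x₀, 0, rfl⟩
    rw [a3, Set.ncard_empty, Nat.modEq_zero_iff_dvd] at a1
    have a6 := Set.eq_of_subset_of_ncard_le a2 (a4 ▸ Nat.le_of_dvd a5 a1)
    exact fun x hx => a6.ge ⟨trivial, hx⟩
  have hext : ∀ (a : MulAut X) (e : ℕ), Commute a t → a x₀ = (t ^ e) x₀ → a = t ^ e := by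
    intro a e ha he
    ext x
    by_cases hx : x = 1
    · simp [hx]
    obtain ⟨j, rfl⟩ := horb x hx
    rw [← MulAut.mul_apply, (ha.pow_right j).eq, MulAut.mul_apply, he, ← MulAut.mul_apply,
      ← MulAut.mul_apply, ← pow_add, ← pow_add, add_comm]
  have ho : orderOf t = 7 := orderOf_eq_prime ht (fun e => h0 (hf _ (by rw [e]; rfl)))
  have hmod : ∀ i j, (t ^ i) x₀ = (t ^ j) x₀ → i ≡ j [MOD 7] := fun i j e => by
    rw [← ho, ← pow_eq_pow_iff_modEq]
    exact hext _ _ (Commute.pow_self t i) e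
  obtain ⟨e, he⟩ := horb ((τ * t * τ⁻¹) x₀) (by simpa using h0)
  have h2 : SemiconjBy τ t (t ^ e) := by
    rw [← hext _ e hc he.symm]
    simp [SemiconjBy]
  have h3 : ∀ m, SemiconjBy (τ ^ m) t (t ^ e ^ m) := by
    intro m
    induction m with
    | zero => simp
    | succ m ih =>
      rw [pow_succ', pow_succ' e, pow_mul]
      exact (h2.pow_right _).mul_left ih
  have h4 : (e : ZMod 7) = 1 ∨ (e : ZMod 7) = 6 := by
    have a1 := (h3 k).eq
    rw [hτ, one_mul, mul_one, ← pow_one t, ← pow_mul, one_mul, pow_eq_pow_iff_modEq, ho,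
      ← ZMod.natCast_eq_natCast_iff, Nat.cast_pow, Nat.cast_one] at a1
    generalize (e : ZMod 7) = z at a1
    have a2 : z ^ 6 = 1 := ZMod.pow_card_sub_one_eq_one (by
      rintro rfl
      rw [zero_pow (by omega)] at a1
      exact absurd a1 (by decide))
    rw [pow_eq_pow_mod k a2] at a1
    have a3 : k % 6 = 1 ∨ k % 6 = 2 ∨ k % 6 = 4 ∨ k % 6 = 5 := by omega
    clear a2
    rcases a3 with a | a | a | a <;> rw [a] at a1 <;> revert z <;> decide
  have h5 : ∀ j, τ ((t ^ j) x₀) = (t ^ (e * j)) x₀ := fun j => by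
    rw [← MulAut.mul_apply, (h2.pow_right j).eq, MulAut.mul_apply, h1, pow_mul]
  have h6 : ∀ i j, i ≡ j [MOD 7] → t ^ i = t ^ j := fun i j e => by
    rwa [pow_eq_pow_iff_modEq, ho]
  rcases h4 with h4 | h4
  · have a1 : e % 7 = 1 := (ZMod.natCast_eq_natCast_iff e 1 7).1 h4
    by_cases hx : x = 1
    · simp [hx]
    obtain ⟨j, rfl⟩ := horb x hx
    rw [h5, h6 (e * j) j (by simpa using Nat.ModEq.mul_right j (show e ≡ 1 [MOD 7] from a1))]
  · exfalso
    have a1 : e ≡ 6 [MOD 7] := (ZMod.natCast_eq_natCast_iff e 6 7).1 h4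
    have a2 : ∀ j, τ ((t ^ j) x₀) = (t ^ (6 * j)) x₀ := fun j => by
      rw [h5, h6 _ _ (a1.mul_right j)]
    obtain ⟨j, hj⟩ := horb ((t ^ 1) x₀ * (t ^ 6) x₀) (fun e => by
      have := hmod _ _ (mul_right_cancel (e.trans (hsq _).symm))
      exact absurd this (by decide))
    have a3 := a2 j
    rw [hj, map_mul, a2, a2, h6 (6 * 6) 1 (by decide), mul_comm, ← hj] at a3
    have a4 := hmod _ _ a3
    rw [h6 j 0 (by unfold Nat.ModEq at *; omega)] at hj
    have a5 := congrArg t hj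
    have a6 := congrArg t a5
    simp only [map_mul, ← MulAut.mul_apply, ← pow_succ', ht, pow_zero,
      MulAut.one_apply, ← sq] at a5 a6
    rw [a5, mul_left_comm, eq_comm, mul_eq_left] at a6
    have := hmod _ 0 (mul_right_cancel (a6.trans (hsq _).symm))
    exact absurd this (by decide)

theorem PD.isDesign {C : Type*} [CommGroup C] {Y : Type*} [CommGroup Y] [Finite Y]
    (hY : ∀ y : Y, y ^ 2 = 1) {c : Additive Y → Fin 4} (h : PD C 2 c) :
    IsDesign C fun x : Y => c (Additive.ofMul x) := by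
  have ho : ∀ x : Y, c (Additive.ofMul x) ≠ 0 → orderOf x = 2 := fun x hx =>
    orderOf_eq_prime (hY x) (by
      rintro rfl
      exact hx h.zero)
  have hgen : Subgroup.closure {x : Y | c (Additive.ofMul x) = 1 ∨ c (Additive.ofMul x) = 2} = ⊤ := by
    rw [eq_top_iff]
    intro x _
    have hx : Additive.ofMul x ∈ AddSubgroup.closure {x | c x = 1 ∨ c x = 2} :=
      h.gen ▸ AddSubgroup.mem_top _
    refine (AddSubgroup.closure_le (Subgroup.toAddSubgroup (Subgroup.closure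
      {x : Y | c (Additive.ofMul x) = 1 ∨ c (Additive.ofMul x) = 2}))).2 ?_ hx
    intro y hy
    exact Subgroup.subset_closure (k := {x : Y | c (Additive.ofMul x) = 1 ∨ c (Additive.ofMul x) = 2})
      (a := y.toMul) hy
  refine ⟨fun x hx => (ho x hx).symm ▸ Nat.prime_two, fun x hx => ?_,
    fun x hx => ?_, fun τ hτ x => h.rigid (MulEquiv.toAdditive τ) hτ x, fun hodd τ hτ x => ?_,
    hgen, fun a β ha h1 => ?_⟩
  · rw [ho x (by rw [hx]; decide)]
    exact h.two _ hx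
  · rw [ho x (by rw [hx]; decide)]
    exact h.three _ hx
  · have : ∀ y : Y, y = 1 := fun y => by
      have := pow_gcd_eq_one.2 ⟨hY y, pow_card_eq_one'⟩
      rwa [Nat.coprime_two_left.2 hodd, pow_one] at this
    rw [this (τ (τ x)), this x]
  · have h2 := h.quad (fun x => a x.toMul) (fun x y => β x.toMul y.toMul) (by simp) (by simp)
      (fun x y => ha _ _) (fun x hx => h1 _ hx)
    have h3 : ∀ x y, β x y = 1 := fun x y => h2 x y
    refine ⟨h3, quad_of_gen hgen (fun x y => by rw [ha, h3, mul_one]) fun x hx => h1 x ?_⟩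
    rcases hx with hx | hx <;> rw [hx] <;> decide

/-- the design on a group of order eight -/
def c8 (x : Fin 3 → ZMod 2) : Fin 4 :=
  if x = ee 2 0 then 1 else if x = ee 2 1 ∨ x = ee 2 2 then 2
    else if x = 0 ∨ x = ee 2 0 + ee 2 2 then 0 else 3

theorem pd_c8 (C : Type*) [CommGroup C] : PD C 2 c8 := by
  have hc : 2 < Nat.card (Fin 3 → ZMod 2) := by simp
  refine ⟨by decide, fun _ _ => ⟨Or.inl rfl, hc⟩, fun _ _ => ⟨rfl, hc⟩, fun τ hτ => ?_,
    fun h => absurd rfl h, ?_, fun a β b1 b2 ha h => ?_⟩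
  · have key : ∀ x, c8 x = c8 (ee 2 0) → ∀ y, c8 y = c8 (ee 2 1) → ∀ z, c8 z = c8 (ee 2 2) →
        c8 (x + z) = c8 (ee 2 0 + ee 2 2) → c8 (y + z) = c8 (ee 2 1 + ee 2 2) →
        x = ee 2 0 ∧ y = ee 2 1 ∧ z = ee 2 2 := by decide +kernel
    obtain ⟨a0, a1, a2⟩ := key _ (hτ _) _ (hτ _) _ (hτ _) (by rw [← map_add, hτ])
      (by rw [← map_add, hτ])
    refine eq_of_closure closure_ee τ ?_
    rintro _ ⟨i, rfl⟩
    fin_cases i
    exacts [a0, a1, a2]
  · rw [eq_top_iff, ← closure_ee]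
    apply AddSubgroup.closure_mono
    rintro _ ⟨i, rfl⟩
    revert i
    change ∀ i, c8 (ee 2 i) = 1 ∨ c8 (ee 2 i) = 2
    decide
  · have e1 : ∀ i, a (ee 2 i) = 1 := fun i => h _ (by revert i; decide)
    have e2 : ∀ i, β (ee 2 i) (ee 2 i) = 1 := fun i => by
      have := ha (ee 2 i) (ee 2 i)
      rw [show ee 2 i + ee 2 i = 0 by clear this; revert i; decide, quad_zero b2 ha, e1] at this
      simpa using this.symm
    have e3 : β (ee 2 0) (ee 2 1) = 1 := by
      simpa [e1, h (ee 2 0 + ee 2 1) (by decide)] using (ha (ee 2 0) (ee 2 1)).symm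
    have e4 : β (ee 2 1) (ee 2 2) = 1 := by
      simpa [e1, h (ee 2 1 + ee 2 2) (by decide)] using (ha (ee 2 1) (ee 2 2)).symm
    have e5 : β (ee 2 0) (ee 2 2) = 1 := by
      have := ha (ee 2 0 + ee 2 1) (ee 2 2)
      rw [h (ee 2 0 + ee 2 1) (by decide), h (ee 2 0 + ee 2 1 + ee 2 2) (by decide), b1, e4,
        e1] at this
      simpa using this.symm
    refine bi_eq_one b1 b2 closure_ee ?_
    rintro _ ⟨i, rfl⟩ _ ⟨j, rfl⟩
    fin_cases i <;> fin_cases j <;> first | assumption | apply e2 | (rw [quad_symm ha]; assumption)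

theorem design8 (C : Type*) [CommGroup C] {X : Type*} [CommGroup X] [Finite X]
    (h8 : Nat.card X = 8) (hsq : ∀ x : X, x * x = 1) : ∃ c : X → Fin 4, IsDesign C c ∧
      ∃ x₀ : X, x₀ ≠ 1 ∧ ∀ x, c x = 0 ↔ x = 1 ∨ x = x₀ := by
  have hY : ∀ y : X, y ^ 2 = 1 := fun y => (sq y).trans (hsq y)
  letI : Module (ZMod 2) (Additive X) := AddCommGroup.zmodModule (fun y => hY y.toMul)
  have h3 : Module.finrank (ZMod 2) (Additive X) = 3 := by
    have := Module.natCard_eq_pow_finrank (K := ZMod 2) (V := Additive X)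
    rw [Nat.card_zmod, show Nat.card (Additive X) = 2 ^ 3 from h8] at this
    exact (Nat.pow_right_injective le_rfl this).symm
  let e := (Module.finBasisOfFinrankEq (ZMod 2) (Additive X) h3).equivFun.toAddEquiv
  refine ⟨_, ((pd_c8 C).transport e).isDesign hY, (e.symm (ee 2 0 + ee 2 2)).toMul, fun h => ?_,
    fun x => ?_⟩
  · have : e.symm (ee 2 0 + ee 2 2) = 0 := h
    rw [map_eq_zero_iff _ e.symm.injective] at this
    exact absurd this (by decide)
  · have : ∀ y, c8 y = 0 ↔ y = 0 ∨ y = ee 2 0 + ee 2 2 := by decide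
    rw [this, map_eq_zero_iff _ e.injective, ← e.eq_symm_apply]
    rfl

end Cfsg.Agent.SolvLin
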