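import Cfsg.Agent.SolvLin.Small
import Cfsg.Agent.SolvLin.Sympl

/-!
# The field with three elements
-/

set_option autoImplicit false
set_option linter.style.haveILetI false

namespace Cfsg.Agent.SolvLin

open MulAction

namespace Heis

section general
variable {K V Γ M : Type*} [Field K] [AddCommGroup V] [Module K V] [Group Γ]
  [DistribMulAction Γ V] [Group M] [DistribMulAction M V] (H : Heis K V Γ M)

instance zComm : CommGroup (M ⧸ H.s.range) := H.quotComm _ le_rfl

/-- the action on `M ⧸ Z` -/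
def ρ : Γ →* MulAut (M ⧸ H.s.range) := MonoidHom.mk'
  (fun g => QuotientGroup.congr _ _ (H.κ g) (by
    apply le_antisymm
    · rintro _ ⟨x, hx, rfl⟩
      exact H.κ_Z g hx
    · intro x hx
      exact ⟨_, H.κ_Z g⁻¹ hx, H.κ_inv g x⟩)) (fun g g' => by
    ext x
    induction x using QuotientGroup.induction_on with | H x => ?_
    change ((H.κ (g * g') x : M) : M ⧸ H.s.range) = (H.κ g (H.κ g' x) : M)
    rw [map_mul]
    rfl)

theorem ρ_mk (g : Γ) (x : M) : H.ρ g (x : M ⧸ H.s.range) = (H.κ g x : M) := rfl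

/-- the form on `M ⧸ Z` -/
def bb : (M ⧸ H.s.range) →* (M ⧸ H.s.range) →* Kˣ :=
  QuotientGroup.lift _ (QuotientGroup.lift _ H.b.flip
    (fun _ hx => MonoidHom.ext fun y => H.b_Z_right hx y)).flip (fun x hx => by
      ext y
      exact congrArg Units.val (H.b_Z_left hx y))

theorem bb_mk (x y : M) : H.bb (x : M ⧸ H.s.range) (y : M ⧸ H.s.range) = H.b x y := rfl

theorem sympl (hZ : ∀ x : M, x * x ∈ H.s.range)
    (hlin : ∀ (g : Γ) (c : K) (w : V), g • (c • w) = c • g • w) :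
    Sympl H.ρ.range (M ⧸ H.s.range) H.bb (-1) := by
  refine ⟨fun w => ?_, fun w => ?_, fun x y => ?_, ?_, fun w hw => ?_,
    fun r hr => Subtype.ext (MulEquiv.ext hr)⟩
  · induction w using QuotientGroup.induction_on with | H x => ?_
    exact (QuotientGroup.eq_one_iff _).2 (hZ x)
  · induction w using QuotientGroup.induction_on with | H x => ?_
    exact H.b_self x
  · induction x using QuotientGroup.induction_on with | H x => ?_
    induction y using QuotientGroup.induction_on with | H y => ?_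
    exact H.b_sq (hZ x) y
  · rintro ⟨_, g, rfl⟩ x y
    induction x using QuotientGroup.induction_on with | H x => ?_
    induction y using QuotientGroup.induction_on with | H y => ?_
    exact H.s_inj ((H.κ_b g x y).symm.trans (H.A_of_lin (hlin g) _))
  · induction w using QuotientGroup.induction_on with | H x => ?_
    exact (QuotientGroup.eq_one_iff _).2 (H.mem_Z_of_orbit fun g => hw ⟨_, g, rfl⟩)

theorem exists_eigen [Finite M] {A : Subgroup M} (hA : ∀ x ∈ A, x * x = 1) :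
    ∃ v : V, v ≠ 0 ∧ A ≤ H.s.range ⊔ stabilizer M v := by
  haveI := H.nontriv
  obtain ⟨v0, hv0⟩ := exists_ne (0 : V)
  obtain ⟨D, -, ⟨v, hv, rfl⟩, hmax⟩ := Finite.exists_le_maximal
    (p := fun D : Subgroup M => ∃ v : V, v ≠ 0 ∧ stabilizer M v ⊓ A = D) ⟨v0, hv0, rfl⟩
  refine ⟨v, hv, fun x hx => ?_⟩
  by_cases h : v + x • v = 0
  · exact H.mem_sup_iff.2 ⟨-1, by simpa using eq_neg_of_add_eq_zero_right h⟩
  refine Subgroup.mem_sup_right (hmax ⟨_, h, rfl⟩ (fun d hd => ⟨?_, hd.2⟩) ⟨?_, hx⟩).1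
  · have h1 : d * x = x * d := by
      have := hA _ (mul_mem hd.2 hx)
      calc d * x = (d * x)⁻¹ := eq_inv_of_mul_eq_one_left this
        _ = x * d := by
          rw [mul_inv_rev, ← eq_inv_of_mul_eq_one_left (hA x hx),
            ← eq_inv_of_mul_eq_one_left (hA d hd.2)]
    change d • _ = _
    rw [smul_add, ← mul_smul, h1, mul_smul, mem_stabilizer_iff.1 hd.1]
  · change x • _ = _
    rw [smul_add, ← mul_smul, hA x hx, one_smul, add_comm]

end general

variable {V Γ M : Type*} [AddCommGroup V] [Module (ZMod 3) V] [Group Γ]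
  [DistribMulAction Γ V] [Group M] [DistribMulAction M V] (H : Heis (ZMod 3) V Γ M)
  [Finite M] [Finite Γ]

theorem card3 : Nat.card (ZMod 3)ˣ = 2 := by rw [Nat.card_eq_fintype_card, ZMod.card_units]

omit [Finite M] [Finite Γ] in
theorem hZ3 (x : M) : x * x ∈ H.s.range := H.sq_mem (by rw [card3]; decide) x

omit [Finite M] [Finite Γ] in
theorem sq_congr {x y : M} (h : (x : M ⧸ H.s.range) = y) : x * x = y * y := by
  obtain ⟨c, hc⟩ := QuotientGroup.eq.1 h
  rw [eq_inv_mul_iff_mul_eq, ← H.s_comm] at hc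
  rw [← hc, ← sq (_ * _), H.s_mul_pow, ← card3, pow_card_eq_one', map_one, one_mul, card3, sq]

theorem fpf (hS : Group.IsSolvable Γ) {k : ℕ} (hk : ¬ 3 ∣ k) (hκ : ∀ g, H.κ g ^ k = 1)
    (hc : Nat.card (M ⧸ H.s.range) = 16 ∨ Nat.card (M ⧸ H.s.range) = 64) :
    ∃ (t : H.ρ.range) (s : ℕ), t ^ s = 1 ∧ (Nat.card (M ⧸ H.s.range) = 16 ∧ s = 5 ∨
      Nat.card (M ⧸ H.s.range) = 64 ∧ s = 7) ∧ (∀ w : M ⧸ H.s.range, t • w = w → w = 1) ∧
      ∀ r : H.ρ.range, Commute (r * t * r⁻¹) t := by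
  haveI : Finite H.ρ.range := Finite.of_surjective _ H.ρ.rangeRestrict_surjective
  refine (H.sympl H.hZ3 zmod_lin).exists_fpf
    (Group.isSolvable_of_surjective H.ρ.rangeRestrict_surjective) (fun h3 => hk ?_) hc
  obtain ⟨⟨_, g, rfl⟩, hr⟩ := exists_prime_orderOf_dvd_card' 3 h3
  rw [← hr, orderOf_dvd_iff_pow_eq_one]
  ext x
  induction x using QuotientGroup.induction_on with | H x => ?_
  change (H.ρ g ^ k) _ = _
  rw [← map_pow, ρ_mk, map_pow, hκ]
  rfl

theorem not_sixteen (hS : Group.IsSolvable Γ) {k : ℕ} (hk : ¬ 3 ∣ k) (hκ : ∀ g, H.κ g ^ k = 1)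
    (A : Model H _ (extP (extP (idP (ZMod 3)))) (false, false, false, false, ())) :
    H.perp A.D ≠ ⊤ := by
  intro h
  have hb := A.card_eq h
  have hc : Nat.card (M ⧸ H.s.range) = 16 := by rw [← Nat.card_eq_of_bijective _ hb]; simp
  obtain ⟨⟨_, g, rfl⟩, s, ht, hs, hf, -⟩ := H.fpf hS hk hκ (Or.inl hc)
  obtain rfl : s = 5 := by omega
  let S : Set (M ⧸ H.s.range) := {w | ∃ x : M, x = w ∧ x * x = 1}
  have a1 := card_modEq_fix_one ht S (by
    rintro _ ⟨x, rfl, hx⟩
    exact ⟨H.κ g x, rfl, by rw [← map_mul, hx, map_one]⟩)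
  have a2 : {x | x ∈ S ∧ (⟨_, g, rfl⟩ : H.ρ.range) • x = x} = {1} := by
    ext x
    exact ⟨fun hx => hf x hx.2, by rintro rfl; exact ⟨⟨1, rfl, mul_one 1⟩, smul_one _⟩⟩
  have hu : A.φ ((1, 0), (0, 0)) ≠ 0 := fun e =>
    absurd (A.inj (e.trans (map_zero _).symm)) (by decide)
  have a3 : S = (fun j => (A.γ j : M ⧸ H.s.range)) '' ↑(Finset.univ.filter fun j =>
      extP (extP (idP (ZMod 3))) j (extP (extP (idP (ZMod 3))) j ((1, 0), (0, 0))) =
        ((1, 0), (0, 0))) := by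
    ext w
    obtain ⟨j, rfl⟩ := hb.2 w
    rw [hb.1.mem_set_image, Finset.coe_filter]
    simp only [Finset.mem_univ, true_and, Set.mem_ofPred_eq]
    rw [← A.inj.eq_iff, ← A.act, ← A.act, ← mul_smul]
    constructor
    · rintro ⟨x, hx, h1⟩
      rw [← H.sq_congr hx, h1, one_smul]
    · exact fun h1 => ⟨_, rfl, H.eq_one_of_Z_fix hu (H.hZ3 _) h1⟩
  rw [a2, a3, Set.ncard_image_of_injective _ hb.1, Set.ncard_coe_finset, Set.ncard_singleton] at a1
  revert a1
  decide +kernel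

theorem base2_singer (hS : Group.IsSolvable Γ) {k : ℕ} (hk : ¬ 3 ∣ k) (hκ : ∀ g, H.κ g ^ k = 1)
    (hc : Nat.card (M ⧸ H.s.range) = 64) : HasBase Γ V 2 := by
  obtain ⟨⟨_, g₀, rfl⟩, s, ht, hs, hf, hcomm⟩ := H.fpf hS hk hκ (Or.inr hc)
  obtain rfl : s = 7 := by omega
  obtain ⟨U, hU8, hUt, hU⟩ := (H.sympl H.hZ3 zmod_lin).singer hc ht hf
  have hnorm := Sympl.norm_eq_one ht hf
  let A : Subgroup M := U.comap (QuotientGroup.mk' _)
  have hAb : ∀ x, x ∈ A ↔ ∀ a ∈ A, H.b a x = 1 := fun x =>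
    (hU _).trans ⟨fun h a ha => h _ ha, fun h u hu => by
      induction u using QuotientGroup.induction_on with | H u => exact h u hu⟩
  have hAt : ∀ x ∈ A, H.κ g₀ x ∈ A := fun x hx => hUt _ hx
  have hA : ∀ x ∈ A, x * x = 1 := by
    intro x hx
    obtain ⟨ε, hε⟩ := H.hZ3 x
    have key : ∀ n : ℕ, H.κ (g₀ ^ n) x ∈ A ∧ ∃ p ∈ A, p * p = H.s ε ^ n ∧
        (p : M ⧸ H.s.range) = ∏ j ∈ Finset.range n, (⟨_, g₀, rfl⟩ : H.ρ.range) ^ j • (x : M ⧸ H.s.range) := by
      intro n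
      induction n with
      | zero => exact ⟨by simpa using hx, 1, one_mem _, by simp, by simp⟩
      | succ n ih =>
        obtain ⟨h1, p, hp, h2, h3⟩ := ih
        refine ⟨by rw [pow_succ', map_mul]; exact hAt _ h1, p * H.κ (g₀ ^ n) x, mul_mem hp h1, ?_,
          ?_⟩
        · have : Commute p (H.κ (g₀ ^ n) x) := H.b_eq_one_iff.1 ((hAb _).1 h1 p hp)
          rw [← sq, this.mul_pow, sq, sq, h2, ← map_mul, ← hε, H.A_of_lin (zmod_lin _), pow_succ]
        · rw [Finset.prod_range_succ, QuotientGroup.mk_mul, h3, ← ρ_mk, map_pow]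
          rfl
    obtain ⟨-, p, -, h2, h3⟩ := key 7
    rw [hnorm] at h3
    rw [H.sq_congr (y := 1) h3, one_mul, ← map_pow, show 7 = 2 * 3 + 1 from rfl, pow_succ, pow_mul,
      ← card3, pow_card_eq_one', one_pow, one_mul] at h2
    rw [← hε, ← h2]
  obtain ⟨v, hv, hle⟩ := H.exists_eigen hA
  have hE : H.perp (stabilizer M v) = A := by
    have h1 : H.perp (stabilizer M v) ≤ A := fun e he => (hAb e).2 fun a ha => H.b_sup (hle ha) he
    exact le_antisymm h1 (hle.trans (H.sup_le_perp hv))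
  obtain ⟨y, hy⟩ := H.pair_plus hv (hE ▸ hle)
  have h8 : Nat.card (M ⧸ H.perp (stabilizer M v)) = 8 := by
    have h1 := U.index_mul_card
    rw [hU8, hc, ← U.index_comap_of_surjective (QuotientGroup.mk'_surjective _)] at h1
    change A.index * 8 = 64 at h1
    rw [← hE] at h1
    change (H.perp (stabilizer M v)).index = 8
    omega
  have hsq : ∀ χ : M ⧸ H.perp (stabilizer M v), χ * χ = 1 := fun χ => by
    induction χ using QuotientGroup.induction_on with | H x => ?_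
    exact (QuotientGroup.eq_one_iff _).2 (H.Z_le_perp _ (H.hZ3 x))
  obtain ⟨c, hcd, χ₀, h0, hc0⟩ := design8 (ZMod 3)ˣ h8 hsq
  let π : M ⧸ H.s.range →* M ⧸ H.perp (stabilizer M v) :=
    QuotientGroup.map _ _ (MonoidHom.id M) (H.Z_le_perp _)
  let Rel : H.ρ.range → MulAut (M ⧸ H.perp (stabilizer M v)) → Prop :=
    fun r a => ∀ w, a (π w) = π (r • w)
  have hmul : ∀ {r r' a a'}, Rel r a → Rel r' a' → Rel (r * r') (a * a') := fun h h' w => by
    rw [MulAut.mul_apply, h', h, mul_smul]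
  have hinv : ∀ {r a}, Rel r a → Rel r⁻¹ a⁻¹ := fun h w => by
    rw [MulAut.inv_apply, MulEquiv.symm_apply_eq, h, smul_inv_smul]
  have hpow : ∀ {r a}, Rel r a → ∀ n : ℕ, Rel (r ^ n) (a ^ n) := fun h n => by
    induction n with
    | zero => exact fun w => by simp
    | succ n ih => rw [pow_succ, pow_succ]; exact hmul ih h
  have huniq : ∀ {r a a'}, Rel r a → Rel r a' → a = a' := fun h h' => by
    ext x
    induction x using QuotientGroup.induction_on with | H x => ?_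
    exact (h x).trans (h' x).symm
  have hone : Rel 1 1 := fun w => by simp
  let t : MulAut (M ⧸ H.perp (stabilizer M v)) := QuotientGroup.congr _ _ (H.κ g₀) (by
    rw [hE]
    refine Subgroup.eq_of_le_of_card_ge ?_ ?_
    · rintro _ ⟨x, hx, rfl⟩
      exact hAt x hx
    · exact (Subgroup.card_map_of_injective (H.κ g₀).injective).ge)
  have hRt : Rel ⟨_, g₀, rfl⟩ t := fun w => by
    induction w using QuotientGroup.induction_on with | H x => rfl
  refine H.base2_of hv hy hcd (fun χ => χ.out) (fun χ => χ.out_eq) (fun _ => v) (fun _ _ => hv)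
    (fun _ d hd => hd) (fun g hg _ _ => hg) (fun _ _ x _ hx => hx) (fun g hg _ h1 _ => ?_)
  have hRτ : Rel ⟨_, g, rfl⟩ (H.τ hg) := fun w => by
    induction w using QuotientGroup.induction_on with | H x => rfl
  refine fix8 h8 hsq (t := t) (huniq (hpow hRt 7) (ht ▸ hone)) (fun x hx => ?_) ?_ hk ?_ h0 ?_
  · induction x using QuotientGroup.induction_on with | H x => ?_
    have a1 := congrArg π (hnorm x)
    rw [map_prod, map_one, Finset.prod_congr rfl (fun j _ => (hpow hRt j x).symm.trans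
      (pow_smul_fix (t := t) (x := π x) hx j)), Finset.prod_const, Finset.card_range,
      show 7 = 2 * 3 + 1 from rfl, pow_succ, pow_mul, sq, hsq, one_pow, one_mul] at a1
    exact a1
  · have a1 := hmul (hmul hRτ hRt) (hinv hRτ)
    exact huniq (hmul a1 hRt) ((hcomm _).eq ▸ hmul hRt a1)
  · ext x
    induction x using QuotientGroup.induction_on with | H x => ?_
    refine (hpow hRτ k x).trans ?_
    change π ((H.ρ g ^ k) _) = _
    rw [← map_pow, ρ_mk, map_pow, hκ]
    rfl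
  · exact ((hc0 _).1 ((h1 χ₀).2 ((hc0 _).2 (Or.inr rfl)))).resolve_left (by simpa using h0)

omit [Finite M] [Finite Γ] in
theorem Minus.norm {v : V} (hv : v ≠ 0) {i j : M} (h : H.Minus v i j) {α β : ZMod 3}
    (hj : j • v = α • v + β • i • v) : ∃ i j, H.Minus v i j ∧ j • v = v + i • v := by
  have hi2 : i • i • v = -v := by
    rw [← mul_smul, h.ii, H.s_smul]
    simp
  have hj2 : j • j • v = -v := by
    rw [← mul_smul, h.jj, H.s_smul]
    simp
  have hneg : ∀ x : M, x * x = H.s (-1) → H.s (-1) * x * (H.s (-1) * x) = H.s (-1) := by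
    intro x hx
    rw [← sq, H.s_mul_pow, sq x, hx]
    simp
  have hss : H.s (-1) * H.s (-1) = 1 := by rw [← map_mul]; simp
  have hN : ∀ n ∈ H.s.range ⊔ stabilizer M v, n * H.s (-1) ∈ H.s.range ⊔ stabilizer M v :=
    fun n hn => mul_mem hn (Subgroup.mem_sup_left ⟨_, rfl⟩)
  have m1 : ∀ {i j}, H.Minus v i j → H.Minus v (H.s (-1) * i) j := by
    intro i j h
    refine ⟨h.card, mul_mem (H.Z_le_perp _ ⟨_, rfl⟩) h.iE, h.jE, hneg _ h.ii, h.jj,
      by simp [h.ij], fun e => h.iN ?_, fun e he => ?_⟩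
    · exact (Subgroup.mul_mem_cancel_left _ (Subgroup.mem_sup_left
        (MonoidHom.mem_range.2 ⟨_, rfl⟩))).1 e
    · obtain ⟨n, hn, rfl | rfl | rfl | rfl⟩ := h.gen e he
      · exact ⟨e, hn, Or.inl rfl⟩
      · exact ⟨_, hN n hn, Or.inr (Or.inl (by rw [mul_assoc, ← mul_assoc _ _ i, hss, one_mul]))⟩
      · exact ⟨n, hn, Or.inr (Or.inr (Or.inl rfl))⟩
      · exact ⟨_, hN n hn, Or.inr (Or.inr (Or.inr (by
          rw [mul_assoc, mul_assoc, ← mul_assoc _ _ (i * j), hss, one_mul])))⟩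
  have m2 : ∀ {i j}, H.Minus v i j → H.Minus v i (H.s (-1) * j) := by
    intro i j h
    refine ⟨h.card, h.iE, mul_mem (H.Z_le_perp _ ⟨_, rfl⟩) h.jE, h.ii, hneg _ h.jj,
      by simp [h.ij], h.iN, fun e he => ?_⟩
    obtain ⟨n, hn, rfl | rfl | rfl | rfl⟩ := h.gen e he
    · exact ⟨e, hn, Or.inl rfl⟩
    · exact ⟨n, hn, Or.inr (Or.inl rfl)⟩
    · exact ⟨_, hN n hn, Or.inr (Or.inr (Or.inl (by
        rw [mul_assoc, ← mul_assoc _ _ j, hss, one_mul])))⟩
    · exact ⟨_, hN n hn, Or.inr (Or.inr (Or.inr (by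
        rw [← mul_assoc i, ← H.s_comm _ i, mul_assoc, mul_assoc, ← mul_assoc _ _ (i * j), hss,
          one_mul])))⟩
  have hab : α * α + β * β = -1 := by
    have a1 := H.smul_anti_of_b h.ij v
    rw [hj, smul_add, H.lin, H.lin, hi2, eq_comm, neg_eq_iff_eq_neg] at a1
    have a2 := hj2
    rw [hj, smul_add, H.lin, H.lin, a1, hj] at a2
    apply smul_cancel hv
    generalize i • v = w at a2
    linear_combination (norm := module) a2
  have hs : ∀ x : M, (H.s (-1) * x) • v = -(x • v) := fun x => by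
    rw [mul_smul, H.s_smul]
    simp
  have : (α = 1 ∨ α = -1) ∧ (β = 1 ∨ β = -1) := by
    clear hj
    revert α β
    decide
  obtain ⟨rfl | rfl, rfl | rfl⟩ := this
  · exact ⟨i, j, h, by simpa using hj⟩
  · exact ⟨_, _, m1 h, by simpa [hs] using hj⟩
  · exact ⟨_, _, m1 (m2 h), by simp [hs, hj, add_comm]⟩
  · exact ⟨_, _, m2 h, by simp [hs, hj, add_comm]⟩

theorem base2_three (hS : Group.IsSolvable Γ) {k : ℕ} (hk : ¬ 3 ∣ k) (hκ : ∀ g, H.κ g ^ k = 1) :
    HasBase Γ V 2 := by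
  have hsq := H.hsq (Or.inl card3)
  obtain ⟨v, hv, h | ⟨i, j, hm, α, β, hj⟩⟩ := H.frame_cases
  · obtain ⟨y, hy⟩ := H.pair_plus hv.1 h
    by_cases h0 : H.perp (H.modelPlus hv.1 h).D = ⊤
    · exact H.base2_small hv.1 hy (by
        rw [show H.perp (stabilizer M v) = ⊤ from h0, Subgroup.index_top]; exact one_dvd _)
    obtain ⟨A1, hA1⟩ := (H.modelPlus hv.1 h).ext hsq h0
    by_cases h1 : H.perp A1.D = ⊤
    · exact H.base2_small hv.1 hy (hA1 h1)
    obtain ⟨A2, -⟩ := A1.ext hsq h1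
    obtain ⟨A3, -⟩ := A2.ext hsq (H.not_sixteen hS hk hκ A2)
    by_cases h3 : H.perp A3.D = ⊤
    · exact H.base2_singer hS hk hκ (by rw [← Nat.card_eq_of_bijective _ (A3.card_eq h3)]; simp)
    obtain ⟨A4, -⟩ := A3.ext hsq h3
    exact A4.base2_of_cert zmod_lin cert_plus
  · obtain ⟨y, hy⟩ := H.pair_minus hv.1 hm hj
    obtain ⟨i, j, hm, hj⟩ := hm.norm H hv.1 hj
    by_cases h0 : H.perp (H.modelMinus hv.1 hm hj).D = ⊤
    · exact H.base2_small hv.1 hy (by
        rw [show H.perp (stabilizer M v) = ⊤ from h0, Subgroup.index_top]; exact one_dvd _)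
    obtain ⟨A1, hA1⟩ := (H.modelMinus hv.1 hm hj).ext hsq h0
    by_cases h1 : H.perp A1.D = ⊤
    · exact H.base2_small hv.1 hy (hA1 h1)
    obtain ⟨A2, -⟩ := A1.ext hsq h1
    by_cases h2 : H.perp A2.D = ⊤
    · exact H.base2_singer hS hk hκ (by rw [← Nat.card_eq_of_bijective _ (A2.card_eq h2)]; simp)
    obtain ⟨A3, -⟩ := A2.ext hsq h2
    exact A3.base2_of_cert zmod_lin cert_minus

end Heis

end Cfsg.Agent.SolvLin
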