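import Cfsg.Agent.SolvLin.DL1
import Cfsg.Agent.SolvLin.Three

/-!
# The module `M ⧸ Z`, abelian kernels, and regular orbits by counting
-/

set_option autoImplicit false
set_option linter.style.haveILetI false
open scoped commutatorElement

namespace Cfsg.Agent.SolvLin

open MulAction

theorem relIndex_le_card {G Y : Type*} [Group G] [Finite Y] (P Q : Subgroup G) (F : P → Y)
    (h : ∀ x y : P, F x = F y → (x : G)⁻¹ * y ∈ Q) : Q.relIndex P ≤ Nat.card Y := by
  refine Nat.card_le_card_of_injective (fun q : P ⧸ Q.subgroupOf P => F q.out) fun a b hab => ?_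
  rw [← a.out_eq, ← b.out_eq]
  exact QuotientGroup.eq.2 (h _ _ hab)

theorem mem_of_coprime {G : Type*} [Group G] {P : Subgroup G} {x : G} {a b : ℕ}
    (hab : a.Coprime b) (ha : x ^ a ∈ P) (hb : x ^ b ∈ P) : x ∈ P := by
  have h := Nat.gcd_eq_gcd_ab a b
  rw [hab, Nat.cast_one] at h
  have := mul_mem (zpow_mem ha (a.gcdA b)) (zpow_mem hb (a.gcdB b))
  rwa [← zpow_natCast, ← zpow_natCast, ← zpow_mul, ← zpow_mul, ← zpow_add, ← h, zpow_one] at this

/-- the kernel of the action -/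
def trv (G V : Type*) [Group G] [MulAction G V] : Subgroup G := ⨅ w : V, stabilizer G w

theorem mem_trv {G V : Type*} [Group G] [MulAction G V] {g : G} :
    g ∈ trv G V ↔ ∀ w : V, g • w = w := by simp [trv]

/-- the fixed space of an element -/
def fx (V : Type*) {G : Type*} [Group G] [AddCommGroup V] [DistribMulAction G V] (g : G) :
    AddSubgroup V where
  carrier := {v | g • v = v}
  add_mem' := fun {a b} ha hb => by
    change g • (a + b) = a + b
    rw [smul_add, ha, hb]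
  zero_mem' := smul_zero g
  neg_mem' := fun {a} ha => by
    change g • (-a) = -a
    rw [smul_neg, ha]

theorem index_inf_comap {V G : Type*} [Group G] [AddCommGroup V] [DistribMulAction G V]
    (F : AddSubgroup V) (x : G) :
    (F ⊓ F.comap (DistribSMul.toAddMonoidHom V x)).index ≤ F.index ^ 2 := by
  refine AddSubgroup.index_inf_le.trans ?_
  rw [AddSubgroup.index_comap_of_surjective _ (MulAction.surjective x), sq]

theorem exists_orbits {G V : Type*} [Group G] [Finite G] [MulAction G V] (T : Finset V) (c : ℕ)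
    (h : Nat.card G * c ≤ T.card) : ∃ t : Fin c → V, (∀ k, t k ∈ T) ∧
      ∀ (k l : Fin c) (g : G), g • t k = t l → k = l := by
  classical
  haveI := Fintype.ofFinite G
  let π : V → orbitRel.Quotient G V := Quotient.mk''
  have h1 := Finset.card_le_mul_card_image (f := π) T (Nat.card G) (fun b hb => by
    obtain ⟨v, -, rfl⟩ := Finset.mem_image.1 hb
    rw [Nat.card_eq_fintype_card]
    refine (Finset.card_le_card fun w hw => ?_).trans
      (Finset.card_image_le (s := Finset.univ) (f := fun g : G => g • v))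
    obtain ⟨g, hg⟩ := Quotient.exact' (Finset.mem_filter.1 hw).2
    exact Finset.mem_image.2 ⟨g, Finset.mem_univ _, hg⟩)
  have h2 : c ≤ (T.image π).card := Nat.le_of_mul_le_mul_left (h.trans h1) Nat.card_pos
  obtain ⟨e⟩ : Nonempty (Fin c ↪ T.image π) :=
    Function.Embedding.nonempty_of_card_le (by simpa using h2)
  choose t ht1 ht2 using fun k => Finset.mem_image.1 (e k).2
  refine ⟨t, ht1, fun k l g hg => e.injective (Subtype.ext ?_)⟩
  rw [← ht2, ← ht2, ← hg]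
  exact (Quotient.sound' (orbitRel_apply.2 ⟨g, rfl⟩)).symm

theorem num_bound {x : ℕ} (hx : 256 ≤ x) : 1536 ^ 4 * x ^ 32 ≤ 3 ^ (x - 8) := by
  induction x, hx using Nat.le_induction with
  | base => decide +kernel
  | succ x hx ih =>
    have h1 : (256 * (x + 1)) ^ 32 ≤ (257 * x) ^ 32 := Nat.pow_le_pow_left (by omega) _
    have h2 : (257 : ℕ) ^ 32 ≤ 256 ^ 32 * 3 := by norm_num
    have h0 : 0 < 256 ^ 32 := by positivity
    rw [mul_pow, mul_pow] at h1
    rw [show x + 1 - 8 = x - 8 + 1 by omega, pow_succ 3]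
    generalize (256 : ℕ) ^ 32 = A at h0 h1 h2
    generalize (257 : ℕ) ^ 32 = B at h1 h2
    generalize (1536 : ℕ) ^ 4 = C at ih ⊢
    generalize (x + 1) ^ 32 = y at h1 ⊢
    generalize x ^ 32 = z at h1 ih
    have h3 : y ≤ 3 * z := Nat.le_of_mul_le_mul_left
      (h1.trans ((Nat.mul_le_mul_right _ h2).trans_eq (mul_assoc _ _ _))) h0
    calc _ ≤ C * (3 * z) := Nat.mul_le_mul_left _ h3
      _ = C * z * 3 := by ring
      _ ≤ _ := Nat.mul_le_mul_right _ ih

variable {K V Γ M : Type*} [Field K] [AddCommGroup V] [Module K V] [Group Γ]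
  [DistribMulAction Γ V] [Group M] [DistribMulAction M V]

namespace Heis
variable (H : Heis K V Γ M)

/-- `M ⧸ Z`, additively -/
abbrev W := Additive (M ⧸ H.s.range)

instance wAct : DistribMulAction Γ H.W where
  smul g w := Additive.ofMul (H.ρ g w.toMul)
  one_smul w := by
    change Additive.ofMul (H.ρ 1 w.toMul) = w
    simp
  mul_smul g h w := by
    change Additive.ofMul (H.ρ (g * h) w.toMul) = Additive.ofMul (H.ρ g (H.ρ h w.toMul))
    simp
  smul_zero g := by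
    change Additive.ofMul (H.ρ g 1) = 0
    simp
  smul_add g w w' := by
    change Additive.ofMul (H.ρ g (w.toMul * w'.toMul)) =
      Additive.ofMul (H.ρ g w.toMul * H.ρ g w'.toMul)
    simp

/-- the class of `x` -/
def wm (x : M) : H.W := Additive.ofMul (x : M ⧸ H.s.range)

theorem wm_smul (g : Γ) (x : M) : g • H.wm x = H.wm (H.κ g x) := rfl

theorem wm_mul (x y : M) : H.wm (x * y) = H.wm x + H.wm y := rfl

theorem wm_inv (x : M) : H.wm x⁻¹ = -H.wm x := rfl

theorem wm_pow (x : M) (k : ℕ) : H.wm (x ^ k) = k • H.wm x := rfl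

theorem wm_eq_iff {x y : M} : H.wm x = H.wm y ↔ x⁻¹ * y ∈ H.s.range := QuotientGroup.eq

theorem wm_eq_zero {x : M} : H.wm x = 0 ↔ x ∈ H.s.range := QuotientGroup.eq_one_iff x

theorem wm_surj (w : H.W) : ∃ x, H.wm x = w := QuotientGroup.mk_surjective w.toMul

/-- preimage in `M` -/
def msub (U : AddSubgroup H.W) : Subgroup M :=
  (AddSubgroup.toSubgroup' U).comap (QuotientGroup.mk' H.s.range)

theorem mem_msub {U : AddSubgroup H.W} {x : M} : x ∈ H.msub U ↔ H.wm x ∈ U := Iff.rfl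

theorem W_cr [Finite K] [Finite M] : CR Γ H.W := by
  intro U hU
  let N := H.msub U
  let P := H.perp N
  have hZN : H.s.range ≤ N := fun x hx => H.mem_msub.2 (H.wm_eq_zero.2 hx ▸ zero_mem _)
  have hN : ∀ g, ∀ x ∈ N, H.κ g x ∈ N := fun g x hx => hU g _ hx
  have hperp : ∀ N : Subgroup M, (∀ g, ∀ x ∈ N, H.κ g x ∈ N) →
      ∀ g, ∀ x ∈ H.perp N, H.κ g x ∈ H.perp N := by
    intro N hN g x hx d hd
    have := H.b_κ_one g (hx _ (hN g⁻¹ d hd))
    rwa [H.κ_inv] at this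
  have hP := hperp N hN
  let U' : AddSubgroup H.W := Subgroup.toAddSubgroup (P.map (QuotientGroup.mk' H.s.range))
  have hU' : ∀ x, H.wm x ∈ U' ↔ x ∈ P := by
    intro x
    refine ⟨?_, fun hx => ⟨x, hx, rfl⟩⟩
    rintro ⟨y, hy, hxy⟩
    simpa using mul_mem hy (H.Z_le_perp N (H.wm_eq_iff.1 hxy))
  refine ⟨U', fun g w hw => ?_, eq_bot_iff.2 fun w hw => ?_, eq_top_iff.2 fun w _ => ?_⟩
  · obtain ⟨x, rfl⟩ := H.wm_surj w
    exact (hU' _).2 (hP g x ((hU' x).1 hw))
  · obtain ⟨x, rfl⟩ := H.wm_surj w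
    exact H.wm_eq_zero.2 (H.noiso (N ⊓ P) (fun g x hx => ⟨hN g x hx.1, hP g x hx.2⟩)
      (fun x hx y hy => hy.2 x hx.1) ⟨hw.1, (hU' x).1 hw.2⟩)
  · obtain ⟨x, rfl⟩ := H.wm_surj w
    by_contra hx
    obtain ⟨y, hy1, hy2⟩ := H.separate (N := H.msub (U ⊔ U'))
      (fun x hx => H.mem_msub.2 (H.wm_eq_zero.2 hx ▸ zero_mem _)) hx
    refine hy2 (H.b_Z_right (H.noiso (P ⊓ H.perp P)
      (fun g x hx => ⟨hP g x hx.1, hperp P hP g x hx.2⟩) (fun x hx y hy => hy.2 x hx.1)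
      ⟨fun n hn => hy1 n (AddSubgroup.mem_sup_left hn),
        fun n hn => hy1 n (AddSubgroup.mem_sup_right ((hU' n).2 hn))⟩) x)

/-- the linear elements -/
def A : Subgroup Γ where
  carrier := {g | ∀ c, H.κ g (H.s c) = H.s c}
  mul_mem' := fun {a b} ha hb c => by rw [map_mul, MulAut.mul_apply, hb, ha]
  one_mem' := fun c => by simp
  inv_mem' := fun {a} ha c => by rw [← ha c, H.κ_inv', ha]

theorem κ_Z_eq {g : Γ} (hg : g ∈ H.A) {x : M} (hx : x ∈ H.s.range) : H.κ g x = x := by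
  obtain ⟨c, rfl⟩ := hx
  exact hg c

theorem κ_commutator {a b : Γ} (h : ∀ x, H.κ a (H.κ b x) = H.κ b (H.κ a x)) (x : M) :
    H.κ ⁅a, b⁆ x = x := by
  simp only [commutatorElement_def, map_mul, MulAut.mul_apply]
  rw [h, H.κ_inv, H.κ_inv]

theorem mem_A [Finite K] (L : Subgroup Γ) {t : ℕ} (ht : 1 ≤ t) : ds L t ≤ H.A := by
  refine (ds_anti L ht).trans (ds_succ_le (n := 0) fun a _ b _ c => ?_)
  obtain ⟨ζ, hζ⟩ := IsCyclic.exists_generator (α := Kˣ)
  have h1 : ∀ g, ∃ i : ℤ, ∀ x ∈ H.s.range, H.κ g x = x ^ i := by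
    intro g
    obtain ⟨c', hc'⟩ := H.κ_s g ζ
    obtain ⟨i, rfl⟩ := hζ c'
    refine ⟨i, ?_⟩
    rintro _ ⟨c, rfl⟩
    obtain ⟨j, rfl⟩ := hζ c
    simp only [map_zpow] at hc' ⊢
    rw [hc', ← zpow_mul, ← zpow_mul, mul_comm]
  obtain ⟨i, hi⟩ := h1 a
  obtain ⟨j, hj⟩ := h1 b
  have h2 : H.κ a⁻¹ (H.κ b⁻¹ (H.s c)) ∈ H.s.range := H.κ_Z _ (H.κ_Z _ ⟨c, rfl⟩)
  simp only [commutatorElement_def, map_mul, MulAut.mul_apply]
  rw [hj _ h2, map_zpow, H.κ_inv, ← hj _ (H.κ_Z _ ⟨c, rfl⟩), H.κ_inv]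

theorem gen_primes [Finite K] {P : Subgroup M}
    (h : ∀ r : ℕ, r.Prime → ∀ x, x ^ r ∈ H.s.range → x ∈ P) (x : M) : x ∈ P := by
  obtain ⟨e, he, -, hx⟩ := H.exists_exp
  suffices key : ∀ e : ℕ, Squarefree e → ∀ x, x ^ e ∈ H.s.range → x ∈ P from key e he x (hx x)
  intro e
  induction e using induction_on_primes with
  | zero => exact fun h => absurd h not_squarefree_zero
  | one => exact fun _ x hx => h 2 Nat.prime_two x (pow_mem (by simpa using hx) 2)
  | prime_mul p a hp ih =>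
    intro he x hx
    have h1 := Nat.squarefree_mul_iff.1 he
    exact mem_of_coprime h1.1 (ih h1.2.2 _ (by rwa [← pow_mul]))
      (h p hp _ (by rwa [← pow_mul, mul_comm]))

/-- `g` is trivial on `B` and on the `r`-part of `M ⧸ ZB` -/
def RT (g : Γ) (r : ℕ) (B : Subgroup M) : Prop :=
  (∀ x, x ^ r ∈ H.s.range → x⁻¹ * H.κ g x ∈ H.s.range ⊔ B) ∧ ∀ d ∈ B, H.κ g d = d

/-- after `t` steps the stabilizer of `v` has the property `RT` -/
def Good (v : V) (r t : ℕ) : Prop :=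
  ∃ B : Subgroup M, (∀ x ∈ B, ∀ y ∈ B, x * y = y * x) ∧
    ∀ g ∈ ds (stabilizer Γ v) t, g ∈ H.A → H.RT g r B

theorem Good.mono {v : V} {r t t' : ℕ} (h : H.Good v r t) (ht : t ≤ t') : H.Good v r t' := by
  obtain ⟨B, h1, h2⟩ := h
  exact ⟨B, h1, fun g hg => h2 g (ds_anti _ ht hg)⟩

theorem RT.fix {g : Γ} (hg : g ∈ H.A) {r : ℕ} {B : Subgroup M} (h : H.RT g r B) {y : M}
    (hy : y ∈ H.s.range ⊔ B) : H.κ g y = y := by
  obtain ⟨z, hz, d, hd, rfl⟩ := Subgroup.mem_sup_of_normal_left.1 hy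
  rw [map_mul, H.κ_Z_eq hg hz, h.2 d hd]

theorem comm_κ [Finite K] {g h : Γ} (hg : g ∈ H.A) (hh : h ∈ H.A)
    (hr : ∀ r : ℕ, r.Prime → ∃ B : Subgroup M, (∀ x ∈ B, ∀ y ∈ B, x * y = y * x) ∧ H.RT g r B ∧
      H.RT h r B) (x : M) : H.κ ⁅g, h⁆ x = x := by
  refine H.κ_commutator (fun x => ?_) x
  refine H.gen_primes (P := ((H.κ g).toMonoidHom.comp (H.κ h).toMonoidHom).eqLocus
    ((H.κ h).toMonoidHom.comp (H.κ g).toMonoidHom)) (fun r hp x hx => ?_) x
  obtain ⟨B, hB, h1, h2⟩ := hr r hp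
  change H.κ g (H.κ h x) = H.κ h (H.κ g x)
  have a1 := h1.1 x hx
  have a2 := h2.1 x hx
  have b1 := h1.fix H hg a2
  have b2 := h2.fix H hh a1
  rw [map_mul, map_inv, inv_mul_eq_iff_eq_mul] at b1 b2
  have c : (x⁻¹ * H.κ g x) * (x⁻¹ * H.κ h x) = (x⁻¹ * H.κ h x) * (x⁻¹ * H.κ g x) := by
    obtain ⟨_, ⟨z, rfl⟩, d, hd, e1⟩ := Subgroup.mem_sup_of_normal_left.1 a1
    obtain ⟨_, ⟨z', rfl⟩, d', hd', e2⟩ := Subgroup.mem_sup_of_normal_left.1 a2
    rw [← e1, ← e2]
    exact (((H.s_commute z _).mul_left ((H.s_commute z' d).symm.mul_right (hB d hd d' hd')))).eq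
  rw [b1, b2]
  simpa [mul_assoc] using c

theorem sm_of_good [Finite K] {v : V} (hv : v ≠ 0) {t : ℕ} (ht : 1 ≤ t)
    (h : ∀ r : ℕ, r.Prime → H.Good v r t) : Sm Γ v (t + 1) := by
  refine fun g hg => mem_trv.1 (ds_succ_le (fun a ha b hb => mem_trv.2 fun w => ?_) hg)
  have a1 := H.mem_A _ ht ha
  have a2 := H.mem_A _ ht hb
  obtain ⟨c, hc⟩ := H.selfc _ (H.comm_κ a1 a2 fun r hr => by
    obtain ⟨B, h1, h2⟩ := h r hr
    exact ⟨B, h1, h2 a ha a1, h2 b hb a2⟩)
  have h1 : ⁅a, b⁆ • v = v := ds_le _ (t + 1) (Subgroup.commutator_mem_commutator ha hb)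
  rw [hc, smul_cancel hv ((hc v).symm.trans (h1.trans (one_smul K v).symm)), one_smul]

theorem scal {L : Subgroup Γ} {t : ℕ} (h : ∀ g ∈ ds L t, ∀ x, H.κ g x = x) :
    ds L (t + 1) ≤ trv Γ V := by
  refine ds_succ_le fun a ha b hb => mem_trv.2 fun w => ?_
  obtain ⟨c, hc⟩ := H.selfc _ (h a ha)
  obtain ⟨c', hc'⟩ := H.selfc _ (h b hb)
  have : ∀ w : V, a • b • w = b • a • w := fun w => by rw [hc, hc', hc', hc, smul_comm]
  rw [commutatorElement_def, mul_smul, mul_smul, mul_smul, this, smul_inv_smul, smul_inv_smul]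

theorem RT_bot {g : Γ} {r : ℕ} (h : ∀ w : H.W, r • w = 0 → g • w = w) : H.RT g r ⊥ :=
  ⟨fun x hx => Subgroup.mem_sup_left (H.wm_eq_iff.1 (h _ (H.wm_eq_zero.2 hx)).symm),
    fun d hd => by rw [Subgroup.mem_bot.1 hd, map_one]⟩

theorem good_of_W (v : V) {r t : ℕ}
    (h : ∀ g ∈ ds (⊤ : Subgroup Γ) t, ∀ w : H.W, r • w = 0 → g • w = w) : H.Good v r t :=
  ⟨⊥, by simp, fun g hg _ => H.RT_bot (h g (ds_mono le_top t hg))⟩

theorem top_trv [Finite K] {t : ℕ} (ht : 1 ≤ t)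
    (h : ∀ g ∈ ds (⊤ : Subgroup Γ) t, ∀ w : H.W, g • w = w) : ds ⊤ (t + 2) ≤ trv Γ V := by
  refine H.scal (t := t + 1) fun g hg x => ?_
  have : g ∈ H.κ.ker := ds_succ_le (fun a ha b hb => MulEquiv.ext (H.comm_κ (H.mem_A _ ht ha)
    (H.mem_A _ ht hb) fun r _ => ⟨⊥, by simp, H.RT_bot fun w _ => h a ha w,
      H.RT_bot fun w _ => h b hb w⟩)) hg
  rw [this, MulAut.one_apply]

theorem top_trv' [Finite K] (h : ∀ x, x ∈ H.s.range) : ds ⊤ 2 ≤ trv Γ V :=
  H.scal fun _ hg x => H.κ_Z_eq (H.mem_A _ le_rfl hg) (h x)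

section card
variable [Finite K] [Finite M] {v : V}

theorem card_EN (hv : IsMaxV M v) :
    (H.s.range ⊔ stabilizer M v).relIndex (H.perp (stabilizer M v)) ≤ 4 := by
  by_cases h : H.perp (stabilizer M v) ≤ H.s.range ⊔ stabilizer M v
  · rw [Subgroup.relIndex_eq_one.2 h]
    decide
  obtain ⟨i0, hi0, hi0N⟩ := SetLike.not_le_iff_exists.1 h
  obtain ⟨i, j, hm⟩ := H.exists_minus hv hi0 hi0N
  have h1 : ∀ e : H.perp (stabilizer M v), ∃ k : Fin 4, ∃ n ∈ H.s.range ⊔ stabilizer M v,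
      (e : M) = n * ![1, i, j, i * j] k := by
    intro e
    obtain ⟨n, hn, h | h | h | h⟩ := hm.gen e e.2
    exacts [⟨0, n, hn, by simpa using h⟩, ⟨1, n, hn, h⟩, ⟨2, n, hn, h⟩, ⟨3, n, hn, h⟩]
  choose F n hn hF using h1
  refine (relIndex_le_card _ _ F fun x y hxy => ?_).trans (by simp)
  rw [hF, hF, hxy]
  have := (H.normal_of_le (N := H.s.range ⊔ stabilizer M v) le_sup_left).conj_mem _
    (mul_mem (inv_mem (hn x)) (hn y)) (![1, i, j, i * j] (F y))⁻¹
  simpa [mul_assoc] using this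

theorem mem_sup_of_odd (hv : IsMaxV M v) {x : M} (hx : x ∈ H.perp (stabilizer M v)) {r : ℕ}
    (hr : Odd r) (hxr : x ^ r ∈ H.s.range) : x ∈ H.s.range ⊔ stabilizer M v := by
  by_contra h
  obtain ⟨i, j, hm⟩ := H.exists_minus hv hx h
  haveI := H.normal_of_le (N := H.s.range ⊔ stabilizer M v) le_sup_left
  letI := H.quotComm (H.s.range ⊔ stabilizer M v) le_sup_left
  refine h (mem_of_coprime (Nat.coprime_two_left.2 hr) ?_ (Subgroup.mem_sup_left hxr))
  obtain ⟨n, hn, h1⟩ := hm.gen x hx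
  have hi : (i : M ⧸ H.s.range ⊔ stabilizer M v) ^ 2 = 1 := by
    rw [← QuotientGroup.mk_pow, QuotientGroup.eq_one_iff, sq, hm.ii]
    exact Subgroup.mem_sup_left ⟨_, rfl⟩
  have hj : (j : M ⧸ H.s.range ⊔ stabilizer M v) ^ 2 = 1 := by
    rw [← QuotientGroup.mk_pow, QuotientGroup.eq_one_iff, sq, hm.jj]
    exact Subgroup.mem_sup_left ⟨_, rfl⟩
  rw [← QuotientGroup.eq_one_iff] at hn ⊢
  rcases h1 with rfl | rfl | rfl | rfl <;> simp [mul_pow, hn, hi, hj]

omit [Finite K] in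
theorem card_V [Finite V] (hv : v ≠ 0) :
    Nat.card K ^ (H.perp (stabilizer M v)).index ≤ Nat.card V := by
  haveI := Fintype.ofFinite (M ⧸ H.perp (stabilizer M v))
  rw [Subgroup.index, ← Nat.card_fun]
  refine Nat.card_le_card_of_injective (fun c : M ⧸ H.perp (stabilizer M v) → K =>
    ∑ χ, c χ • χ.out • v) fun c c' h => funext fun χ => ?_
  have h1 : ∀ (c : M ⧸ H.perp (stabilizer M v) → K) χ,
      H.Comp (stabilizer M v) χ.out (c χ • χ.out • v) :=
    fun c χ => (H.comp_smul (fun d hd => hd) _).kmul H _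
  exact smul_cancel (act_ne_zero _ hv) (H.comp_indep _ _ (h1 c) (h1 c') h χ)

omit [Finite K] in
theorem card_D (hv : v ≠ 0) : Nat.card (stabilizer M v) ≤ (H.perp (stabilizer M v)).index := by
  let X := M ⧸ H.perp (stabilizer M v)
  haveI : Fintype X := Fintype.ofFinite _
  have hli := linearIndependent_monoidHom X K
  haveI : Finite (X →* K) := hli.finite
  haveI : Fintype (X →* K) := Fintype.ofFinite _
  have hcard : Nat.card (X →* K) ≤ Nat.card X := by
    simpa using hli.fintype_card_le_finrank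
  refine le_trans (Nat.card_le_card_of_injective (fun d : stabilizer M v =>
    (Units.coeHom K).comp (QuotientGroup.lift (H.perp (stabilizer M v)) (H.b d) fun x hx => hx d d.2))
    fun d d' h => ?_) hcard
  have h1 : (d : M)⁻¹ * d' ∈ H.s.range := H.nondeg fun y => by
    have : (H.b d y : K) = H.b d' y := DFunLike.congr_fun h (y : X)
    rw [map_mul, map_inv, MonoidHom.mul_apply, MonoidHom.inv_apply, Units.ext this, inv_mul_cancel]
  exact Subtype.ext (inv_mul_eq_one.1 (H.eq_one_of_Z_fix hv h1 (d⁻¹ * d').2))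

omit [Finite K] in
theorem card_ZB (B : Subgroup M) : H.s.range.relIndex (H.s.range ⊔ B) ≤ Nat.card B := by
  have h1 : ∀ e : (H.s.range ⊔ B : Subgroup M), ∃ d : B, ∃ z ∈ H.s.range, z * d = e := by
    intro e
    obtain ⟨z, hz, d, hd, h⟩ := Subgroup.mem_sup_of_normal_left.1 e.2
    exact ⟨⟨d, hd⟩, z, hz, h⟩
  choose F z hz hF using h1
  refine relIndex_le_card _ _ F fun x y hxy => ?_
  rw [← hF, ← hF, hxy]
  simpa [mul_assoc] using H.normal_Z.conj_mem _ (mul_mem (inv_mem (hz x)) (hz y)) (F y : M)⁻¹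

omit [Finite K] in
theorem card_W (hv : v ≠ 0) : Nat.card H.W ≤
    (H.s.range ⊔ stabilizer M v).relIndex (H.perp (stabilizer M v)) *
      (H.perp (stabilizer M v)).index ^ 2 := by
  have h1 := Subgroup.relIndex_mul_index (H.sup_le_perp hv)
  have h2 := Subgroup.relIndex_mul_index (le_sup_left : H.s.range ≤ H.s.range ⊔ stabilizer M v)
  change H.s.range.index ≤ _
  rw [← h2, ← h1, mul_left_comm, sq]
  exact Nat.mul_le_mul_left _ (Nat.mul_le_mul_right _ ((H.card_ZB _).trans (H.card_D hv)))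

end card

include H in
theorem fx_M [Finite V] {y : M} (hy : y ≠ 1) : Nat.card V ≤ (fx V y).index ^ 2 := by
  suffices h : ∃ x : M, fx V y ⊓ (fx V y).comap (DistribSMul.toAddMonoidHom V x) = ⊥ by
    obtain ⟨x, hx⟩ := h
    have := index_inf_comap (fx V y) x
    rwa [hx, AddSubgroup.index_bot] at this
  by_cases h : y ∈ H.s.range
  · exact ⟨1, eq_bot_iff.2 fun u hu => by_contra fun h0 => hy (H.eq_one_of_Z_fix h0 h hu.1)⟩
  obtain ⟨x, hx⟩ := not_forall.1 (mt H.nondeg h)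
  refine ⟨x, eq_bot_iff.2 fun u hu => by_contra fun h0 => hx (H.s_fix (act_ne_zero x h0) ?_)⟩
  have h1 : y • u = u := hu.1
  have h2 : y • x • u = x • u := hu.2
  rwa [← mul_smul, H.mul_eq, mul_smul, mul_smul, h1] at h2

include H in
theorem fx_Γ [Finite V] {g : Γ} (hg : g ∉ trv Γ V) : Nat.card V ≤ (fx V g).index ^ 4 := by
  by_cases h : ∀ x, H.κ g x = x
  · obtain ⟨c, hc⟩ := H.selfc g h
    have : fx V g = ⊥ := eq_bot_iff.2 fun u hu => by_contra fun h0 => hg (mem_trv.2 fun w => by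
      rw [hc, smul_cancel h0 ((hc u).symm.trans (hu.trans (one_smul K u).symm)), one_smul])
    rw [this, AddSubgroup.index_bot]
    exact Nat.le_self_pow (by decide) _
  obtain ⟨x, hx⟩ := not_forall.1 h
  refine (H.fx_M (y := x⁻¹ * H.κ g x) fun h => hx (inv_mul_eq_one.1 h).symm).trans ?_
  rw [show 4 = 2 * 2 from rfl, pow_mul]
  refine Nat.pow_le_pow_left (le_trans (AddSubgroup.index_antitone fun u hu => ?_)
    (index_inf_comap (fx V g) x)) 2
  have h1 : g • u = u := hu.1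
  have h2 : g • x • u = x • u := hu.2
  change (x⁻¹ * H.κ g x) • u = u
  rw [H.κ_smul, h1] at h2
  rw [mul_smul, h2, inv_smul_smul]

end Heis

namespace Heis
variable {M : Subgroup Γ} (H : Heis K V Γ M)

theorem inner' [Finite M] {g : Γ} (hg : g ∈ H.A) (h : ∀ w : H.W, g • w = w) :
    ∃ m : M, ∀ v : V, g • v = m • v := by
  have h0 : ∀ x, ∃ c, H.s c = x⁻¹ * H.κ g x := fun x => H.wm_eq_iff.1 (h (H.wm x)).symm
  choose ψ hψ using h0
  obtain ⟨w, hw⟩ := H.duality (MonoidHom.mk' ψ fun x y => H.s_inj (by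
    rw [map_mul, hψ, map_mul, mul_inv_rev, mul_assoc, ← mul_assoc x⁻¹, ← hψ, ← mul_assoc,
      ← H.s_comm, mul_assoc, hψ y])) (fun c => H.s_inj (by
    change H.s (ψ _) = _
    rw [hψ, hg c, inv_mul_cancel, map_one]))
  obtain ⟨c, hc⟩ := H.selfc ((w : Γ) * g) fun x => H.ext_smul fun v => by
    have h1 := H.κ_smul (w : Γ) (H.κ g x) (w⁻¹ • v)
    have h2 : H.κ g x = x * H.s (H.b x w) := by
      rw [← hw, ← inv_mul_eq_iff_eq_mul]
      exact (hψ x).symm
    rw [← Subgroup.smul_def, ← Subgroup.smul_def, smul_inv_smul] at h1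
    rw [map_mul, MulAut.mul_apply, ← h1, h2, ← mul_smul, ← mul_smul, ← H.s_comm, ← mul_assoc,
      ← H.s_comm, mul_assoc _ w, ← H.mul_eq, mul_inv_cancel_right]
  haveI := H.nontriv
  obtain ⟨u, hu⟩ := exists_ne (0 : V)
  have hc0 : c ≠ 0 := fun h0 => act_ne_zero ((w : Γ) * g) hu (by rw [hc, h0, zero_smul])
  refine ⟨w⁻¹ * H.s (Units.mk0 c hc0), fun v => ?_⟩
  rw [mul_smul, H.s_smul, Units.val_mk0, ← hc, mul_smul, eq_inv_smul_iff]
  rfl

theorem card_Γ [Finite K] [Finite Γ] (hS : Group.IsSolvable Γ)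
    (hf : ∀ g : Γ, (∀ v : V, g • v = v) → g = 1) :
    Nat.card Γ ≤ Nat.card K ^ 2 * Nat.card H.W ^ 4 := by
  obtain ⟨t, ht⟩ := cr_base3 hS H.W_cr
  obtain ⟨ζ, hζ⟩ := IsCyclic.exists_generator (α := Kˣ)
  let P : Subgroup Γ := H.A ⊓ trv Γ H.W
  have h1 : P.index ≤ Nat.card (Kˣ × (Fin 3 → H.W)) := by
    choose σ hσ using fun g => H.κ_s g ζ
    rw [← Subgroup.relIndex_top_right]
    refine relIndex_le_card ⊤ P (fun g => (σ g, fun i => (g : Γ) • t i)) fun x y hxy => ⟨?_, ?_⟩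
    · intro c
      obtain ⟨j, rfl⟩ := hζ c
      have : σ x = σ y := congrArg Prod.fst hxy
      simp only [map_zpow]
      rw [map_mul, MulAut.mul_apply, hσ, ← this, ← hσ, H.κ_inv']
    · refine mem_trv.2 (ht _ fun i => ?_)
      have : (x : Γ) • t i = (y : Γ) • t i := congrFun (congrArg Prod.snd hxy) i
      rw [mul_smul, ← this, inv_smul_smul]
  have h2 : Nat.card P ≤ Nat.card M := by
    choose F hF using fun g : P => H.inner' g.2.1 (mem_trv.1 g.2.2)
    refine Nat.card_le_card_of_injective F fun x y hxy => Subtype.ext ?_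
    refine inv_mul_eq_one.1 (hf _ fun v => ?_)
    rw [mul_smul, hF y, ← hxy, ← hF, inv_smul_smul]
  have h3 : Nat.card M = Nat.card Kˣ * Nat.card H.W := by
    rw [← H.s.range.card_mul_index, ← Nat.card_congr (MonoidHom.ofInjective H.s_inj).toEquiv]
    rfl
  have h4 : Nat.card Kˣ ≤ Nat.card K := Nat.card_le_card_of_injective _ Units.val_injective
  rw [Nat.card_prod, Nat.card_fun, Nat.card_fin] at h1
  rw [← P.card_mul_index]
  calc _ ≤ Nat.card K * Nat.card H.W * (Nat.card K * Nat.card H.W ^ 3) :=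
        Nat.mul_le_mul (h2.trans (h3 ▸ Nat.mul_le_mul_right _ h4))
          (h1.trans (Nat.mul_le_mul_right _ h4))
    _ = _ := by ring

theorem st_large [Finite K] [Finite Γ] [Finite V] (hS : Group.IsSolvable Γ)
    (hf : ∀ g : Γ, (∀ v : V, g • v = v) → g = 1) {v : V} (hv : IsMaxV M v)
    (hx : 256 ≤ (H.perp (stabilizer M v)).index) : St Γ V ![9, 9, 9, 9, 9] := by
  classical
  haveI := Fintype.ofFinite V
  haveI := Fintype.ofFinite Γ
  have hq : 3 ≤ Nat.card K := by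
    by_contra h
    have h1 : Nat.card Kˣ = 1 := by
      have : 1 < Nat.card K := Finite.one_lt_card
      rw [Nat.card_units]
      omega
    have h2 : H.perp (stabilizer M v) = ⊤ := eq_top_iff.2 fun x _ =>
      H.Z_le_perp _ (by simpa [h1] using H.pow_card_mem x)
    rw [h2, Subgroup.index_top] at hx
    omega
  have h1 := H.card_Γ hS hf
  have h2 := (H.card_W hv.1).trans (Nat.mul_le_mul_right _ (H.card_EN hv))
  have h3 := H.card_V hv.1
  have h4 := num_bound hx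
  generalize (H.perp (stabilizer M v)).index = x at *
  have h5 : (6 * Nat.card Γ) ^ 4 ≤ Nat.card V := by
    calc _ ≤ (6 * (Nat.card K ^ 2 * (4 * x ^ 2) ^ 4)) ^ 4 := by gcongr; exact h1.trans (by gcongr)
      _ = Nat.card K ^ 8 * (1536 ^ 4 * x ^ 32) := by ring
      _ ≤ Nat.card K ^ 8 * Nat.card K ^ (x - 8) :=
        Nat.mul_le_mul_left _ (h4.trans (Nat.pow_le_pow_left hq _))
      _ = Nat.card K ^ x := by rw [← pow_add]; congr 1; omega
      _ ≤ _ := h3
  have h6 : ∀ g : Γ, g ≠ 1 →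
      (Finset.univ.filter fun u : V => g • u = u).card * (6 * Nat.card Γ) ≤ Nat.card V := by
    intro g hg
    have a1 := h5.trans (H.fx_Γ fun h => hg (hf g (mem_trv.1 h)))
    have a2 := (Nat.pow_le_pow_iff_left (by decide)).1 a1
    rw [← (fx V g).card_mul_index, ← Fintype.card_subtype, ← Nat.card_eq_fintype_card]
    exact Nat.mul_le_mul_left _ a2
  let B := (Finset.univ.filter fun g : Γ => g ≠ 1).biUnion
    fun g => Finset.univ.filter fun u : V => g • u = u
  have h7 : B.card * 6 ≤ Nat.card V := by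
    refine Nat.le_of_mul_le_mul_right (c := Nat.card Γ) ?_ Nat.card_pos
    calc B.card * 6 * Nat.card Γ ≤ (∑ g ∈ Finset.univ.filter fun g : Γ => g ≠ 1,
          (Finset.univ.filter fun u : V => g • u = u).card) * (6 * Nat.card Γ) := by
          rw [mul_assoc]
          exact Nat.mul_le_mul_right _ Finset.card_biUnion_le
      _ ≤ ∑ g ∈ Finset.univ.filter fun g : Γ => g ≠ 1, Nat.card V := by
          rw [Finset.sum_mul]
          exact Finset.sum_le_sum fun g hg => h6 g (Finset.mem_filter.1 hg).2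
      _ ≤ _ := by
          rw [Finset.sum_const, smul_eq_mul, mul_comm, Nat.card_eq_fintype_card (α := Γ)]
          exact Nat.mul_le_mul_left _ (Finset.card_le_univ _)
  have h8 : 6 * Nat.card Γ ≤ Nat.card V := (Nat.le_self_pow (by decide) _).trans h5
  have h9 := Finset.card_add_card_compl B
  rw [← Nat.card_eq_fintype_card] at h9
  obtain ⟨t, ht1, ht2⟩ := exists_orbits (G := Γ) Bᶜ 5 (by omega)
  refine ⟨t, fun k g hg w => ?_, ht2⟩
  by_cases h : g = 1
  · rw [h, one_smul]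
  · exact absurd (Finset.mem_biUnion.2 ⟨g, by simpa using h, by simpa using ds_le _ _ hg⟩)
      (Finset.mem_compl.1 (ht1 k))

end Heis

end Cfsg.Agent.SolvLin
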