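import Cfsg.Agent.SolvLin.Main2
import Cfsg.Agent.Solv.ExtAction2
import Cfsg.Agent.Grp.PFrattini
import Cfsg.Agent.Transfer.Marks

/-!
# Two points for coprime actions of solvable groups
-/

set_option autoImplicit false
set_option linter.style.haveILetI false

namespace Cfsg.Agent.SolvLin

open Solv Pointwise

variable {A : Type*} [Group A] [Finite A]

theorem base2_elem {V : Type*} [CommGroup V] [Finite V] [MulDistribMulAction A V] {p : ℕ}
    [Fact p.Prime] (hp : ∀ x : V, x ^ p = 1) (hA : Group.IsSolvable A)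
    (hc : (Nat.card A).Coprime (Nat.card V)) :
    ∃ x y : V, ∀ a : A, a • x = x → a • y = y → ∀ v : V, a • v = v := by
  letI : DistribMulAction A (Additive V) :=
    { smul := fun a v => Additive.ofMul (a • v.toMul)
      one_smul := fun v => one_smul A v.toMul
      mul_smul := fun a b v => mul_smul a b v.toMul
      smul_zero := fun a => smul_one (N := V) a
      smul_add := fun a v w => smul_mul' a v.toMul w.toMul }
  obtain ⟨t, ht⟩ := cr_base2_coprime (V := Additive V) hA hc fun U hU => by
    obtain ⟨W, h1, h2, h3⟩ := Ext.exists_inv_compl (A := A) hp (U := Subgroup.toAddSubgroup.symm U)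
      hU (hc.coprime_dvd_right (Subgroup.card_subgroup_dvd_card _))
    refine ⟨Subgroup.toAddSubgroup W, h1, ?_, ?_⟩
    · simpa using congrArg Subgroup.toAddSubgroup h2
    · simpa using congrArg Subgroup.toAddSubgroup h3
  refine ⟨(t 0).toMul, (t 1).toMul, fun a h0 h1 v => ht a (fun i => ?_) v⟩
  fin_cases i
  · exact h0
  · exact h1

theorem base2_pgroup {P : Type*} [Group P] [Finite P] [MulDistribMulAction A P] {p : ℕ}
    [Fact p.Prime] (hP : IsPGroup p P) (hA : Group.IsSolvable A)
    (hc : (Nat.card A).Coprime (Nat.card P)) :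
    ∃ x y : P, ∀ a : A, a • x = x → a • y = y → ∀ v : P, a • v = v := by
  have hN := Ext.inv_of_characteristic (A := A) (frattini P)
  letI := Ext.quotAction hN
  haveI : IsMulCommutative (P ⧸ frattini P) :=
    Subgroup.Normal.quotient_commutative_iff_commutator_le.2
      (Grp.PFrattini.commutator_le_frattini hP)
  letI : CommGroup (P ⧸ frattini P) :=
    { (inferInstance : Group (P ⧸ frattini P)) with mul_comm := mul_comm' }
  obtain ⟨x, y, h⟩ := base2_elem (A := A) (V := P ⧸ frattini P) (p := p) (fun x => by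
    induction x using QuotientGroup.induction_on with | H x => ?_
    exact (QuotientGroup.eq_one_iff _).2 (Grp.PFrattini.pow_mem_frattini hP x)) hA
    (hc.coprime_dvd_right (Subgroup.card_quotient_dvd_card _))
  induction x using QuotientGroup.induction_on with | H x => ?_
  induction y using QuotientGroup.induction_on with | H y => ?_
  refine ⟨x, y, fun a hx hy v => ?_⟩
  have h1 := h a (congrArg QuotientGroup.mk hx) (congrArg QuotientGroup.mk hy)
  have h2 : FixedPoints.subgroup (Subgroup.zpowers a) P = ⊤ := by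
    apply frattini_nongenerating
    rw [eq_top_iff]
    intro w _
    obtain ⟨c, hc1, hc2⟩ := Ext.exists_fixed_lift (A := Subgroup.zpowers a) (N := frattini P)
      (fun _ _ => rfl) (hN.subgroup _) ((hc.coprime_dvd_left
        (Subgroup.card_subgroup_dvd_card _)).coprime_dvd_right (Subgroup.card_subgroup_dvd_card _))
      (Or.inl inferInstance) w
      (fun b => (Subgroup.zpowers_le (H := MulAction.stabilizer A (w : P ⧸ frattini P))).2 (h1 w) b.2)
    rw [← mul_inv_cancel_left c w]
    exact Subgroup.mul_mem_sup hc1 (QuotientGroup.eq.1 hc2)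
  exact (h2 ▸ Subgroup.mem_top v : v ∈ FixedPoints.subgroup (Subgroup.zpowers a) P)
    ⟨a, Subgroup.mem_zpowers a⟩

variable {K : Type*} [Group K] [Finite K] [MulDistribMulAction A K]

theorem card_fix_sylow (hA : Group.IsSolvable A) (hc : (Nat.card A).Coprime (Nat.card K)) {p : ℕ}
    [Fact p.Prime] (P : Sylow p K) (hP : Ext.Inv A (P : Subgroup K)) :
    Nat.card (P ⊓ FixedPoints.subgroup A K : Subgroup K) =
      p ^ (Nat.card (FixedPoints.subgroup A K)).factorization p := by
  set C := FixedPoints.subgroup A K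
  obtain ⟨Q⟩ : Nonempty (Sylow p C) := inferInstance
  have hQ : (Q : Subgroup C).map C.subtype ≤ C := Subgroup.map_subtype_le _
  obtain ⟨P', h1, h2⟩ := Ext.exists_inv_sylow_ge hc (Or.inl hA) (Q.2.map C.subtype)
    (Ext.inv_of_fixed fun a x hx => hQ hx a)
  obtain ⟨c, h3, rfl⟩ := Ext.inv_sylow_conj hc (Or.inl hA) P' P h2 hP
  apply Nat.dvd_antisymm
  · obtain ⟨k, hk⟩ := IsPGroup.iff_card.1 ((c • P').2.to_inf_left (K := C))
    rw [hk]
    exact pow_dvd_pow _ ((Nat.Prime.pow_dvd_iff_le_factorization Fact.out Nat.card_pos.ne').1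
      (hk ▸ Subgroup.card_dvd_of_le inf_le_right))
  · rw [← Q.card_eq_multiplicity, ← Subgroup.card_map_of_injective C.subtype_injective,
      ← Grp.card_conj_smul c]
    refine Subgroup.card_dvd_of_le (le_inf (Subgroup.pointwise_smul_le_pointwise_smul_iff.2 h1) ?_)
    intro x hx
    have := C.mul_mem (C.mul_mem h3 (hQ (Grp.mem_conj_smul_iff.1 hx))) (C.inv_mem h3)
    simpa [mul_assoc] using this

theorem base2_coprime (hA : Group.IsSolvable A) (hc : (Nat.card A).Coprime (Nat.card K)) :
    ∃ x y : K, ∀ a : A, a • x = x → a • y = y → ∀ v : K, a • v = v := by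
  classical
  haveI : ∀ p : (Nat.card K).primeFactors, Fact p.1.Prime :=
    fun p => ⟨Nat.prime_of_mem_primeFactors p.2⟩
  choose P hP using fun p : (Nat.card K).primeFactors => Ext.exists_inv_sylow hc (Or.inl hA) p.1
  letI : ∀ p, MulDistribMulAction A (P p : Subgroup K) := fun p => Ext.subAction (hP p)
  choose x y hxy using fun p => base2_pgroup (A := A) (P p).2 hA
    (hc.coprime_dvd_right (Subgroup.card_subgroup_dvd_card _))
  obtain ⟨σ, hσ⟩ := Transfer.exists_equiv_of_marks (MulAction.toPermHom A K)
    (MulAction.toPermHom A (∀ p, (P p : Subgroup K))) fun B => by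
      have e1 : {x // ∀ k ∈ B, MulAction.toPermHom A K k x = x} ≃ FixedPoints.subgroup B K :=
        Equiv.subtypeEquivRight fun x => ⟨fun h b => h b b.2, fun h k hk => h ⟨k, hk⟩⟩
      have e2 : {y // ∀ k ∈ B, MulAction.toPermHom A (∀ p, (P p : Subgroup K)) k y = y} ≃
          ∀ p, (P p ⊓ FixedPoints.subgroup B K : Subgroup K) :=
        ⟨fun y p => ⟨y.1 p, (y.1 p).2, fun b => congrArg Subtype.val (congrFun (y.2 b b.2) p)⟩,
          fun z => ⟨fun p => ⟨z p, (z p).2.1⟩, fun k hk => funext fun p =>
            Subtype.ext ((z p).2.2 ⟨k, hk⟩)⟩, fun _ => rfl, fun _ => rfl⟩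
      rw [Nat.card_congr e1, Nat.card_congr e2, Nat.card_pi, Finset.prod_congr rfl fun p _ =>
        card_fix_sylow (A := B) inferInstance
          (hc.coprime_dvd_left (Subgroup.card_subgroup_dvd_card _)) (P p) ((hP p).subgroup B),
        Finset.prod_coe_sort _ fun p => p ^ (Nat.card (FixedPoints.subgroup B K)).factorization p,
        ← Finsupp.prod_of_support_subset _ (Nat.primeFactors_mono
          (Subgroup.card_subgroup_dvd_card _) Nat.card_pos.ne') (fun p k => p ^ k) (by simp),
        Nat.prod_factorization_pow_eq_self Nat.card_pos.ne']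
  refine ⟨σ.symm x, σ.symm y, fun a hx hy v => σ.injective ((hσ a v).trans (funext fun p => ?_))⟩
  have h1 := (hσ a _).symm.trans (congrArg σ hx)
  have h2 := (hσ a _).symm.trans (congrArg σ hy)
  rw [σ.apply_symm_apply] at h1 h2
  exact hxy p a (congrFun h1 p) (congrFun h2 p) _

end Cfsg.Agent.SolvLin
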