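import Cfsg.Agent.SolvLin.DL3

/-!
# Frames at a single prime
-/

set_option autoImplicit false
set_option linter.style.haveILetI false

namespace Cfsg.Agent.SolvLin

open MulAction

variable {K V Γ M : Type*} [Field K] [AddCommGroup V] [Module K V] [Group Γ]
  [DistribMulAction Γ V] [Group M] [DistribMulAction M V]

theorem root_pow {r : ℕ} (hr : r.Prime) {ζ ξ : Kˣ} (h1 : ζ ≠ 1) (h2 : ζ ^ r = 1) (h3 : ξ ^ r = 1) :
    ∃ n : ℕ, ζ ^ n = ξ := by
  haveI := Fact.mk hr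
  have h4 : IsPrimitiveRoot (ζ : K) r :=
    IsPrimitiveRoot.coe_units_iff.2 (orderOf_eq_prime h2 h1 ▸ IsPrimitiveRoot.orderOf ζ)
  obtain ⟨n, -, hn⟩ := h4.eq_pow_of_pow_eq_one (ξ := (ξ : K)) (by rw [← Units.val_pow_eq_pow_val, h3, Units.val_one])
  exact ⟨n, Units.ext (by simpa using hn)⟩

theorem eq_one_of_coprime {G : Type*} [Group G] {x : G} {a b : ℕ} (hab : a.Coprime b)
    (ha : x ^ a = 1) (hb : x ^ b = 1) : x = 1 :=
  Subgroup.mem_bot.1 (mem_of_coprime hab (Subgroup.mem_bot.2 ha) (Subgroup.mem_bot.2 hb))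

namespace Heis
variable (H : Heis K V Γ M)

/-- the `r`-part of `M` -/
def Mr (r : ℕ) : Subgroup M := H.msub (nsmulAddMonoidHom r).ker

theorem mem_Mr {r : ℕ} {x : M} : x ∈ H.Mr r ↔ x ^ r ∈ H.s.range := H.wm_eq_zero (x := x ^ r)

theorem b_pow_left {r : ℕ} {x : M} (hx : x ^ r ∈ H.s.range) (y : M) : H.b x y ^ r = 1 := by
  rw [← MonoidHom.pow_apply, ← map_pow, H.b_Z_left hx]

theorem b_pow_right {r : ℕ} {x : M} (hx : x ^ r ∈ H.s.range) (y : M) : H.b y x ^ r = 1 := by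
  rw [← map_pow, H.b_Z_right hx]

theorem b_coprime {r r' : ℕ} (h : r.Coprime r') {x y : M} (hx : x ^ r ∈ H.s.range)
    (hy : y ^ r' ∈ H.s.range) : H.b x y = 1 :=
  eq_one_of_coprime h (H.b_pow_left hx y) (H.b_pow_right hy x)

include H in
theorem mul_pow_odd {r : ℕ} (hr : Odd r) {x y : M} (hx : x ^ r = 1) (hy : y ^ r = 1) :
    (x * y) ^ r = 1 := by
  obtain ⟨k, rfl⟩ := hr
  have : (2 * k + 1).choose 2 = (2 * k + 1) * k := by
    rw [Nat.choose_two_right, Nat.add_sub_cancel, mul_left_comm, Nat.mul_div_cancel_left _ two_pos]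
  rw [H.mul_pow_eq, hx, hy, this, pow_mul, H.b_pow_left (hy ▸ one_mem _), one_pow, map_one, mul_one,
    mul_one]

/-- elements of order `r` fixing `v` -/
def Dr {v : V} (hv : v ≠ 0) (r : ℕ) : Subgroup M where
  carrier := {x | x • v = v ∧ x ^ r = 1}
  mul_mem' := fun {x y} hx hy => ⟨by rw [mul_smul, hy.1, hx.1], by
    rw [Commute.mul_pow (H.b_eq_one_iff.1 (H.stab_le_perp hv hy.1 x hx.1)), hx.2, hy.2, one_mul]⟩
  one_mem' := by simp
  inv_mem' := fun {x} hx => ⟨inv_smul_eq_iff.2 hx.1.symm, by rw [inv_pow, hx.2, inv_one]⟩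

theorem mem_Dr {v : V} {hv : v ≠ 0} {r : ℕ} {x : M} : x ∈ H.Dr hv r ↔ x • v = v ∧ x ^ r = 1 :=
  Iff.rfl

theorem b_Dr {v : V} {hv : v ≠ 0} {r : ℕ} {x y : M} (hx : x ∈ H.Dr hv r) (hy : y ∈ H.Dr hv r) :
    H.b x y = 1 := H.stab_le_perp hv hy.1 x hx.1

theorem mem_sup_Dr {v : V} (hv : v ≠ 0) {r : ℕ} {x : M} (hx : x ∈ H.s.range ⊔ stabilizer M v)
    (hr : x ^ r ∈ H.s.range) : x ∈ H.s.range ⊔ H.Dr hv r := by
  obtain ⟨_, ⟨c, rfl⟩, d, hd, rfl⟩ := Subgroup.mem_sup_of_normal_left.1 hx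
  refine mul_mem (Subgroup.mem_sup_left ⟨c, rfl⟩) (Subgroup.mem_sup_right ⟨hd, ?_⟩)
  rw [H.s_mul_pow] at hr
  exact H.eq_one_of_Z_fix hv ((mul_mem_cancel_left (MonoidHom.mem_range.2 ⟨_, rfl⟩)).1 hr) (pow_mem hd r)

theorem κ_Dr {v v' : V} {hv : v ≠ 0} {hv' : v' ≠ 0} {r : ℕ} {g : Γ} (hg : g • v = v') {x : M}
    (hx : x ∈ H.Dr hv r) : H.κ g x ∈ H.Dr hv' r :=
  ⟨by rw [← hg, ← H.κ_smul, hx.1], by rw [← map_pow, hx.2, map_one]⟩

theorem card_Dr_eq [Finite M] {v v' : V} (hv : v ≠ 0) (hv' : v' ≠ 0) (r : ℕ) {g : Γ}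
    (hg : g • v = v') : Nat.card (H.Dr hv r) = Nat.card (H.Dr hv' r) := by
  have key : ∀ {v v' : V} (hv : v ≠ 0) (hv' : v' ≠ 0) {g : Γ}, g • v = v' →
      Nat.card (H.Dr hv r) ≤ Nat.card (H.Dr hv' r) := fun hv hv' g hg =>
    Nat.card_le_card_of_injective (fun x => ⟨_, H.κ_Dr hg x.2⟩) fun x y h =>
      Subtype.ext ((H.κ g).injective (congrArg Subtype.val h))
  exact le_antisymm (key hv hv' hg) (key hv' hv (inv_smul_eq_iff.2 hg.symm))

/-- a dual system -/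
structure PF0 {v : V} (hv : v ≠ 0) (r m : ℕ) where
  d : Fin m → M
  μ : Fin m → M
  hd : ∀ i, d i ∈ H.Dr hv r
  μr : ∀ i, μ i ^ r ∈ H.s.range
  μ1 : r ≠ 2 → ∀ i, μ i ^ r = 1
  off : ∀ i k, i ≠ k → H.b (d i) (μ k) = 1
  on : ∀ i, H.b (d i) (μ i) ≠ 1

/-- a full dual system -/
structure PF {v : V} (hv : v ≠ 0) (r m : ℕ) extends H.PF0 hv r m where
  gen : H.Dr hv r ≤ Subgroup.closure (Set.range d)
  prime : r.Prime

namespace PF0
variable {H} {v : V} {hv : v ≠ 0} {r m : ℕ} (F : H.PF0 hv r m)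

theorem clo_le : Subgroup.closure (Set.range F.d) ≤ H.Dr hv r := by
  rw [Subgroup.closure_le]
  rintro _ ⟨i, rfl⟩
  exact F.hd i

theorem adj (hr : r.Prime) (x : M) :
    ∃ e ∈ Subgroup.closure (Set.range F.d), ∀ k, H.b e (F.μ k) = H.b x (F.μ k) := by
  classical
  suffices key : ∀ s : Finset (Fin m), ∃ e ∈ Subgroup.closure (Set.range F.d),
      ∀ k ∈ s, H.b e (F.μ k) = H.b x (F.μ k) by simpa using key Finset.univ
  intro s
  induction s using Finset.induction_on with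
  | empty => exact ⟨1, one_mem _, by simp⟩
  | insert i s hi ih =>
    obtain ⟨e, he, h⟩ := ih
    obtain ⟨n, hn⟩ := root_pow hr (F.on i) (H.b_pow_right (F.μr i) _)
      (H.b_pow_right (F.μr i) (x * e⁻¹))
    refine ⟨F.d i ^ n * e, mul_mem (pow_mem (Subgroup.subset_closure (Set.mem_range_self i)) n) he,
      fun k hk => ?_⟩
    simp only [map_mul, map_pow, map_inv, MonoidHom.mul_apply, MonoidHom.pow_apply,
      MonoidHom.inv_apply] at hn ⊢
    rcases Finset.mem_insert.1 hk with rfl | hk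
    · rw [hn, inv_mul_cancel_right]
    · rw [F.off i k (fun h => hi (h ▸ hk)), one_pow, one_mul, h k hk]

theorem ext [Finite K] [Finite M] (hr : r.Prime)
    (h : ¬ H.Dr hv r ≤ Subgroup.closure (Set.range F.d)) : Nonempty (H.PF0 hv r (m + 1)) := by
  obtain ⟨x0, hx0, hx0'⟩ := SetLike.not_le_iff_exists.1 h
  obtain ⟨e, he, hb⟩ := F.adj hr x0
  have hx : x0 * e⁻¹ ∈ H.Dr hv r := mul_mem hx0 (inv_mem (F.clo_le he))
  obtain ⟨w, hw1, hw2⟩ := H.separate (N := H.s.range ⊔ Subgroup.closure (Set.range F.d))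
    (x := x0 * e⁻¹) le_sup_left (fun h => by
      obtain ⟨z, hz, y, hy, h1⟩ := Subgroup.mem_sup_of_normal_left.1 h
      have h2 : z ∈ H.Dr hv r := by
        rw [eq_mul_inv_of_mul_eq h1]
        exact mul_mem hx (inv_mem (F.clo_le hy))
      rw [H.eq_one_of_Z_fix hv hz h2.1, one_mul] at h1
      exact hx0' ((mul_mem_cancel_right (inv_mem he)).1 (h1 ▸ hy)))
  haveI := Fact.mk hr
  have ho : orderOf (w : M ⧸ H.perp (H.Dr hv r)) = r := by
    refine orderOf_eq_prime ?_ fun h => hw2 ((QuotientGroup.eq_one_iff _).1 h _ hx)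
    rw [← QuotientGroup.mk_pow, QuotientGroup.eq_one_iff]
    intro y hy
    rw [map_pow, H.b_pow_left (hy.2 ▸ one_mem _)]
  obtain ⟨μ, h1, h2, h3⟩ := H.exists_rep (H.Dr hv r) w (ho.symm ▸ hr)
  rw [ho] at h2 h3
  have h4 : ∀ y ∈ H.Dr hv r, H.b y μ = H.b y w := fun y hy => by
    have := QuotientGroup.eq.1 h1 y hy
    rwa [map_mul, map_inv, inv_mul_eq_one] at this
  refine ⟨⟨Fin.cons (x0 * e⁻¹) F.d, Fin.cons μ F.μ, Fin.cases hx F.hd, Fin.cases h2 F.μr,
    fun h => Fin.cases (by simpa [rr, h] using h3) (F.μ1 h), fun i k => ?_, Fin.cases ?_ F.on⟩⟩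
  · refine Fin.cases ?_ (fun i => ?_) i <;> refine Fin.cases ?_ (fun k => ?_) k <;> intro hik
    · exact absurd rfl hik
    · simp [hb]
    · exact (h4 _ (F.hd i)).trans
        (hw1 _ (Subgroup.mem_sup_right (Subgroup.subset_closure ⟨i, rfl⟩)))
    · exact F.off i k fun h => hik (congrArg _ h)
  · exact (h4 _ hx).trans_ne hw2

end PF0

theorem exists_PF [Finite K] [Finite M] {v : V} (hv : v ≠ 0) {r : ℕ} (hr : r.Prime) :
    ∃ m, Nonempty (H.PF hv r m) := by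
  by_contra hcon
  have key : ∀ m, Nonempty (H.PF0 hv r m) := by
    intro m
    induction m with
    | zero => exact ⟨⟨Fin.elim0, Fin.elim0, fun i => i.elim0, fun i => i.elim0,
        fun _ i => i.elim0, fun i => i.elim0, fun i => i.elim0⟩⟩
    | succ m ih =>
      obtain ⟨F⟩ := ih
      exact F.ext hr fun h => hcon ⟨m, ⟨⟨F, h, hr⟩⟩⟩
  obtain ⟨F⟩ := key (Nat.card M + 1)
  have := Nat.card_le_card_of_injective F.d fun i k h => by_contra fun hik =>
    F.on k (h ▸ F.off i k hik)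
  simp at this

/-- the linear map of an element of `M` -/
def mL (x : M) : V →ₗ[K] V where
  toFun v := x • v
  map_add' := smul_add x
  map_smul' := H.lin x

namespace PF
variable {H} {v0 : V} {hv0 : v0 ≠ 0} {r m : ℕ} (F : H.PF hv0 r m)

theorem nd {x : M} (hx : x ∈ H.Dr hv0 r) (h : ∀ k, H.b x (F.μ k) = 1) : x = 1 := by
  have hrep : ∀ x ∈ Subgroup.closure (Set.range F.d), ∃ n : Fin m → ℤ,
      ∀ y, H.b x y = ∏ i, H.b (F.d i) y ^ n i := by
    intro x hx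
    induction hx using Subgroup.closure_induction with
    | mem x hx =>
      obtain ⟨i, rfl⟩ := hx
      exact ⟨Pi.single i 1, fun y => by
        rw [Finset.prod_eq_single i (fun j _ hj => by simp [hj]) (by simp)]
        simp⟩
    | one => exact ⟨0, by simp⟩
    | mul x y _ _ hx hy =>
      obtain ⟨n, hn⟩ := hx
      obtain ⟨n', hn'⟩ := hy
      exact ⟨n + n', fun z => by simp [hn, hn', zpow_add, Finset.prod_mul_distrib]⟩
    | inv x _ hx =>
      obtain ⟨n, hn⟩ := hx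
      exact ⟨-n, fun z => by simp [hn]⟩
  obtain ⟨n, hn⟩ := hrep x (F.gen hx)
  refine H.eq_one_of_Z_fix hv0 (H.nondeg fun y => ?_) hx.1
  rw [hn]
  refine Finset.prod_eq_one fun i _ => ?_
  have h1 := h i
  rw [hn, Finset.prod_eq_single i (fun j _ hj => by rw [F.off j i hj, one_zpow]) (by simp)] at h1
  obtain ⟨k, hk⟩ := root_pow F.prime (F.on i) (H.b_pow_right (F.μr i) _)
    (H.b_pow_left ((F.hd i).2 ▸ one_mem _) y)
  rw [← hk, ← zpow_natCast, ← zpow_mul, mul_comm, zpow_mul, h1, one_zpow]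

/-- coordinates -/
def cx : M →* (Fin m → Kˣ) := MonoidHom.pi fun i => H.b (F.d i)

theorem cx_apply (x : M) (i : Fin m) : F.cx x i = H.b (F.d i) x := rfl

theorem b_of_cx {x : M} (h : F.cx x = 1) {d : M} (hd : d ∈ H.Dr hv0 r) : H.b d x = 1 := by
  have : Subgroup.closure (Set.range F.d) ≤ (H.b.flip x).ker := by
    rw [Subgroup.closure_le]
    rintro _ ⟨i, rfl⟩
    exact congrFun h i
  exact this (F.gen hd)

theorem perp_of_cx [Finite K] {x : M} (hx : x ^ r ∈ H.s.range) (h : F.cx x = 1) :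
    x ∈ H.perp (stabilizer M v0) := by
  intro d hd
  obtain ⟨e, he, -, h1⟩ := H.exists_exp
  have h2 : d ^ e = 1 := H.eq_one_of_Z_fix hv0 (h1 d) (pow_mem hd e)
  by_cases h3 : r ∣ e
  · obtain ⟨e', rfl⟩ := h3
    have h4 := F.b_of_cx h (d := d ^ e') ⟨pow_mem hd e', by rw [← pow_mul, mul_comm, h2]⟩
    rw [map_pow, MonoidHom.pow_apply] at h4
    exact eq_one_of_coprime (Nat.squarefree_mul_iff.1 he).1 (H.b_pow_right hx d) h4
  · exact H.b_coprime ((Nat.Prime.coprime_iff_not_dvd F.prime).2 h3).symm (h1 d) hx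

theorem exists_a (A : Finset (Fin m)) : ∃ a : M, a ^ r ∈ H.s.range ∧ (r ≠ 2 → a ^ r = 1) ∧
    (A = ∅ → a = 1) ∧ ∀ y, H.b y a = ∏ i ∈ A, H.b y (F.μ i) := by
  induction A using Finset.induction_on with
  | empty => exact ⟨1, by simp, by simp, by simp, by simp⟩
  | insert i A hi ih =>
    obtain ⟨a, h1, h2, -, h3⟩ := ih
    exact ⟨F.μ i * a, H.mem_Mr.1 (mul_mem (H.mem_Mr.2 (F.μr i)) (H.mem_Mr.2 h1)),
      fun h => H.mul_pow_odd (F.prime.odd_of_ne_two h) (F.μ1 h i) (h2 h), by simp,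
      fun y => by rw [map_mul, h3, Finset.prod_insert hi]⟩

/-- the element attached to a vertex of the cube -/
noncomputable def a (A : Finset (Fin m)) : M := (F.exists_a A).choose

theorem a_r (A : Finset (Fin m)) : F.a A ^ r ∈ H.s.range := (F.exists_a A).choose_spec.1

theorem a_one (h : r ≠ 2) (A : Finset (Fin m)) : F.a A ^ r = 1 := (F.exists_a A).choose_spec.2.1 h

theorem a_empty : F.a ∅ = 1 := (F.exists_a ∅).choose_spec.2.2.1 rfl

theorem b_a (y : M) (A : Finset (Fin m)) : H.b y (F.a A) = ∏ i ∈ A, H.b y (F.μ i) :=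
  (F.exists_a A).choose_spec.2.2.2 y

/-- the roots of unity -/
def ζ (i : Fin m) : Kˣ := H.b (F.d i) (F.μ i)

theorem ζ_ne (i : Fin m) : F.ζ i ≠ 1 := F.on i

theorem ζ_pow (i : Fin m) : F.ζ i ^ r = 1 := H.b_pow_right (F.μr i) _

/-- coordinates of a vertex -/
noncomputable def pt (A : Finset (Fin m)) : Fin m → Kˣ := F.cx (F.a A)

theorem pt_apply (A : Finset (Fin m)) (i : Fin m) : F.pt A i = if i ∈ A then F.ζ i else 1 := by
  rw [pt, cx_apply, b_a]
  split_ifs with h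
  · exact Finset.prod_eq_single i (fun j _ hj => F.off i j hj.symm) (fun h' => absurd h h')
  · exact Finset.prod_eq_one fun j hj => F.off i j fun e => h (e ▸ hj)

theorem pt_empty : F.pt ∅ = 1 := by rw [pt, a_empty, map_one]

theorem pt_inj : Function.Injective F.pt := by
  intro A B h
  ext i
  have := congrFun h i
  have h1 := F.ζ_ne i
  rw [pt_apply, pt_apply] at this
  split_ifs at this <;> simp_all

include F in
theorem two_pow_le [Finite M] : 2 ^ m ≤ (H.perp (stabilizer M v0)).index := by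
  have := Nat.card_le_card_of_injective
    (fun A => (F.a A : M ⧸ H.perp (stabilizer M v0))) fun A B h => F.pt_inj (funext fun i => by
      have := QuotientGroup.eq.1 h _ (F.hd i).1
      rwa [map_mul, map_inv, inv_mul_eq_one] at this)
  simpa [Subgroup.index] using this

include F in
theorem card_roots : Nat.card (Fin m → rootsOfUnity r K) ≤ r ^ m := by
  haveI : NeZero r := ⟨F.prime.ne_zero⟩
  rw [Nat.card_fun, Nat.card_fin]
  exact Nat.pow_le_pow_left (card_rootsOfUnity K r) m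

include F in
theorem card_Dr : Nat.card (H.Dr hv0 r) ≤ r ^ m := by
  haveI : NeZero r := ⟨F.prime.ne_zero⟩
  refine (Nat.card_le_card_of_injective (fun (x : H.Dr hv0 r) (k : Fin m) =>
    (⟨H.b x (F.μ k), H.b_pow_right (F.μr k) _⟩ : rootsOfUnity r K)) fun x y h => ?_).trans
    F.card_roots
  refine Subtype.ext (inv_mul_eq_one.1 (F.nd (x⁻¹ * y).2 fun k => ?_))
  have : H.b x (F.μ k) = H.b y (F.μ k) := congrArg Subtype.val (congrFun h k)
  simp [this]

include F in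
theorem card_Wr [Finite K] [Finite M] {k : ℕ}
    (hk : (H.s.range ⊔ H.Dr hv0 r).relIndex (H.Mr r ⊓ H.perp (stabilizer M v0)) ≤ k) :
    Nat.card (nsmulAddMonoidHom r : H.W →+ H.W).ker ≤ r ^ m * k * r ^ m := by
  haveI : NeZero r := ⟨F.prime.ne_zero⟩
  have h0 : Nat.card (nsmulAddMonoidHom r : H.W →+ H.W).ker = H.s.range.relIndex (H.Mr r) := by
    have := Subgroup.relIndex_ker (H.Mr r) (QuotientGroup.mk' H.s.range)
    rw [QuotientGroup.ker_mk', Mr, msub,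
      Subgroup.map_comap_eq_self_of_surjective (QuotientGroup.mk'_surjective _)] at this
    exact this.symm
  have h1 : H.s.range ⊔ H.Dr hv0 r ≤ H.Mr r ⊓ H.perp (stabilizer M v0) :=
    sup_le (fun x hx => ⟨H.mem_Mr.2 (pow_mem hx r), H.Z_le_perp _ hx⟩)
      fun x hx => ⟨H.mem_Mr.2 (hx.2 ▸ one_mem _), H.stab_le_perp hv0 hx.1⟩
  have h2 : (H.Mr r ⊓ H.perp (stabilizer M v0)).relIndex (H.Mr r) ≤ r ^ m := by
    refine (relIndex_le_card _ _ (fun (x : H.Mr r) (i : Fin m) =>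
      (⟨F.cx x i, H.b_pow_right (H.mem_Mr.1 x.2) _⟩ : rootsOfUnity r K)) fun x y h => ?_).trans
      F.card_roots
    refine ⟨(x⁻¹ * y).2, F.perp_of_cx (H.mem_Mr.1 (x⁻¹ * y).2) (funext fun i => ?_)⟩
    have : F.cx x i = F.cx y i := congrArg Subtype.val (congrFun h i)
    simp [this]
  rw [h0, ← Subgroup.relIndex_mul_relIndex _ _ _ (le_sup_left.trans h1) inf_le_left,
    ← Subgroup.relIndex_mul_relIndex _ _ _ le_sup_left h1]
  exact Nat.mul_le_mul (Nat.mul_le_mul ((H.card_ZB _).trans F.card_Dr) hk) h2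

include F in
theorem card_W_four [Finite K] [Finite M] (hmax : IsMaxV M v0) :
    Nat.card (nsmulAddMonoidHom r : H.W →+ H.W).ker ≤ r ^ m * 4 * r ^ m := by
  refine F.card_Wr (le_trans ?_ ((Subgroup.relIndex_le_of_le_right
    (inf_le_right : H.Mr r ⊓ H.perp (stabilizer M v0) ≤ _)
    Subgroup.FiniteIndex.index_ne_zero).trans (H.card_EN hmax)))
  rw [← Subgroup.inf_relIndex_right (H.s.range ⊔ stabilizer M v0)]
  exact Subgroup.relIndex_le_of_le_left (fun x hx => H.mem_sup_Dr hv0 hx.1 (H.mem_Mr.1 hx.2.1))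
    Subgroup.FiniteIndex.index_ne_zero

theorem mem_sup_odd [Finite K] [Finite M] (hmax : IsMaxV M v0) (hr : r ≠ 2) {x : M}
    (hx : x ^ r ∈ H.s.range) (h : F.cx x = 1) : x ∈ H.s.range ⊔ H.Dr hv0 r :=
  H.mem_sup_Dr hv0 (H.mem_sup_of_odd hmax (F.perp_of_cx hx h) (F.prime.odd_of_ne_two hr) hx) hx

include F in
theorem card_W_odd [Finite K] [Finite M] (hmax : IsMaxV M v0) (hr : r ≠ 2) :
    Nat.card (nsmulAddMonoidHom r : H.W →+ H.W).ker ≤ r ^ m * 1 * r ^ m :=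
  F.card_Wr (le_of_eq (Subgroup.relIndex_eq_one.2 fun _ hx =>
    F.mem_sup_odd hmax hr (H.mem_Mr.1 hx.1) (funext fun i => hx.2 _ (F.hd i).1)))

/-- common eigenvectors -/
def Cmp (c : Fin m → Kˣ) (u : V) : Prop := ∀ i, F.d i • u = (c i : K) • u

theorem Cmp.smul {c : Fin m → Kˣ} {u : V} (h : F.Cmp c u) (x : M) : F.Cmp (F.cx x * c) (x • u) := by
  intro i
  rw [← mul_smul, H.mul_eq, mul_smul, mul_smul, h i, H.lin, H.s_smul, smul_smul]
  rfl

theorem exists_P [Finite K] (c : Fin m → Kˣ) : ∃ P : V →ₗ[K] V, ∀ c' u, F.Cmp c' u →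
    (c' = c → P u = u) ∧ (c' ≠ c → P u = 0) := by
  classical
  haveI := Fintype.ofFinite (Fin m → Kˣ)
  suffices key : ∀ T : Finset (Fin m → Kˣ), ∃ P : V →ₗ[K] V, ∀ c' u, F.Cmp c' u →
      ∃ a : K, P u = a • u ∧ (c' = c → a = 1) ∧ (c' ∈ T → c' ≠ c → a = 0) by
    obtain ⟨P, hP⟩ := key Finset.univ
    refine ⟨P, fun c' u hu => ?_⟩
    obtain ⟨a, h1, h2, h3⟩ := hP c' u hu
    exact ⟨fun h => by rw [h1, h2 h, one_smul], fun h => by rw [h1, h3 (by simp) h, zero_smul]⟩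
  intro T
  induction T using Finset.induction_on with
  | empty => exact ⟨LinearMap.id, fun c' u _ => ⟨1, by simp, by simp, by simp⟩⟩
  | insert c1 T _ ih =>
    obtain ⟨P, hP⟩ := ih
    by_cases h : c1 = c
    · refine ⟨P, fun c' u hu => ?_⟩
      obtain ⟨a, h1, h2, h3⟩ := hP c' u hu
      exact ⟨a, h1, h2, fun h4 h5 => h3 ((Finset.mem_insert.1 h4).resolve_left (h ▸ h5)) h5⟩
    obtain ⟨i, hi⟩ := Function.ne_iff.1 h
    have hi' : (c i : K) - c1 i ≠ 0 := sub_ne_zero.2 fun e => hi (Units.ext e.symm)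
    refine ⟨(((c i : K) - c1 i)⁻¹ • (H.mL (F.d i) - (c1 i : K) • LinearMap.id)) ∘ₗ P,
      fun c' u hu => ?_⟩
    obtain ⟨a, h1, h2, h3⟩ := hP c' u hu
    refine ⟨a * (((c i : K) - c1 i)⁻¹ * ((c' i : K) - c1 i)), ?_, fun e => ?_, fun e e' => ?_⟩
    · rw [LinearMap.comp_apply, h1, map_smul, mul_smul, mul_smul, sub_smul, ← hu i]
      rfl
    · rw [h2 e, e, inv_mul_cancel₀ hi', one_mul]
    · rcases Finset.mem_insert.1 e with rfl | e
      · simp
      · rw [h3 e e', zero_mul]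

theorem Cmp.scal {x : M} (hx : x ∈ H.s.range ⊔ H.Dr hv0 r) (c : Fin m → Kˣ) :
    ∃ l : Kˣ, ∀ u, F.Cmp c u → x • u = (l : K) • u := by
  obtain ⟨_, ⟨z, rfl⟩, e, he, rfl⟩ := Subgroup.mem_sup_of_normal_left.1 hx
  suffices key : ∃ l : Kˣ, ∀ u, F.Cmp c u → e • u = (l : K) • u by
    obtain ⟨l, hl⟩ := key
    exact ⟨z * l, fun u hu => by rw [mul_smul, hl u hu, H.s_smul, smul_smul, Units.val_mul]⟩
  have he' := F.gen he
  clear he hx
  induction he' using Subgroup.closure_induction with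
  | mem x hx =>
    obtain ⟨i, rfl⟩ := hx
    exact ⟨c i, fun u hu => hu i⟩
  | one => exact ⟨1, by simp⟩
  | mul x y _ _ hx hy =>
    obtain ⟨l, hl⟩ := hx
    obtain ⟨l', hl'⟩ := hy
    exact ⟨l' * l, fun u hu => by rw [mul_smul, hl' u hu, H.lin, hl u hu, smul_smul, Units.val_mul]⟩
  | inv x _ hx =>
    obtain ⟨l, hl⟩ := hx
    exact ⟨l⁻¹, fun u hu => by rw [inv_smul_eq_iff, H.lin, hl u hu, smul_smul]; simp⟩

/-- `v` is supported on the vertices in `S` -/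
def Form (S : Finset (Finset (Fin m))) (v : V) : Prop :=
  ∃ w, (∀ x ∈ H.Dr hv0 r, x • w = w) ∧ v = ∑ A ∈ S, F.a A • w

theorem cmp_a {w : V} (hw : ∀ x ∈ H.Dr hv0 r, x • w = w) (A : Finset (Fin m)) :
    F.Cmp (F.pt A) (F.a A • w) := by
  have h1 : F.Cmp 1 w := fun i => by simp [hw _ (F.hd i)]
  simpa [pt] using h1.smul F (F.a A)

/-- the projections -/
noncomputable def P [Finite K] (c : Fin m → Kˣ) : V →ₗ[K] V := (F.exists_P c).choose

theorem P_spec [Finite K] (c : Fin m → Kˣ) {c' : Fin m → Kˣ} {u : V} (h : F.Cmp c' u) :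
    (c' = c → F.P c u = u) ∧ (c' ≠ c → F.P c u = 0) := (F.exists_P c).choose_spec c' u h

section
variable [Finite K] {S : Finset (Finset (Fin m))} {w : V} (hw : ∀ x ∈ H.Dr hv0 r, x • w = w)
include hw

theorem P_zero {x : M} {c : Fin m → Kˣ} (h : ∀ B ∈ S, F.cx x * F.pt B ≠ c) :
    F.P c (x • ∑ A ∈ S, F.a A • w) = 0 := by
  rw [Finset.smul_sum, map_sum]
  exact Finset.sum_eq_zero fun B hB =>
    (F.P_spec c ((F.cmp_a hw B).smul F x)).2 (h B hB)

theorem P_eq {x : M} {c : Fin m → Kˣ} {A : Finset (Fin m)} (hA : A ∈ S) (h : F.cx x * F.pt A = c) :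
    F.P c (x • ∑ A ∈ S, F.a A • w) = x • F.a A • w := by
  rw [Finset.smul_sum, map_sum, Finset.sum_eq_single A (fun B _ hB =>
    (F.P_spec c ((F.cmp_a hw B).smul F x)).2 fun e =>
      hB (F.pt_inj (mul_left_cancel (e.trans h.symm)))) (fun h' => absurd hA h')]
  exact (F.P_spec c ((F.cmp_a hw A).smul F x)).1 h

theorem P_eq' {A : Finset (Fin m)} (hA : A ∈ S) :
    F.P (F.pt A) (∑ A ∈ S, F.a A • w) = F.a A • w := by
  simpa using F.P_eq hw (x := 1) hA (by simp)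

end

end PF

theorem exists_form [Finite K] {v0 : V} (hv0 : v0 ≠ 0) {m : Nat.Primes → ℕ}
    (F : ∀ r : Nat.Primes, H.PF hv0 r (m r)) (S : ∀ r, Finset (Finset (Fin (m r))))
    (hS : ∀ r, ∅ ∈ S r) (R : Finset Nat.Primes) :
    ∃ v, v ≠ 0 ∧ (∀ r ∈ R, (F r).Form (S r) v) ∧
      ∀ r : Nat.Primes, r ∉ R → ∀ x ∈ H.Dr hv0 r, x • v = v := by
  classical
  induction R using Finset.induction_on with
  | empty => exact ⟨v0, hv0, by simp, fun r _ x hx => hx.1⟩
  | insert r R hr ih =>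
    obtain ⟨v, h0, h1, h2⟩ := ih
    have hc : ∀ r' : Nat.Primes, r' ≠ r → ∀ x : M, x ^ (r' : ℕ) ∈ H.s.range → ∀ u : V,
        x • ∑ A ∈ S r, (F r).a A • u = ∑ A ∈ S r, (F r).a A • x • u := by
      intro r' hr' x hx u
      rw [Finset.smul_sum]
      exact Finset.sum_congr rfl fun A _ => H.smul_comm_of_b (H.b_coprime
        ((Nat.coprime_primes r'.2 r.2).2 fun e => hr' (Subtype.ext e)) hx ((F r).a_r A)) u
    refine ⟨∑ A ∈ S r, (F r).a A • v, fun h => h0 ?_, fun r' hr' => ?_, fun r' hr' x hx => ?_⟩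
    · have := (F r).P_eq' (h2 r hr) (hS r)
      rwa [h, map_zero, PF.a_empty, one_smul, eq_comm] at this
    · rcases Finset.mem_insert.1 hr' with rfl | hr'
      · exact ⟨v, h2 _ hr, rfl⟩
      · obtain ⟨w, hw, rfl⟩ := h1 r' hr'
        have hne : r' ≠ r := fun e => hr (e ▸ hr')
        refine ⟨∑ A ∈ S r, (F r).a A • w, fun x hx => ?_, ?_⟩
        · rw [hc r' hne x (hx.2 ▸ one_mem _), hw x hx]
        · simp only [hc r' hne _ ((F r').a_r _), Finset.smul_sum]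
          exact Finset.sum_comm
    · rw [Finset.mem_insert, not_or] at hr'
      rw [hc r' hr'.1 x (hx.2 ▸ one_mem _), h2 r' hr'.2 x hx]

end Heis

end Cfsg.Agent.SolvLin
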