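import Cfsg.Agent.SolvLin.Du
import Cfsg.Agent.SolvLin.DL4
import Cfsg.Agent.Grp.MinNormal
import Cfsg.Agent.Grp.CommPow
import Cfsg.Agent.Grp.Cores

/-!
# Solvable groups whose `p`-singular vanishing elements have a single order
-/

set_option autoImplicit false
set_option linter.style.haveILetI false
open scoped commutatorElement

namespace Cfsg.Agent.SolvLin

open MulAction Subgroup Cfsg.Agent.Char

universe u

section
variable {G G' : Type*} [Group G] [Group G'] {p : ℕ}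

theorem exists_lift_pel [Finite G] (hp : p.Prime) (f : G →* G') (x : G) {k : ℕ}
    (h : f x ^ p ^ k = 1) : ∃ y, f y = f x ∧ ∃ j, y ^ p ^ j = 1 := by
  obtain ⟨j, m, hm, e⟩ := Nat.exists_eq_pow_mul_and_not_dvd (orderOf_pos x).ne' p hp.ne_one
  obtain ⟨n, hn⟩ := exists_pow_eq_self_of_coprime (x := f x) (n := m)
    ((((Nat.Prime.coprime_iff_not_dvd hp).2 hm).symm.pow_right k).coprime_dvd_right
      (orderOf_dvd_of_pow_eq_one h))
  exact ⟨(x ^ m) ^ n, by simpa using hn, j, by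
    rw [pow_right_comm, ← pow_mul x, mul_comm, ← e, pow_orderOf_eq_one, one_pow]⟩

theorem dvd_orderOf_of_map (hp : p.Prime) (f : G →* G') {x : G} {k : ℕ} (h : f x ^ p ^ k = 1)
    (h1 : f x ≠ 1) : p ∣ orderOf x := by
  obtain ⟨j, -, hj⟩ := (Nat.dvd_prime_pow hp).1 (orderOf_dvd_of_pow_eq_one h)
  refine Dvd.dvd.trans ?_ (orderOf_map_dvd f x)
  rw [hj]
  exact dvd_pow_self p fun e => h1 (orderOf_eq_one_iff.1 (by rw [hj, e, pow_zero]))

theorem pel_of_mul {x z : G} (h : Commute z x) {a b : ℕ} (ha : (z * x) ^ p ^ a = 1)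
    (hb : z ^ p ^ b = 1) : x ^ p ^ (a + b) = 1 := by
  have : (z * x) ^ p ^ (a + b) = 1 := by rw [pow_add, pow_mul, ha, one_pow]
  rwa [h.mul_pow, add_comm a, pow_add, pow_mul z, hb, one_pow, one_mul, ← pow_add, add_comm b] at this

theorem fpf_two {A : Type*} [CommGroup A] (ρ : G →* MulAut A) (hp : p.Prime) {E : Subgroup G}
    (hE : ∀ e ∈ E, e ^ p = 1) (hf : ∀ e ∈ E, e ≠ 1 → ∀ v, ρ e v = v → v = 1) {x y : G} (hx : x ∈ E)
    (hy : y ∈ E) (hxy : Commute x y) (h1 : x ≠ 1) (h2 : y ∉ zpowers x) (v : A) : v ^ p = 1 := by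
  haveI := Fact.mk hp
  have h0 : ∀ e ∈ E, e ≠ 1 → ∀ v, ∏ i ∈ Finset.range p, ρ (e ^ i) v = 1 := by
    intro e he he1 v
    refine hf e he he1 _ ?_
    have := Finset.prod_range_succ' (fun j => ρ (e ^ j) v) p
    rw [Finset.prod_range_succ, hE e he, pow_zero, mul_left_inj] at this
    rw [map_prod, this]
    exact Finset.prod_congr rfl fun j _ => by rw [pow_succ', map_mul, MulAut.mul_apply]
  have h3 : ∏ i ∈ Finset.range p, ∏ j ∈ Finset.range p, ρ ((x ^ i * y) ^ j) v = 1 :=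
    Finset.prod_eq_one fun i _ => h0 _ (mul_mem (pow_mem hx i) hy) (fun e => h2 (by
      rw [eq_inv_of_mul_eq_one_right e]
      exact inv_mem (pow_mem (mem_zpowers x) i))) v
  rw [Finset.prod_comm, Finset.prod_eq_single_of_mem 0 (Finset.mem_range.2 hp.pos)] at h3
  · simpa using h3
  · intro j hj hj0
    rw [← h0 _ (pow_mem hx j) (pow_ne_one_of_lt_orderOf hj0 (by
      rw [orderOf_eq_prime (hE x hx) h1]; exact Finset.mem_range.1 hj)) (ρ (y ^ j) v)]
    exact Finset.prod_congr rfl fun i _ => by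
      rw [(hxy.pow_left i).mul_pow, pow_right_comm, map_mul, MulAut.mul_apply]

/-- the hypothesis on vanishing elements -/
structure VHyp (p : ℕ) (G : Type*) [Group G] : Prop where
  a : ∀ x y : G, Van x → Van y → (∃ k, x ^ p ^ k = 1) → p ∣ orderOf y → ∃ k, y ^ p ^ k = 1
  b : ∀ x : G, Van x → Van (x ^ p) → ¬ p ∣ orderOf (x ^ p)

theorem VHyp.map [Finite G] (hp : p.Prime) (h : VHyp p G) (f : G →* G')
    (hf : Function.Surjective f) : VHyp p G' := by
  refine ⟨fun x y hx hy ⟨k, hk⟩ h1 => ?_, fun x hx hx' h1 => ?_⟩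
  · obtain ⟨x, rfl⟩ := hf x
    obtain ⟨y, rfl⟩ := hf y
    obtain ⟨x', e, h2⟩ := exists_lift_pel hp f x hk
    obtain ⟨j, hj⟩ := h.a x' y (.of_map f hf (e ▸ hx)) (hy.of_map f hf) h2
      (h1.trans (orderOf_map_dvd f y))
    exact ⟨j, by rw [← map_pow, hj, map_one]⟩
  · obtain ⟨x, rfl⟩ := hf x
    rw [← map_pow] at hx' h1
    exact h.b x (hx.of_map f hf) (hx'.of_map f hf) (h1.trans (orderOf_map_dvd f _))

theorem top_layer [Finite G] [Group.IsSolvable G] (hp : p.Prime) {A : Type*} [CommGroup A]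
    (ρ : G →* MulAut A) (hA : ¬ ∀ v : A, v ^ p = 1) (W : G → Prop) (h1 : ∀ x, Van x → W x)
    (h2 : ∀ B : Subgroup G, B.Normal → (∀ x ∈ B, ∀ y ∈ B, x * y = y * x) → ∀ x ∈ B, x ≠ 1 → W x)
    (h3 : ∀ x, W x → p ∣ orderOf x → ∃ k, x ^ p ^ k = 1)
    (h4 : ∀ x, W x → W (x ^ p) → ¬ p ∣ orderOf (x ^ p))
    (h5 : ∀ x, W x → x ^ p = 1 → x ≠ 1 → ∀ v, ρ x v = v → v = 1) {Z : Subgroup G} (hZ : Z.Normal)
    (hZc : ∀ x ∈ Z, ∀ y ∈ Z, x * y = y * x) {z : G} (hz : z ∈ Z) (hz1 : z ≠ 1) {k : ℕ}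
    (hk : z ^ p ^ k = 1) : ¬ p ^ 2 ∣ Nat.card G := by
  haveI := Fact.mk hp
  obtain ⟨B, hZB, ⟨hB, hBc⟩, hmax⟩ := Finite.exists_le_maximal
    (p := fun B : Subgroup G => B.Normal ∧ ∀ x ∈ B, ∀ y ∈ B, x * y = y * x) ⟨hZ, hZc⟩
  have hzB := hZB hz
  have hBp : IsPGroup p B := by
    refine IsPGroup.of_card (Nat.eq_prime_pow_of_unique_prime_dvd Nat.card_pos.ne'
      fun {r} hr hd => by_contra fun hne => ?_)
    haveI := Fact.mk hr
    obtain ⟨⟨x, hx⟩, hxr⟩ := exists_prime_orderOf_dvd_card' r hd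
    rw [orderOf_mk] at hxr
    have hc := ((Nat.coprime_primes hr hp).2 hne).pow_right
    have e1 : (z * x) ^ r = z ^ r := by
      rw [Commute.mul_pow (hBc z hzB x hx), ← hxr, pow_orderOf_eq_one, mul_one]
    have e2 : z ^ r ≠ 1 := fun e => hz1 (eq_one_of_coprime (hc k) e hk)
    obtain ⟨j, hj⟩ := h3 _ (h2 B hB hBc _ (mul_mem hzB hx) fun e => e2 (by rw [← e1, e, one_pow]))
      ((dvd_orderOf_of_map hp (MonoidHom.id G) (x := (z * x) ^ r) (k := k) (by
        rw [e1, MonoidHom.id_apply, pow_right_comm, hk, one_pow]) (e1 ▸ e2)).trans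
          (orderOf_pow_dvd r))
    exact hr.ne_one (hxr.symm.trans (orderOf_eq_one_iff.2 (eq_one_of_coprime (hc _)
      (hxr ▸ pow_orderOf_eq_one x) (pel_of_mul (hBc z hzB x hx) hj hk))))
  have key : ∀ R : Subgroup G, z ∈ R → (∀ e ∈ R, Commute z e) → (∀ e ∈ R, e ^ p ∈ B) →
      (∀ e ∈ R, e ≠ 1 → W e) → z ^ p = 1 ∧ R ≤ zpowers z := by
    intro R hz hc hR hW
    have hE : ∀ e ∈ R, e ^ p = 1 := fun e he => by_contra fun h => by
      obtain ⟨j, hj⟩ := hBp ⟨_, hR e he⟩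
      exact h4 e (hW e he fun e' => h (by simp [e'])) (hW _ (pow_mem he p) h)
        (dvd_orderOf_of_map hp (MonoidHom.id G) (congrArg Subtype.val hj) h)
    exact ⟨hE z hz, fun e he => by_contra fun h => hA (fpf_two ρ hp hE
      (fun e he h => h5 e (hW e he h) (hE e he) h) hz he (hc e he) hz1 h)⟩
  obtain ⟨hzp, hBz⟩ := key B hzB (hBc z hzB) (fun e he => pow_mem he p) (h2 B hB hBc)
  have hcB : Nat.card B = p := by
    rw [le_antisymm hBz (zpowers_le.2 hzB), Nat.card_zpowers, orderOf_eq_prime hzp hz1]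
  have hgen : ∀ c ∈ B, c ≠ 1 → ∀ b ∈ B, ∃ n : ℕ, c ^ n = b := fun c hc h b hb => by
    obtain ⟨n, hn⟩ := mem_powers_of_prime_card hcB (g := ⟨c, hc⟩) (g' := ⟨b, hb⟩)
      fun e => h (congrArg Subtype.val e)
    exact ⟨n, congrArg Subtype.val hn⟩
  have hD : centralizer (B : Set G) ≤ B := by
    by_contra h
    obtain ⟨r, M, hr, hM, hM0, hMD, hMc, hMr, -⟩ := Grp.exists_minNormal_elementaryAbelian_le
      ((centralizer (B : Set G)).map (QuotientGroup.mk' B))
      (by rwa [Ne, Subgroup.map_eq_bot_iff, QuotientGroup.ker_mk'])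
    let R := M.comap (QuotientGroup.mk' B)
    have hBR : B ≤ R := fun x hx => by
      change (x : G ⧸ B) ∈ M
      rw [(QuotientGroup.eq_one_iff x).2 hx]
      exact one_mem _
    have hRD : R ≤ centralizer (B : Set G) := by
      refine (comap_mono hMD).trans ?_
      rw [comap_map_eq, QuotientGroup.ker_mk']
      exact sup_le le_rfl fun x hx y hy => hBc y hy x hx
    have hcm : ∀ x ∈ R, ∀ y ∈ R, ⁅x, y⁆ ∈ B := fun x hx y hy => by
      rw [← QuotientGroup.eq_one_iff, ← QuotientGroup.mk'_apply, map_commutatorElement]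
      exact commutatorElement_eq_one_iff_mul_comm.2 (setLike_mul_comm (s := M) hx hy)
    have hnc : ∀ e ∈ R, e ∉ B → ∃ y ∈ R, ⁅e, y⁆ ≠ 1 := fun e he heB => by
      by_contra! h
      exact heB (hmax (y := R ⊓ centralizer R) ⟨inferInstance, fun x hx y hy => hy.2 x hx.1⟩
        (fun x hx => ⟨hBR hx, fun y hy => (hRD hy x hx).symm⟩) ⟨he, fun y hy =>
          (commutatorElement_eq_one_iff_mul_comm.1 (h y hy)).symm⟩)
    obtain ⟨x, hx, hxB⟩ : ∃ x ∈ R, x ∉ B := by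
      by_contra! h
      refine hM0 (eq_bot_iff.2 fun x hx => ?_)
      obtain ⟨x, rfl⟩ := QuotientGroup.mk_surjective x
      exact (QuotientGroup.eq_one_iff x).2 (h x hx)
    have hr' : ∀ e ∈ R, e ^ r ∈ B := fun e he => (QuotientGroup.eq_one_iff _).1 (hMr _ he)
    obtain rfl : r = p := by
      obtain ⟨y, hy, h⟩ := hnc x hx hxB
      obtain ⟨j, hj⟩ := hBp ⟨_, hcm x hx y hy⟩
      by_contra hne
      refine h (eq_one_of_coprime (((Nat.coprime_primes hr hp).2 hne).pow_right j) ?_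
        (congrArg Subtype.val hj))
      rw [← Grp.CommPow.commutator_pow_left (hRD hx _ (hcm x hx y hy))]
      exact commutatorElement_eq_one_iff_mul_comm.2 (hRD hy _ (hr' x hx))
    refine hxB (zpowers_le.2 hzB ((key R (hBR hzB) (fun e he => hRD he z hzB) hr'
      fun e he h => ?_).2 hx))
    by_cases heB : e ∈ B
    · exact h2 B hB hBc e heB h
    obtain ⟨y, hy, h⟩ := hnc e he heB
    refine h1 e (van_of_conj B (fun e => hz1 (mem_bot.1 (e ▸ hzB))) fun b hb => ?_)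
    obtain ⟨n, hn⟩ := hgen _ (hcm e he y hy) h _ (inv_mem hb)
    rw [← Grp.CommPow.commutator_pow_right (hRD hy _ (hcm e he y hy)), commutatorElement_def] at hn
    refine isConj_iff.2 ⟨y ^ n, ?_⟩
    rw [← hRD he b hb, ← inv_inv b, ← hn]
    group
  have h6 : B.relIndex ⊤ ≤ Nat.card {b : B // b ≠ 1} :=
    relIndex_le_card ⊤ B (fun x => ⟨⟨x * z * (x : G)⁻¹, hB.conj_mem z hzB x⟩, fun e => hz1 (by
      simpa using congrArg Subtype.val e)⟩) fun x y h => hD fun b hb => by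
      have e : (x : G) * z * (x : G)⁻¹ = y * z * (y : G)⁻¹ :=
        congrArg Subtype.val (congrArg Subtype.val h)
      refine (zpowers_le (H := centralizer {(x : G)⁻¹ * y}).2 (mem_centralizer_singleton_iff.2 ?_)
        (hBz hb) _ rfl).symm
      calc _ = (x : G)⁻¹ * (x * z * (x : G)⁻¹) * y := by group
        _ = _ := by rw [e]; group
  have h7 : Nat.card {b : B // b ≠ 1} < p := hcB ▸ Finite.card_subtype_lt (x := 1) (by simp)
  rw [relIndex_top_right] at h6
  rw [← B.card_mul_index, hcB, sq, Nat.mul_dvd_mul_iff_left hp.pos]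
  exact Nat.not_dvd_of_pos_of_lt (Nat.pos_of_ne_zero FiniteIndex.index_ne_zero) (h6.trans_lt h7)

end

theorem not_sq_dvd {p : ℕ} (hp : p.Prime) (n : ℕ) : ∀ (G : Type u) [Group G] [Finite G]
    [Group.IsSolvable G], Nat.card G = n → VHyp p G → ¬ p ^ 2 ∣ (pCore p G).index := by
  induction n using Nat.strong_induction_on with | _ n ih => ?_
  intro G _ _ _ hn h
  haveI := Fact.mk hp
  by_cases hO : pCore p G = ⊥
  swap
  · have := ih _ (hn ▸ Grp.card_quotient_lt _ hO) _ rfl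
      (h.map hp _ (QuotientGroup.mk'_surjective (pCore p G)))
    rwa [Grp.pCore_quotient_pCore, index_bot] at this
  rw [hO, index_bot]
  rcases subsingleton_or_nontrivial G with hG | hG
  · rw [Nat.card_unique, Nat.dvd_one]
    exact (Nat.one_lt_pow two_ne_zero hp.one_lt).ne'
  obtain ⟨q, V, hq, hV, hV0, hVc, hVq, hVq', hmin⟩ := Grp.exists_minNormal_elementaryAbelian G
  haveI := Fact.mk hq
  have hqp : q ≠ p := by
    rintro rfl
    exact hV0 (le_bot_iff.1 (hO ▸ Grp.le_pCore hV hVq'))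
  have hc := ((Nat.coprime_primes hq hp).2 hqp).pow_right
  let π := QuotientGroup.mk' V
  have hπ := QuotientGroup.mk'_surjective V
  have hπ1 : ∀ {x}, π x = 1 ↔ x ∈ V := QuotientGroup.eq_one_iff _
  suffices key : ¬ p ^ 2 ∣ Nat.card (G ⧸ V) by
    obtain ⟨j, hj⟩ := hVq'.exists_card_eq
    rw [← V.card_mul_index, hj]
    exact fun e => key (((hc 2).pow_left j).symm.dvd_of_dvd_mul_left e)
  by_cases hS : pCore p (G ⧸ V) = ⊥
  · simpa [hS] using ih _ (hn ▸ Grp.card_quotient_lt _ hV0) _ rfl (h.map hp π hπ)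
  let S := pCore p (G ⧸ V)
  let C := centralizer (V : Set G)
  have hVC : V ≤ C := fun x hx y hy => setLike_mul_comm hy hx
  have hTC : S.comap π ⊓ C ≤ V := by
    haveI := (Grp.pCore_isPGroup p (G ⧸ V)).isNilpotent
    haveI : Group.IsNilpotent (S.comap π ⊓ C :) := Subgroup.isNilpotent_of_ker_le_center
      ((π.comp (S.comap π ⊓ C).subtype).codRestrict S fun x => x.2.1)
      (fun x hx => mem_center_iff.2 fun y => Subtype.ext (y.2.2 _
        (hπ1.1 (congrArg Subtype.val hx))).symm)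
    obtain ⟨P⟩ : Nonempty (Sylow p (S.comap π ⊓ C :)) := inferInstance
    have h1 := Grp.map_pCore_le_of_normal p (S.comap π ⊓ C)
    rw [hO, le_bot_iff, map_eq_bot_iff_of_injective _ (subtype_injective _),
      Grp.pCore_eq_sylow_of_normal P inferInstance] at h1
    intro y hy
    obtain ⟨k, hk⟩ := Grp.pCore_isPGroup p _ ⟨_, hy.1⟩
    have h2 := P.not_dvd_index
    rw [h1, index_bot] at h2
    refine mem_of_coprime (((Nat.Prime.coprime_iff_not_dvd hp).2 h2).pow_left k)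
      (hπ1.1 (by rw [map_pow]; exact congrArg Subtype.val hk)) ?_
    rw [show y ^ _ = 1 from congrArg Subtype.val (pow_card_eq_one' (x := (⟨y, hy⟩ : (S.comap π ⊓ C :))))]
    exact one_mem _
  let Z := S ⊓ centralizer (S : Set (G ⧸ V))
  have hZc : ∀ x ∈ Z, ∀ y ∈ Z, x * y = y * x := fun x hx y hy => hy.2 x hx.1
  obtain ⟨z, hz, hz1, k, hk⟩ : ∃ z, π z ∈ Z ∧ π z ≠ 1 ∧ ∃ k, z ^ p ^ k = 1 := by
    haveI := (nontrivial_iff_ne_bot S).2 hS
    haveI := (Grp.pCore_isPGroup p (G ⧸ V)).center_nontrivial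
    obtain ⟨⟨⟨x, hx⟩, hx'⟩, hx1⟩ := exists_ne (1 : center S)
    obtain ⟨x, rfl⟩ := hπ x
    obtain ⟨k, hk⟩ := Grp.pCore_isPGroup p _ ⟨_, hx⟩
    obtain ⟨y, e, hy⟩ := exists_lift_pel hp π x (congrArg Subtype.val hk)
    exact ⟨y, e ▸ ⟨hx, fun y hy => congrArg Subtype.val (mem_center_iff.1 hx' ⟨y, hy⟩)⟩,
      e ▸ fun e' => hx1 (Subtype.ext (Subtype.ext e')), hy⟩
  have hzC : z ∉ C := fun e => hz1 (hπ1.2 (hTC ⟨hz.1, e⟩))
  have hvan : ∀ B : Subgroup (G ⧸ V), B.Normal → (∀ x ∈ B, ∀ y ∈ B, x * y = y * x) →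
      ∀ x, π x ∈ B → x ∉ C → ∀ c ∈ C, Van (x * c) := by
    intro B _ hB x hx hxC c hc
    refine van_of_comm hV0 hmin (B.comap π ⊔ C) (fun a ha b hb => ?_) (mul_mem_sup hx hc)
      fun e => hxC ((mul_mem_cancel_right hc).1 e)
    obtain ⟨a, h1, a', ha', rfl⟩ := mem_sup_of_normal_right.1 ha
    obtain ⟨b, h2, b', hb', rfl⟩ := mem_sup_of_normal_right.1 hb
    have : ⁅a, b⁆ ∈ C := hVC (hπ1.1 (by
      rw [map_commutatorElement]; exact commutatorElement_eq_one_iff_mul_comm.2 (hB _ h1 _ h2)))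
    change _ ∈ C
    rw [← QuotientGroup.eq_one_iff, ← QuotientGroup.mk'_apply] at this ha' hb' ⊢
    simpa only [map_commutatorElement, map_mul, ha', hb', mul_one] using this
  have hzv : Van z := by simpa using hvan Z inferInstance hZc z hz hzC 1 (one_mem _)
  have hCV : C ≤ V := by
    refine fun c hc => hTC ⟨Grp.le_pCore (N := C.map π) (.map inferInstance π hπ) ?_ ⟨c, hc, rfl⟩, hc⟩
    rintro ⟨_, c, hc, rfl⟩
    have e : QuotientGroup.mk' C (z * c) = QuotientGroup.mk' C z := by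
      rw [map_mul, QuotientGroup.mk'_apply C c, (QuotientGroup.eq_one_iff c).2 hc, mul_one]
    obtain ⟨j, hj⟩ := h.a z _ hzv (hvan Z inferInstance hZc z hz hzC c hc) ⟨k, hk⟩
      (dvd_orderOf_of_map hp (QuotientGroup.mk' C) (k := k) (by rw [e, ← map_pow, hk, map_one])
        (by rw [e]; exact mt (QuotientGroup.eq_one_iff z).1 hzC))
    refine ⟨j + k, Subtype.ext (pel_of_mul (z := π z) ?_ (by rw [← map_mul, ← map_pow, hj, map_one])
      (by rw [← map_pow, hk, map_one]))⟩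
    rw [← commutatorElement_eq_one_iff_commute, ← map_commutatorElement]
    exact hπ1.2 (hTC (commutator_le_inf _ _ (commutator_mem_commutator hz.1 hc)))
  letI : CommGroup V := { (inferInstance : Group V) with mul_comm := mul_comm' }
  refine top_layer hp (QuotientGroup.lift V MulAut.conjNormal fun x hx =>
    MulEquiv.ext (conj_triv.2 (hVC hx))) (fun e => hV0 (eq_bot_iff.2 fun x hx =>
      eq_one_of_coprime (hc 1) (hVq x hx) (by simpa using congrArg Subtype.val (e ⟨x, hx⟩))))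
    (fun x => ∀ y, π y = x → Van y) (fun x hx y e => .of_map π hπ (e ▸ hx))
    (fun B _ hB x hx h1 y e => by
      simpa using hvan B ‹_› hB y (e ▸ hx) (fun e' => h1 (e ▸ hπ1.2 (hCV e'))) 1 (one_mem _))
    (fun x hx h1 => ?_) (fun x hx hx' h1 => ?_) (fun x hx h1 h2 v hv => ?_) inferInstance hZc hz hz1
    (k := k) (by rw [← map_pow, hk, map_one])
  · obtain ⟨x, rfl⟩ := hπ x
    obtain ⟨j, hj⟩ := h.a z x hzv (hx x rfl) ⟨k, hk⟩ (h1.trans (orderOf_map_dvd π x))
    exact ⟨j, by rw [← map_pow, hj, map_one]⟩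
  · obtain ⟨x, rfl⟩ := hπ x
    rw [← map_pow] at hx' h1
    exact h.b x (hx x rfl) (hx' _ rfl) (h1.trans (orderOf_map_dvd π _))
  · obtain ⟨x, rfl⟩ := hπ x
    have e : π (x * v) = π x := by rw [map_mul, hπ1.2 v.2, mul_one]
    have h3 := fun y (hy : π y = π x) => h.a z y hzv (hx y hy) ⟨k, hk⟩
      (dvd_orderOf_of_map hp π (k := 1) (by rw [hy, pow_one, h1]) (hy ▸ h2))
    obtain ⟨a, ha⟩ := h3 _ e
    obtain ⟨b, hb⟩ := h3 _ rfl
    exact Subtype.ext (eq_one_of_coprime (hc _) (hVq v v.2)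
      (pel_of_mul (mul_inv_eq_iff_eq_mul.1 (congrArg Subtype.val hv)) ha hb))

theorem relIndex_dvd_prime {G : Type*} [Group G] [Finite G] [Group.IsSolvable G] {p : ℕ}
    [hp : Fact p.Prime] {b : ℕ} (h : ∀ x : G, Van x → p ∣ orderOf x → orderOf x = b)
    (P : Sylow p G) : (pCore p G).relIndex P ∣ p := by
  have h1 := not_sq_dvd hp.out _ G rfl ⟨fun x y hx hy ⟨k, hk⟩ h1 => ⟨k, by
    rw [← orderOf_dvd_iff_pow_eq_one, h y hy h1, ← h x hx (dvd_orderOf_of_map hp.out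
      (MonoidHom.id G) hk fun e => by
        obtain ⟨χ, h1, h2⟩ := hx
        exact h1.one_ne_zero ((show x = 1 from e) ▸ h2)), orderOf_dvd_iff_pow_eq_one, hk]⟩,
    fun x hx hx' h1 => by
      have h2 := h1.trans (orderOf_pow_dvd p)
      have h3 := (h _ hx' h1).trans (h x hx h2).symm
      rw [orderOf_pow_of_dvd hp.out.ne_zero h2] at h3
      exact (Nat.div_lt_self (orderOf_pos x) hp.out.one_lt).ne h3⟩
  obtain ⟨k, hk⟩ := P.isPGroup'.exists_card_eq
  obtain ⟨j, -, hj⟩ := (Nat.dvd_prime_pow hp.out).1 (hk ▸ relIndex_dvd_card (pCore p G) P)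
  have h2 := relIndex_dvd_index_of_le (Grp.pCore_le_sylow P)
  rw [hj] at h2 ⊢
  by_contra h3
  refine h1 ((pow_dvd_pow p ?_).trans h2)
  by_contra h4
  exact h3 ((pow_dvd_pow p (by omega : j ≤ 1)).trans (by simp))

end Cfsg.Agent.SolvLin
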