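import Cfsg.Agent.SolvLin.Form

/-!
# The three model certificates
-/

set_option autoImplicit false
set_option linter.style.haveILetI false
set_option synthInstance.maxSize 100000
set_option synthInstance.maxHeartbeats 400000
set_option maxRecDepth 10000

namespace Cfsg.Agent.SolvLin

/-- all that `Model.base2` needs. -/
def Cert (K : Type*) [Field K] {U J : Type*} [AddCommGroup U] [Module K U] (P : J → U → U)
    (one : J) : Prop :=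
  ∃ (y : U) (t : Fin 4 → U), (∀ k, k ≠ 0 → t k ≠ 0) ∧
    (∀ k l, k ≠ 0 → l ≠ 0 → ∀ (c : K) j, c • P j (t k) = t l → k = l ∧ c = 1 ∧ j = one) ∧
    Model.Rigid K P (t 1) y

theorem Model.base2_of_cert {K V Γ M : Type*} [Field K] [AddCommGroup V] [Module K V] [Group Γ]
    [DistribMulAction Γ V] [Group M] [DistribMulAction M V] {H : Heis K V Γ M} {U J : Type*}
    [AddCommGroup U] [Module K U] {P : J → U → U} {one : J} (A : Model H U P one)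
    [Finite K] [Finite M] (hlin : ∀ (g : Γ) (c : K) (w : V), g • (c • w) = c • g • w)
    (h : Cert K P one) : HasBase Γ V 2 := by
  obtain ⟨y, t, h1, h2, h3⟩ := h
  exact A.base2 hlin y t h1 (fun k l hk hl c j h =>
    (h2 k l hk hl c j h).imp id (And.imp_left Units.ext)) h3

/-- the identity operator -/
abbrev idP (R : Type*) : Unit → R → R := fun _ u => u

instance fact5 : Fact (Nat.Prime 5) := ⟨by norm_num⟩

theorem cert_five : Cert (ZMod 5) (extP (extP (idP (ZMod 5)))) (false, false, false, false, ()) := by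
  refine ⟨((0, 1), (2, 2)), ![0, ((1, 1), (1, 0)), ((1, 0), (2, 3)), ((1, 3), (4, 0))],
    by decide +kernel, by decide +kernel, ?_⟩
  exact rigid_of_rel (false, false, false, true, ()) (false, true, false, false, ())
    [[4, 3, 0, 3, 1, 0, 0, 0], [4, 1, 1, 0, 0, 1, 0, 0], [0, 3, 4, 3, 0, 0, 1, 0],
      [1, 0, 4, 1, 0, 0, 0, 1]] (by decide +kernel)
    (spanL_one.ext.ext.of_comb [[3, 1, 3, 1, 0, 0, 0, 0], [3, 0, 2, 0, 0, 0, 0, 0],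
      [0, 4, 0, 4, 0, 0, 0, 0], [1, 4, 4, 1, 0, 0, 0, 0]] (by decide +kernel)) (by decide +kernel)

theorem unit_three (c : (ZMod 3)ˣ) : (c : ZMod 3) * c = 1 := by
  have : ∀ x : ZMod 3, x ≠ 0 → x * x = 1 := by decide
  exact this _ c.ne_zero

theorem cert_plus : Cert (ZMod 3) (extP (extP (extP (extP (idP (ZMod 3))))))
    (false, false, false, false, false, false, false, false, ()) := by
  have h2 : (2 : ZMod 3) ≠ 0 := by decide
  refine ⟨((((2, 0), (1, 1)), ((2, 2), (0, 1))), (((1, 0), (1, 0)), ((0, 0), (2, 2)))),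
    ![0, ((((1, 2), (0, 0)), ((2, 2), (0, 0))), (((0, 1), (0, 0)), ((0, 1), (2, 1)))),
      ((((2, 1), (2, 1)), ((2, 2), (2, 2))), (((0, 1), (0, 2)), ((0, 0), (0, 1)))),
      ((((2, 2), (0, 0)), ((2, 0), (1, 1))), (((0, 1), (1, 0)), ((0, 1), (0, 1))))],
    by decide +kernel, by decide +kernel, ?_⟩
  exact rigid_of_form ((((formOK_plus.ext h2).ext h2).ext h2).ext h2) unit_three (by decide +kernel)
    (false, false, false, true, false, false, true, false, ())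
    (false, true, false, true, true, false, true, false, ())
    (false, true, true, false, false, false, false, false, ())
    (span_of_tr16 (spanL_one.ext.ext.ext.ext.of_comb
      [[0, 1, 2, 0, 2, 2, 1, 1, 2, 2, 1, 0, 0, 1, 1, 0], [2, 2, 1, 0, 0, 1, 1, 0, 0, 1, 2, 0, 2, 2, 1, 1],
      [0, 1, 1, 0, 2, 2, 1, 0, 2, 2, 1, 1, 0, 1, 2, 0], [2, 2, 1, 1, 0, 1, 2, 0, 0, 1, 1, 0, 2, 2, 1, 0],
      [2, 0, 0, 1, 2, 2, 1, 1, 2, 0, 1, 1, 1, 0, 0, 1], [1, 0, 2, 2, 2, 0, 0, 2, 1, 0, 0, 2, 1, 1, 2, 2],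
      [1, 0, 0, 1, 2, 0, 1, 1, 2, 2, 1, 1, 2, 0, 0, 1], [1, 1, 2, 2, 1, 0, 0, 2, 2, 0, 0, 2, 1, 0, 2, 2],
      [1, 1, 0, 1, 0, 1, 1, 0, 2, 0, 2, 2, 2, 0, 1, 0], [2, 0, 2, 2, 2, 0, 1, 0, 1, 1, 0, 1, 0, 1, 1, 0],
      [1, 0, 2, 0, 1, 0, 1, 1, 0, 2, 2, 0, 2, 2, 0, 2], [0, 2, 2, 0, 2, 2, 0, 2, 1, 0, 2, 0, 1, 0, 1, 1],
      [0, 2, 2, 2, 1, 0, 0, 1, 2, 2, 2, 0, 2, 0, 1, 0], [1, 1, 1, 0, 1, 0, 2, 0, 0, 1, 1, 1, 2, 0, 0, 2],
      [1, 0, 2, 0, 1, 1, 1, 0, 2, 0, 0, 2, 0, 1, 1, 1], [1, 0, 0, 1, 0, 2, 2, 2, 2, 0, 1, 0, 2, 2, 2, 0]]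
      (by decide +kernel))) (by decide +kernel)

theorem cert_minus : Cert (ZMod 3) (extP (extP (extP (Heis.minusP (R := ZMod 3)))))
    (false, false, false, false, false, false, false, false) := by
  have h2 : (2 : ZMod 3) ≠ 0 := by decide
  refine ⟨((((1, 2), (1, 2)), ((1, 0), (0, 1))), (((2, 1), (1, 0)), ((0, 0), (0, 0)))),
    ![0, ((((2, 2), (2, 0)), ((0, 1), (0, 1))), (((1, 2), (1, 1)), ((1, 0), (0, 0)))),
      ((((2, 1), (2, 1)), ((2, 2), (2, 2))), (((0, 1), (0, 2)), ((0, 0), (0, 1)))),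
      ((((1, 0), (1, 2)), ((0, 2), (0, 0))), (((2, 0), (1, 1)), ((0, 1), (0, 0))))],
    by decide +kernel, by decide +kernel, ?_⟩
  exact rigid_of_form (((formOK_minus.ext h2).ext h2).ext h2) unit_three (by decide +kernel)
    (false, false, true, false, true, false, true, true)
    (false, false, true, false, true, true, false, false)
    (false, true, false, true, false, true, false, true)
    (span_of_tr16 (spanL_one.ext.ext.ext.ext.of_comb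
      [[1, 1, 2, 1, 2, 2, 1, 1, 1, 1, 0, 0, 1, 0, 0, 1], [0, 1, 2, 0, 0, 0, 1, 1, 2, 2, 2, 2, 2, 1, 2, 2],
      [2, 1, 0, 2, 1, 2, 0, 2, 2, 2, 1, 0, 2, 0, 1, 1], [1, 1, 1, 0, 2, 0, 2, 2, 0, 1, 1, 2, 0, 2, 1, 2],
      [1, 2, 0, 2, 1, 2, 0, 1, 1, 0, 2, 2, 2, 2, 1, 0], [2, 0, 2, 2, 2, 2, 2, 0, 0, 1, 2, 1, 0, 1, 1, 2],
      [1, 1, 2, 2, 1, 1, 2, 1, 1, 0, 0, 1, 2, 2, 0, 0], [0, 0, 2, 2, 0, 1, 2, 0, 2, 1, 2, 2, 1, 1, 1, 1],
      [2, 0, 2, 0, 0, 2, 2, 1, 2, 0, 2, 2, 2, 0, 0, 0], [0, 0, 2, 0, 2, 2, 1, 0, 2, 1, 0, 1, 1, 0, 2, 0],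
      [2, 2, 2, 2, 2, 2, 1, 0, 2, 1, 0, 1, 0, 0, 1, 1], [2, 2, 0, 0, 0, 1, 1, 2, 1, 0, 1, 1, 1, 1, 2, 2],
      [2, 2, 1, 0, 1, 1, 1, 1, 0, 0, 2, 2, 2, 1, 0, 1], [0, 1, 1, 2, 1, 1, 0, 0, 2, 2, 1, 1, 1, 0, 1, 1],
      [0, 1, 1, 2, 2, 0, 2, 0, 2, 0, 0, 0, 1, 0, 1, 1], [1, 1, 2, 0, 0, 0, 2, 0, 1, 0, 2, 0, 1, 2, 0, 2]]
      (by decide +kernel))) (by decide +kernel)

end Cfsg.Agent.SolvLin
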