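import Cfsg.Agent.SolvLin.Defs

/-!
# Distinguishing colourings of primitive solvable permutation groups
-/

set_option autoImplicit false
set_option linter.style.haveILetI false

namespace Cfsg.Agent.SolvLin

section Perm
variable {Ω : Type*}

theorem three_colour (P : Subgroup (Equiv.Perm Ω)) {k : ℕ} (hk : ¬ 3 ∣ k)
    (hP : ∀ σ ∈ P, σ ^ k = 1) (a b c : Ω)
    (hbase : ∀ σ ∈ P, σ a = a → σ b = b → σ c = c → σ = 1) :
    ∃ col : Ω → Fin 3, ∀ σ ∈ P, (∀ x, col (σ x) = col x) → σ = 1 := by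
  classical
  let C : Ω → Ω → Ω → Ω → Fin 3 := fun a b c x => if x = a then 0 else if x = b ∨ x = c then 1 else 2
  have key : ∀ (a b c : Ω) (σ : Equiv.Perm Ω), (∀ x, C a b c (σ x) = C a b c x) →
      σ a = a ∧ ((σ b = b ∧ σ c = c) ∨ (σ b = c ∧ σ c = b)) := by
    intro a b c σ h
    have ha : σ a = a := by
      have := h a
      simp only [C, if_true] at this
      split_ifs at this with h1 h2 <;> simp_all
    have h1 : ∀ x, x = b ∨ x = c → x = a ∨ σ x = b ∨ σ x = c := by
      intro x hx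
      by_cases hxa : x = a
      · exact Or.inl hxa
      have := h x
      simp only [C, if_neg hxa, if_pos hx] at this
      split_ifs at this with h1 h2 <;> simp_all
    refine ⟨ha, ?_⟩
    have hb := h1 b (Or.inl rfl)
    have hc := h1 c (Or.inr rfl)
    have hinj := fun x y => σ.injective.eq_iff (a := x) (b := y)
    rcases hb with rfl | hb | hb <;> rcases hc with rfl | hc | hc
    · exact Or.inl ⟨ha, ha⟩
    · exact Or.inl ⟨ha, by rw [hc, (hinj _ _).1 (hc.trans ha.symm)]⟩
    · exact Or.inl ⟨ha, hc⟩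
    · exact Or.inl ⟨hb, ha⟩
    · exact Or.inl ⟨hb, by rw [hc, (hinj _ _).1 (hc.trans hb.symm)]⟩
    · exact Or.inl ⟨hb, hc⟩
    · exact Or.inl ⟨by rw [hb, (hinj _ _).1 (hb.trans ha.symm)], ha⟩
    · exact Or.inr ⟨hb, hc⟩
    · exact Or.inl ⟨by rw [hb, (hinj _ _).1 (hb.trans hc.symm)], hc⟩
  by_contra hcon
  push Not at hcon
  obtain ⟨σ, hσ, h1, hσ1⟩ := hcon (C a b c)
  obtain ⟨τ, hτ, h2, hτ1⟩ := hcon (C b a c)
  obtain ⟨a1, ⟨a2, a3⟩ | ⟨a2, a3⟩⟩ := key _ _ _ _ h1
  · exact hσ1 (hbase σ hσ a1 a2 a3)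
  obtain ⟨b1, ⟨b2, b3⟩ | ⟨b2, b3⟩⟩ := key _ _ _ _ h2
  · exact hτ1 (hbase τ hτ b2 b1 b3)
  have c1 : (σ * τ) a = b := by simp [b2, a3]
  have c2 : (σ * τ) b = c := by simp [b1, a2]
  have c3 : (σ * τ) c = a := by simp [b3, a1]
  have h3 : (σ * τ) ^ 3 = 1 := by
    apply hbase _ (pow_mem (mul_mem hσ hτ) 3) <;>
      simp only [pow_succ, pow_zero, one_mul, Equiv.Perm.mul_apply (σ * τ * (σ * τ)),
        Equiv.Perm.mul_apply (σ * τ) (σ * τ), c1, c2, c3]
  have h4 := pow_gcd_eq_one.2 ⟨h3, hP _ (mul_mem hσ hτ)⟩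
  rw [(Nat.Prime.coprime_iff_not_dvd Nat.prime_three).2 hk, pow_one] at h4
  rw [h4] at c1 c2
  have e1 : a = b := c1
  have e2 : b = c := c2
  subst e1 e2
  exact hσ1 (hbase σ hσ a1 a1 a1)

end Perm

section Affine
variable {S N : Type*} [Group S] [AddCommGroup N] [DistribMulAction S N]

variable (S N) in
/-- the affine group -/
def aff : Subgroup (Equiv.Perm N) where
  carrier := {σ | ∃ (n : N) (h : S), ∀ x, σ x = n + h • x}
  mul_mem' := by
    rintro σ τ ⟨n, h, hσ⟩ ⟨n', h', hτ⟩
    exact ⟨n + h • n', h * h', fun x => by simp [hσ, hτ, mul_smul, add_assoc]⟩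
  one_mem' := ⟨0, 1, by simp⟩
  inv_mem' := by
    rintro σ ⟨n, h, hσ⟩
    exact ⟨-(h⁻¹ • n), h⁻¹, fun x => by rw [Equiv.Perm.inv_eq_iff_eq, hσ]; simp⟩

theorem aff_pow {σ : Equiv.Perm N} (hσ : σ ∈ aff S N) : σ ^ (Nat.card S * Nat.card N) = 1 := by
  obtain ⟨n, h, hσ⟩ := hσ
  have h1 : ∀ k : ℕ, ∃ c, ∀ x, (σ ^ k) x = c + h ^ k • x := by
    intro k
    induction k with
    | zero => exact ⟨0, by simp⟩
    | succ k ih =>
      obtain ⟨c, hc⟩ := ih
      exact ⟨n + h • c, fun x => by simp [pow_succ', hσ, hc, mul_smul, add_assoc]⟩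
  obtain ⟨c, hc⟩ := h1 (Nat.card S)
  simp only [pow_card_eq_one', one_smul] at hc
  have h2 : ∀ (k : ℕ) x, ((σ ^ Nat.card S) ^ k) x = k • c + x := by
    intro k
    induction k with
    | zero => simp
    | succ k ih =>
      intro x
      rw [pow_succ', Equiv.Perm.mul_apply, hc, ih, succ_nsmul']
      abel
  ext x
  rw [pow_mul, h2, card_nsmul_eq_zero', zero_add, Equiv.Perm.one_apply]

theorem aff_base {ι : Type*} {t : ι → N} (ht : IsBase S t) {σ : Equiv.Perm N} (hσ : σ ∈ aff S N)
    (h0 : σ 0 = 0) (h1 : ∀ i, σ (t i) = t i) : σ = 1 := by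
  obtain ⟨n, h, hσ⟩ := hσ
  have hn : n = 0 := by simpa [hσ] using h0
  ext x
  rw [hσ, hn, zero_add, ht h (fun i => by simpa [hσ, hn] using h1 i), Equiv.Perm.one_apply]

theorem aff_five (h : HasBase S N 3) :
    ∃ col : N → Fin 5, ∀ σ ∈ aff S N, (∀ x, col (σ x) = col x) → σ = 1 := by
  classical
  obtain ⟨t, ht⟩ := h
  let col : N → Fin 5 := fun x => if x = 0 then 0 else if x = t 0 then 1 else if x = t 1 then 2
    else if x = t 2 then 3 else 4
  have key : ∀ x y, col x = col y → (y = 0 ∨ y = t 0 ∨ y = t 1 ∨ y = t 2) → x = y := by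
    intro x y h hy
    simp only [col] at h
    split_ifs at h <;> simp_all
  refine ⟨col, fun σ hσ h => aff_base ht hσ (key _ _ (h _) (by simp)) fun i => key _ _ (h _) ?_⟩
  fin_cases i <;> simp

theorem aff_three (h3 : ¬ 3 ∣ Nat.card S) (h3' : ¬ 3 ∣ Nat.card N) (h : HasBase S N 2) :
    ∃ col : N → Fin 3, ∀ σ ∈ aff S N, (∀ x, col (σ x) = col x) → σ = 1 := by
  obtain ⟨t, ht⟩ := h
  refine three_colour _ (k := Nat.card S * Nat.card N)
    (fun h => ((Nat.Prime.dvd_mul Nat.prime_three).1 h).elim h3 h3') (fun σ => aff_pow) 0 (t 0) (t 1)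
    (fun σ hσ h0 h1 h2 => aff_base ht hσ h0 fun i => ?_)
  fin_cases i
  · exact h1
  · exact h2

theorem aff_two (ho : Odd (Nat.card S)) (ho' : Odd (Nat.card N)) (h : HasBase S N 2) :
    ∃ col : N → Fin 2, ∀ σ ∈ aff S N, (∀ x, col (σ x) = col x) → σ = 1 := by
  classical
  obtain ⟨t, ht⟩ := h
  have hsq : ∀ σ ∈ aff S N, σ * σ = 1 → σ = 1 := by
    intro σ hσ h
    have h4 := pow_gcd_eq_one.2 ⟨(sq σ).trans h, aff_pow hσ⟩
    rwa [Nat.coprime_two_left.2 (ho.mul ho'), pow_one] at h4
  suffices h : ∃ Δ : Finset N, ∀ σ ∈ aff S N, (∀ x ∈ Δ, σ x ∈ Δ) → σ = 1 by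
    obtain ⟨Δ, hΔ⟩ := h
    refine ⟨fun x => if x ∈ Δ then 0 else 1, fun σ hσ h => hΔ σ hσ fun x hx => ?_⟩
    have := h x
    simp only [if_pos hx] at this
    by_contra h1
    simp [h1] at this
  by_cases hdeg : ∃ z : N, IsBase S ![z]
  · obtain ⟨z, hz⟩ := hdeg
    refine ⟨{0, z}, fun σ hσ h => hsq σ hσ ?_⟩
    have h0 := h 0 (by simp)
    have h1 := h z (by simp)
    simp only [Finset.mem_insert, Finset.mem_singleton] at h0 h1
    have hinj := fun x y => σ.injective.eq_iff (a := x) (b := y)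
    have : σ (σ 0) = 0 ∧ σ (σ z) = z := by
      rcases h0 with h0 | h0 <;> rcases h1 with h1 | h1
      · have := (hinj _ _).1 (h1.trans h0.symm)
        simp [this, h0]
      · simp [h0, h1]
      · simp [h0, h1]
      · have := (hinj _ _).1 (h1.trans h0.symm)
        subst this
        simp [h0]
    exact aff_base hz (mul_mem hσ hσ) this.1 (fun i => by fin_cases i; exact this.2)
  have hx : t 0 ≠ 0 := fun h => hdeg ⟨t 1, fun g hg => ht g fun i => by
    fin_cases i
    · simp [h]
    · exact hg 0⟩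
  have hy : t 1 ≠ 0 := fun h => hdeg ⟨t 0, fun g hg => ht g fun i => by
    fin_cases i
    · exact hg 0
    · simp [h]⟩
  have hxy : t 0 ≠ t 1 := fun h => hdeg ⟨t 0, fun g hg => ht g fun i => by
    fin_cases i
    · exact hg 0
    · simpa [h] using hg 0⟩
  have hs : t 0 + t 1 ≠ 0 := fun h => hdeg ⟨t 0, fun g hg => ht g fun i => by
    fin_cases i
    · exact hg 0
    · have h1 : t 1 = -t 0 := (neg_eq_of_add_eq_zero_right h).symm
      simpa [h1] using hg 0⟩
  have hbase : ∀ σ ∈ aff S N, σ 0 = 0 → σ (t 0) = t 0 → σ (t 1) = t 1 → σ = 1 :=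
    fun σ hσ h0 h1 h2 => aff_base ht hσ h0 fun i => by
      fin_cases i
      · exact h1
      · exact h2
  generalize t 0 = x at *
  generalize t 1 = y at *
  have hxs : x ≠ x + y := by simpa using hy
  have hys : y ≠ x + y := by simpa using hx
  have hsum : ∀ f : N → N, ∑ u ∈ ({0, x, y, x + y} : Finset N), f u =
      f 0 + (f x + (f y + f (x + y))) := by
    intro f
    rw [Finset.sum_insert (by simp [hx.symm, hy.symm, hs.symm]),
      Finset.sum_insert (by simp [hxy, hy]), Finset.sum_insert (by simp [hx]),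
      Finset.sum_singleton]
  have hrefl : ∀ σ ∈ aff S N, (∀ u ∈ ({0, x, y, x + y} : Finset N),
      σ u ∈ ({0, x, y, x + y} : Finset N)) → σ (x + y) = x + y - σ 0 ∧ σ y = x + y - σ x := by
    intro σ hσ h
    have h1 : ({0, x, y, x + y} : Finset N).image σ = {0, x, y, x + y} :=
      Finset.eq_of_subset_of_card_le (Finset.image_subset_iff.2 h)
        (by rw [Finset.card_image_of_injective _ σ.injective])
    have h2 := Finset.sum_image (s := ({0, x, y, x + y} : Finset N)) (g := σ) (f := id)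
      σ.injective.injOn
    rw [h1, hsum, hsum] at h2
    obtain ⟨n, g, hg⟩ := hσ
    simp only [id, hg, smul_add, smul_zero] at h2 ⊢
    have h3 : 2 • (n + n + g • x + g • y - (x + y)) = 0 := by
      rw [two_smul]
      linear_combination (norm := abel) -h2
    have h4 : n + n + g • x + g • y - (x + y) = 0 := by
      have h5 := addOrderOf_dvd_of_nsmul_eq_zero h3
      have h6 := addOrderOf_dvd_natCard (n + n + g • x + g • y - (x + y))
      have h7 := Nat.dvd_gcd h5 h6
      rw [Nat.coprime_two_left.2 ho', Nat.dvd_one, AddMonoid.addOrderOf_eq_one_iff] at h7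
      exact h7
    constructor <;> linear_combination (norm := abel) h4
  have hA : ∀ σ ∈ aff S N, (∀ u ∈ ({0, x, y, x + y} : Finset N),
      σ u ∈ ({0, x, y, x + y} : Finset N)) → σ 0 = 0 ∨ σ 0 = x + y → σ = 1 := by
    intro σ hσ h h0
    obtain ⟨h1, h2⟩ := hrefl σ hσ h
    have h3 := h x (by simp)
    have hinj := fun x y => σ.injective.eq_iff (a := x) (b := y)
    have h4 : σ (σ 0) = 0 ∧ σ x ≠ 0 ∧ σ x ≠ x + y := by
      rcases h0 with h0 | h0
      · rw [h0, sub_zero] at h1
        exact ⟨by rw [h0, h0], fun h => hx ((hinj _ _).1 (h.trans h0.symm)),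
          fun h => hxs ((hinj _ _).1 (h.trans h1.symm))⟩
      · rw [h0, sub_self] at h1
        exact ⟨by rw [h0, h1], fun h => hxs ((hinj _ _).1 (h.trans h1.symm)),
          fun h => hx ((hinj _ _).1 (h.trans h0.symm))⟩
    simp only [Finset.mem_insert, Finset.mem_singleton, h4.2.1, h4.2.2, false_or, or_false] at h3
    refine hsq σ hσ (hbase _ (mul_mem hσ hσ) h4.1 ?_ ?_)
    · rcases h3 with h3 | h3 <;> simp [h3, h2]
    · rcases h3 with h3 | h3 <;> simp [h3, h2]
  refine ⟨{0, x, y, x + y}, fun σ hσ h => ?_⟩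
  by_cases h0 : σ 0 = 0 ∨ σ 0 = x + y
  · exact hA σ hσ h h0
  refine hsq σ hσ (hA _ (mul_mem hσ hσ) (fun u hu => h _ (h u hu)) ?_)
  obtain ⟨h1, h2⟩ := hrefl σ hσ h
  have h3 := h 0 (by simp)
  have h4 := h _ h3
  push Not at h0
  simp only [Finset.mem_insert, Finset.mem_singleton, h0.1, h0.2, false_or, or_false] at h3
  have hinj := fun x y => σ.injective.eq_iff (a := x) (b := y)
  simp only [Finset.mem_insert, Finset.mem_singleton] at h4
  rw [Equiv.Perm.mul_apply]
  rcases h3 with h3 | h3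
  · rw [h3, add_sub_cancel_left] at h1
    rw [h3] at h4 ⊢
    rcases h4 with h4 | h4 | h4 | h4
    · exact Or.inl h4
    · exact absurd ((hinj _ _).1 (h4.trans h3.symm)) hx
    · exact absurd ((hinj _ _).1 (h4.trans h1.symm)) hxs
    · exact Or.inr h4
  · rw [h3, add_sub_cancel_right] at h1
    rw [h3] at h4 ⊢
    rcases h4 with h4 | h4 | h4 | h4
    · exact Or.inl h4
    · exact absurd ((hinj _ _).1 (h4.trans h1.symm)) hys
    · exact absurd ((hinj _ _).1 (h4.trans h3.symm)) hy
    · exact Or.inr h4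

end Affine

universe u

theorem colour_of_aff {G : Type u} [Group G] [Finite G] (hG : Group.IsSolvable G) {H : Subgroup G}
    (hH : IsCoatom H) {c : ℕ}
    (ih : ∀ (S N : Type u) [Group S] [Finite S] [AddCommGroup N] [Finite N] [DistribMulAction S N],
      Group.IsSolvable S → Nat.card S ∣ Nat.card G → Nat.card N = H.index → Irr S N →
        ∃ col : N → Fin c, ∀ σ ∈ aff S N, (∀ x, col (σ x) = col x) → σ = 1) :
    Colourable H c := by
  classical
  let S := G ⧸ H.normalCore
  let π : G →* S := QuotientGroup.mk' _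
  let H' : Subgroup S := H.map π
  have hker : π.ker ≤ H := by
    rw [QuotientGroup.ker_mk']
    exact H.normalCore_le
  have hmem : ∀ g, π g ∈ H' ↔ g ∈ H := by
    intro g
    rw [← Subgroup.mem_comap, Subgroup.comap_map_eq_self hker]
  have hsurj : Function.Surjective π := QuotientGroup.mk'_surjective _
  have hcore : ∀ B : Subgroup S, B.Normal → B ≤ H' → B = ⊥ := by
    intro B hB hBH
    rw [eq_bot_iff]
    intro x hx
    obtain ⟨g, rfl⟩ := hsurj x
    have h1 : B.comap π ≤ H.normalCore :=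
      (Subgroup.normal_le_normalCore).2 (fun y hy => (hmem y).1 (hBH hy))
    exact (QuotientGroup.eq_one_iff _).2 (h1 hx)
  have hmax : ∀ B : Subgroup S, ¬ B ≤ H' → B ⊔ H' = ⊤ := by
    intro B hB
    have h1 : (B ⊔ H').comap π = ⊤ := by
      refine hH.2 _ (lt_of_le_of_ne (fun y hy => Subgroup.mem_sup_right ((hmem y).2 hy)) fun h => ?_)
      apply hB
      intro x hx
      obtain ⟨g, rfl⟩ := hsurj x
      rw [hmem, h]
      exact Subgroup.mem_sup_left hx
    rw [eq_top_iff]
    intro x _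
    obtain ⟨g, rfl⟩ := hsurj x
    exact (h1 ▸ Subgroup.mem_top g : g ∈ (B ⊔ H').comap π)
  have htop : (⊤ : Subgroup S) ≠ ⊥ := by
    intro h
    apply hH.1
    rw [eq_top_iff]
    intro g _
    have : π g ∈ (⊥ : Subgroup S) := h ▸ Subgroup.mem_top _
    rw [← hmem, Subgroup.mem_bot.1 this]
    exact one_mem _
  obtain ⟨N, -, ⟨hNn, hN0⟩, hmin⟩ := Finite.exists_le_minimal
    (p := fun B : Subgroup S => B.Normal ∧ B ≠ ⊥) ⟨inferInstance, htop⟩
  have hcomm : ∀ x ∈ N, ∀ y ∈ N, x * y = y * x := by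
    have hlt : ⁅N, N⁆ < N := Group.IsSolvable.commutator_lt_of_ne_bot hN0
    have h1 : ⁅N, N⁆ = ⊥ := by
      by_contra h
      exact absurd (hmin ⟨inferInstance, h⟩ hlt.le) hlt.not_ge
    rw [Subgroup.commutator_eq_bot_iff_le_centralizer] at h1
    exact fun x hx y hy => (h1 hx y hy).symm
  have hsup : N ⊔ H' = ⊤ := hmax N (fun h => hN0 (hcore N hNn h))
  have hdec : ∀ s : S, ∃ n ∈ N, ∃ h ∈ H', n * h = s := fun s =>
    Subgroup.mem_sup_of_normal_left.1 (hsup ▸ Subgroup.mem_top s)
  have hcent : ∀ h ∈ H', (∀ n ∈ N, n * h = h * n) → h = 1 := by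
    intro h hh hc
    have h1 : (H' ⊓ Subgroup.centralizer (N : Set S)).Normal := by
      constructor
      intro x hx s
      obtain ⟨n, hn, k, hk, rfl⟩ := hdec s
      have h2 : k * x * k⁻¹ ∈ H' ⊓ Subgroup.centralizer (N : Set S) :=
        ⟨H'.mul_mem (H'.mul_mem hk hx.1) (H'.inv_mem hk),
          (Subgroup.normal_centralizer (H := N)).conj_mem x hx.2 k⟩
      have h3 : n * k * x * (n * k)⁻¹ = k * x * k⁻¹ := by
        calc n * k * x * (n * k)⁻¹ = n * (k * x * k⁻¹) * n⁻¹ := by group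
          _ = _ := by rw [h2.2 n hn]; group
      rwa [h3]
    have := hcore _ h1 inf_le_left
    exact Subgroup.mem_bot.1 (this ▸ (⟨hh, hc⟩ : h ∈ H' ⊓ Subgroup.centralizer (N : Set S)))
  have hinf : ∀ n ∈ N, n ∈ H' → n = 1 := fun n hn hh => hcent n hh fun m hm => hcomm m hm n hn
  have huniq : ∀ n ∈ N, ∀ h ∈ H', ∀ n' ∈ N, ∀ h' ∈ H', n * h = n' * h' → n = n' := by
    intro n hn h hh n' hn' h' hh' e
    have h1 : n'⁻¹ * n = h' * h⁻¹ := by
      rw [inv_mul_eq_iff_eq_mul, ← mul_assoc, ← e, mul_inv_cancel_right]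
    have := hinf _ (mul_mem (inv_mem hn') hn) (h1 ▸ mul_mem hh' (inv_mem hh))
    exact (inv_mul_eq_one.1 this).symm
  letI : CommGroup N := { (inferInstance : Group N) with
    mul_comm := fun x y => Subtype.ext (hcomm x x.2 y y.2) }
  letI : DistribMulAction S (Additive N) :=
    { smul := fun s x => Additive.ofMul (MulAut.conjNormal s x.toMul)
      one_smul := fun x => by
        change Additive.ofMul (MulAut.conjNormal 1 x.toMul) = x
        simp
      mul_smul := fun s s' x => by
        change Additive.ofMul (MulAut.conjNormal (s * s') x.toMul) =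
          Additive.ofMul (MulAut.conjNormal s (MulAut.conjNormal s' x.toMul))
        simp
      smul_zero := fun s => by
        change Additive.ofMul (MulAut.conjNormal s 1) = 0
        simp
      smul_add := fun s x y => by
        change Additive.ofMul (MulAut.conjNormal s (x.toMul * y.toMul)) =
          Additive.ofMul (MulAut.conjNormal s x.toMul * MulAut.conjNormal s y.toMul)
        simp }
  have hsm : ∀ (s : S) (x : Additive N), (((s • x).toMul : N) : S) = s * x.toMul * s⁻¹ :=
    fun s x => rfl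
  have hirr : Irr S (Additive N) := by
    haveI : Nontrivial N := (Subgroup.nontrivial_iff_ne_bot N).2 hN0
    refine ⟨inferInstance, fun U hU => ?_⟩
    let U' : Subgroup S := (AddSubgroup.toSubgroup' U).map N.subtype
    have hU' : ∀ x : Additive N, ((x.toMul : N) : S) ∈ U' ↔ x ∈ U := by
      intro x
      constructor
      · rintro ⟨y, hy, hxy⟩
        have : y = x.toMul := Subtype.ext hxy
        subst this
        exact hy
      · intro hx
        exact ⟨_, hx, rfl⟩
    have hn : U'.Normal := by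
      constructor
      rintro _ ⟨y, hy, rfl⟩ s
      exact (hU' (s • Additive.ofMul y)).2 (hU s _ hy)
    by_cases h : U' = ⊥
    · left
      rw [eq_bot_iff]
      intro x hx
      have := (hU' x).2 hx
      rw [h, Subgroup.mem_bot] at this
      exact Subtype.ext this
    · right
      rw [eq_top_iff]
      intro x _
      exact (hU' x).1 (hmin ⟨hn, h⟩ (Subgroup.map_subtype_le _) x.toMul.2)
  have hcard : Nat.card (Additive N) = H.index := by
    have h1 : Subgroup.IsComplement' N H' :=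
      Subgroup.isComplement'_of_disjoint_and_mul_eq_univ
        (Subgroup.disjoint_def.2 fun hx hy => hinf _ hx hy) (by
          rw [Set.eq_univ_iff_forall]
          intro s
          obtain ⟨n, hn, h, hh, rfl⟩ := hdec s
          exact ⟨n, hn, h, hh, rfl⟩)
    rw [← Subgroup.index_map_eq H hsurj hker, h1.index_eq_card]
    rfl
  obtain ⟨col, hcol⟩ := ih S (Additive N) inferInstance (Subgroup.card_quotient_dvd_card _)
    hcard hirr
  choose nn hnn hh hhh hdec' using hdec
  refine ⟨fun g => col (Additive.ofMul ⟨nn (π g), hnn _⟩), fun g h hhH => ?_, fun g hg => ?_⟩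
  · refine congrArg col (congrArg Additive.ofMul (Subtype.ext ?_))
    refine huniq _ (hnn _) _ (hhh (π (g * h))) _ (hnn _) _ (mul_mem (hhh (π g)) ((hmem h).2 hhH)) ?_
    rw [hdec', ← mul_assoc, hdec', map_mul]
  · let σ : Equiv.Perm (Additive N) := (Equiv.addLeft (Additive.ofMul ⟨nn (π g), hnn _⟩)) *
      MulAction.toPerm (hh (π g))
    have hσ : ∀ x, σ x = Additive.ofMul ⟨nn (π g), hnn _⟩ + hh (π g) • x := fun x => rfl
    have h1 := hcol σ ⟨_, _, hσ⟩ (fun x => by
      obtain ⟨y, hy⟩ := hsurj (x.toMul : N)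
      have h2 := hg y
      refine (congrArg col ?_).trans (h2.trans (congrArg col (Eq.symm ?_)))
      · rw [hσ]
        apply Additive.toMul.injective
        apply Subtype.ext
        refine huniq _ (Subtype.property _) _ (hhh (π g)) _ (hnn _) _ (hhh (π (g * y))) ?_
        change _ = nn (π (g * y)) * hh (π (g * y))
        rw [hdec', map_mul, hy, toMul_add, Subgroup.coe_mul, hsm]
        conv_rhs => rw [← hdec' (π g)]
        simp [mul_assoc]
      · apply Additive.toMul.injective
        apply Subtype.ext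
        refine huniq _ (Subtype.property _) 1 (one_mem _) _ (hnn _) _ (hhh (π y)) ?_
        change _ = nn (π y) * hh (π y)
        rw [hdec', hy, mul_one])
    have h2 : nn (π g) = 1 := by
      have := hσ 0
      rw [h1, smul_zero, add_zero] at this
      exact (congrArg (fun x : Additive N => ((x.toMul : N) : S)) this).symm
    have h3 : hh (π g) = 1 := by
      refine hcent _ (hhh _) fun n hn => ?_
      have := congrArg (fun x : Additive N => ((x.toMul : N) : S)) (hσ (Additive.ofMul ⟨n, hn⟩))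
      simp only [h1, Equiv.Perm.one_apply, toMul_add, Subgroup.coe_mul, hsm, toMul_ofMul, h2,
        one_mul] at this
      exact (eq_mul_inv_iff_mul_eq.1 this)
    have h4 := hdec' (π g)
    rw [h2, h3, one_mul] at h4
    exact (QuotientGroup.eq_one_iff _).1 h4.symm

theorem colour_five {G : Type u} [Group G] [Finite G] (hG : Group.IsSolvable G) {H : Subgroup G}
    (hH : IsCoatom H)
    (ih : ∀ (S N : Type u) [Group S] [Finite S] [AddCommGroup N] [Finite N] [DistribMulAction S N],
      Group.IsSolvable S → Nat.card S ∣ Nat.card G → Nat.card N = H.index → Irr S N →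
        HasBase S N 3) : Colourable H 5 :=
  colour_of_aff hG hH fun S N _ _ _ _ _ h1 h2 h3 h4 => aff_five (ih S N h1 h2 h3 h4)

theorem colour_three {G : Type u} [Group G] [Finite G] (hG : Group.IsSolvable G) {H : Subgroup G}
    (hH : IsCoatom H) (h : ¬ 3 ∣ Nat.card G)
    (ih : ∀ (S N : Type u) [Group S] [Finite S] [AddCommGroup N] [Finite N] [DistribMulAction S N],
      Group.IsSolvable S → Nat.card S ∣ Nat.card G → Nat.card N = H.index → Irr S N →
        HasBase S N 2) : Colourable H 3 :=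
  colour_of_aff hG hH fun S N _ _ _ _ _ h1 h2 h3 h4 =>
    aff_three (fun h' => h (h'.trans h2)) (fun h' => h (h'.trans (h3 ▸ H.index_dvd_card)))
      (ih S N h1 h2 h3 h4)

theorem colour_two {G : Type u} [Group G] [Finite G] (hG : Group.IsSolvable G) {H : Subgroup G}
    (hH : IsCoatom H) (h : Odd (Nat.card G))
    (ih : ∀ (S N : Type u) [Group S] [Finite S] [AddCommGroup N] [Finite N] [DistribMulAction S N],
      Group.IsSolvable S → Nat.card S ∣ Nat.card G → Nat.card N = H.index → Irr S N →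
        HasBase S N 2) : Colourable H 2 :=
  colour_of_aff hG hH fun S N _ _ _ _ _ h1 h2 h3 h4 =>
    aff_two (h.of_dvd_nat h2) (h.of_dvd_nat (h3 ▸ H.index_dvd_card)) (ih S N h1 h2 h3 h4)

end Cfsg.Agent.SolvLin
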