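import Cfsg.Agent.SolvLin.DL0

/-!
# Vectors with stabilizers of small derived length: the imprimitive step
-/

set_option autoImplicit false
set_option linter.style.haveILetI false
open scoped commutatorElement

namespace Cfsg.Agent.SolvLin

open MulAction

universe u

section
variable (G : Type*) {V : Type*} [Group G] [AddCommGroup V] [DistribMulAction G V]

/-- the `d`-th derived subgroup of the stabilizer of `v` acts trivially -/
def Sm (v : V) (d : ℕ) : Prop := ∀ g ∈ ds (stabilizer G v) d, ∀ w : V, g • w = w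

variable (V) in
/-- vectors in different orbits, with stabilizers of bounded derived length -/
def St {c : ℕ} (d : Fin c → ℕ) : Prop :=
  ∃ t : Fin c → V, (∀ k, Sm G (t k) (d k)) ∧ ∀ (k l : Fin c) (g : G), g • t k = t l → k = l

end

variable {G V : Type*} [Group G] [AddCommGroup V] [DistribMulAction G V]

theorem Sm.mono {v : V} {d d' : ℕ} (h : Sm G v d) (hd : d ≤ d') : Sm G v d' :=
  fun g hg => h g (ds_anti _ hd hg)

theorem Sm.of_hom {Γ : Type*} [Group Γ] [DistribMulAction Γ V] (f : G →* Γ)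
    (hf : ∀ g (v : V), f g • v = g • v) {v : V} {d : ℕ} (h : Sm Γ v d) : Sm G v d := by
  intro g hg w
  rw [← hf]
  exact h _ (ds_hom f (fun g hg => (hf g v).trans hg) hg) w

theorem St.of_hom {Γ : Type*} [Group Γ] [DistribMulAction Γ V] (f : G →* Γ)
    (hf : ∀ g (v : V), f g • v = g • v) {c : ℕ} {d : Fin c → ℕ} (h : St Γ V d) : St G V d := by
  obtain ⟨t, h1, h2⟩ := h
  exact ⟨t, fun k => (h1 k).of_hom f hf, fun k l g hg => h2 k l (f g) ((hf g _).trans hg)⟩

theorem cr_red [Finite V] (hcr : CR G V) (P : V → Subgroup G)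
    (hP : ∀ U W : AddSubgroup V, Inv G U → Inv G W → U ⊓ W = ⊥ → ∀ a ∈ U, ∀ b ∈ W,
      P (a + b) ≤ P a ⊓ P b) (d : ℕ) (U0 : AddSubgroup V) (hU0 : Inv G U0)
    (h : ∀ (U : AddSubgroup V) (hU : Inv G U), U ≤ U0 → (letI := subAct U hU; Irr G U) →
      ∃ v ∈ U, ∀ g ∈ ds (P v) d, ∀ u ∈ U, g • u = u) :
    ∃ v ∈ U0, ∀ g ∈ ds (P v) d, ∀ u ∈ U0, g • u = u := by
  suffices key : ∀ (n : ℕ) (U : AddSubgroup V), Inv G U → U ≤ U0 → Nat.card U = n →
      ∃ v ∈ U, ∀ g ∈ ds (P v) d, ∀ u ∈ U, g • u = u from key _ U0 hU0 le_rfl rfl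
  intro n
  induction n using Nat.strong_induction_on with | _ n ih => ?_
  intro U hU hUU hn
  by_cases hU0 : U = ⊥
  · refine ⟨0, zero_mem _, fun g _ u hu => ?_⟩
    rw [hU0, AddSubgroup.mem_bot] at hu
    rw [hu, smul_zero]
  obtain ⟨U1, -, ⟨hU1, hU1U, hU10⟩, hmin⟩ := Finite.exists_le_minimal
    (p := fun W : AddSubgroup V => Inv G W ∧ W ≤ U ∧ W ≠ ⊥) ⟨hU, le_rfl, hU0⟩
  letI := subAct U1 hU1
  have hirr : Irr G U1 := by
    refine ⟨(AddSubgroup.nontrivial_iff_ne_bot U1).2 hU10, fun W hW => ?_⟩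
    by_cases hW0 : W = ⊥
    · exact Or.inl hW0
    right
    have h1 := hmin (y := W.map U1.subtype) ⟨?_, (AddSubgroup.map_subtype_le W).trans hU1U, ?_⟩
      (AddSubgroup.map_subtype_le W)
    · rw [eq_top_iff]
      intro u _
      obtain ⟨w, hw, hwu⟩ := h1 u.2
      rwa [← Subtype.ext hwu]
    · rintro g _ ⟨w, hw, rfl⟩
      exact ⟨_, hW g w hw, rfl⟩
    · rwa [Ne, AddSubgroup.map_eq_bot_iff_of_injective _ Subtype.val_injective]
  obtain ⟨t1, ht1, ht1'⟩ := h U1 hU1 (hU1U.trans hUU) hirr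
  obtain ⟨W, hW, hinf, hsup⟩ := hcr U1 hU1
  have hlt : W ⊓ U < U := by
    refine lt_of_le_of_ne inf_le_right fun h2 => hU10 ?_
    rw [eq_bot_iff, ← hinf]
    exact le_inf le_rfl (hU1U.trans (h2 ▸ inf_le_left))
  obtain ⟨t2, ht2, ht2'⟩ := ih (Nat.card (W ⊓ U : AddSubgroup V))
    (hn ▸ Set.ncard_lt_ncard hlt (Set.toFinite _)) (W ⊓ U)
    (fun g v hv => ⟨hW g v hv.1, hU g v hv.2⟩) (inf_le_right.trans hUU) rfl
  refine ⟨t1 + t2, add_mem (hU1U ht1) ht2.2, fun g hg u hu => ?_⟩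
  have hle := hP U1 W hU1 hW hinf t1 ht1 t2 ht2.1
  obtain ⟨a, ha, b, hb, rfl⟩ := AddSubgroup.mem_sup.1 (hsup ▸ AddSubgroup.mem_top u)
  have hbU : b ∈ U := by simpa using sub_mem hu (hU1U ha)
  rw [smul_add, ht2' g (ds_mono (hle.trans inf_le_right) d hg) b ⟨hb, hbU⟩,
    ht1' g (ds_mono (hle.trans inf_le_left) d hg) a ha]

theorem sm_of_cr [Finite V] (hcr : CR G V) {d : ℕ}
    (h : ∀ (U : AddSubgroup V) (hU : Inv G U), (letI := subAct U hU; Irr G U) →
      letI := subAct U hU; ∃ v : U, Sm G v d) : ∃ v : V, Sm G v d := by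
  suffices key : ∃ v ∈ (⊤ : AddSubgroup V), ∀ g ∈ ds (stabilizer G v) d,
      ∀ u ∈ (⊤ : AddSubgroup V), g • u = u by
    obtain ⟨v, -, hv⟩ := key
    exact ⟨v, fun g hg w => hv g hg w trivial⟩
  refine cr_red hcr (stabilizer G) (fun U W hU hW hinf a ha b hb g hg => ?_) d ⊤
    (fun _ _ _ => trivial) (fun U hU _ hirr => ?_)
  · have h1 : g • (a + b) = a + b := hg
    rw [smul_add] at h1
    have h2 : g • a - a = b - g • b := by
      rw [sub_eq_sub_iff_add_eq_add, h1, add_comm]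
    have h3 : g • a - a ∈ U ⊓ W :=
      AddSubgroup.mem_inf.2 ⟨U.sub_mem (hU g _ ha) ha, h2 ▸ W.sub_mem hb (hW g _ hb)⟩
    rw [hinf, AddSubgroup.mem_bot] at h3
    rw [h3] at h2
    exact ⟨sub_eq_zero.1 h3, (sub_eq_zero.1 h2.symm).symm⟩
  · letI := subAct U hU
    obtain ⟨v, hv⟩ := h U hU hirr
    refine ⟨v, v.2, fun g hg u hu => congrArg Subtype.val (hv g (ds_mono ?_ d hg) ⟨u, hu⟩)⟩
    exact fun g hg => Subtype.ext hg

namespace Imprim
variable (I : Imprim G V) [Fintype (G ⧸ I.H)]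

/-- the vector with given components -/
noncomputable def vec (y : G ⧸ I.H → I.e.range) : V := ∑ ω : G ⧸ I.H, ω.out • (y ω : V)

theorem proj (y : G ⧸ I.H → I.e.range) (ω : G ⧸ I.H) : I.e (ω.out⁻¹ • I.vec y) = y ω := by
  rw [vec, Finset.smul_sum, map_sum, Finset.sum_eq_single ω]
  · rw [inv_smul_smul, I.e_mem (y ω).2]
  · intro ω' _ hne
    rw [← mul_smul]
    refine I.orth' (fun h => hne ?_) (y _).2
    rw [← QuotientGroup.eq] at h
    simpa using h.symm
  · simp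

omit [Fintype (G ⧸ I.H)] in
theorem out_mem (g : G) (ω : G ⧸ I.H) : (g • ω).out⁻¹ * (g * ω.out) ∈ I.H := by
  rw [← QuotientGroup.eq, QuotientGroup.out_eq', ← smul_eq_mul, MulAction.Quotient.mk_smul_out]

theorem vec_key {y y' : G ⧸ I.H → I.e.range} {g : G} (hg : g • I.vec y = I.vec y') (ω : G ⧸ I.H) :
    ((g • ω).out⁻¹ * (g * ω.out)) • (y ω : V) = y' (g • ω) := by
  rw [← I.proj, ← I.proj, ← I.comm _ (I.out_mem g ω), ← mul_smul, mul_assoc, mul_inv_cancel_right,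
    mul_smul, hg]

omit [Fintype (G ⧸ I.H)] in
theorem triv (hirr : Irr G V) {g : G}
    (h : ∀ ω : G ⧸ I.H, ∀ u ∈ I.e.range, g • ω.out • u = ω.out • u) (v : V) : g • v = v := by
  have hv : v ∈ AddSubgroup.closure {w | ∃ g : G, ∃ u ∈ I.e.range, g • u = w} := by
    rw [closure_eq_top hirr]
    · trivial
    · obtain ⟨v, hv, hv0⟩ := I.exists_ne_zero
      intro h
      rw [h] at hv
      exact hv0 hv
  induction hv using AddSubgroup.closure_induction with
  | mem x hx =>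
    obtain ⟨x, u, hu, rfl⟩ := hx
    obtain ⟨k, hk⟩ := QuotientGroup.mk_out_eq_mul I.H x
    have := h x _ (I.inv k⁻¹ u hu)
    change g • _ • (k : G)⁻¹ • u = _ • (k : G)⁻¹ • u at this
    rwa [hk, mul_smul, smul_inv_smul] at this
  | zero => simp
  | add x y _ _ hx hy => rw [smul_add, hx, hy]
  | neg x _ hx => rw [smul_neg, hx]

theorem card_pow_le [Finite V] : Nat.card I.e.range ^ I.H.index ≤ Nat.card V := by
  rw [Subgroup.index, ← Nat.card_fun]
  refine Nat.card_le_card_of_injective I.vec fun y y' h => funext fun ω => Subtype.ext ?_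
  rw [← I.proj, h, I.proj]

theorem card_ne_two (hirr : Irr G V) : Nat.card I.e.range ≠ 2 := by
  intro h2
  obtain ⟨z, hz0, hz⟩ := (Nat.card_eq_two_iff' (0 : I.e.range)).1 h2
  have hz0' : (z : V) ≠ 0 := fun h => hz0 (Subtype.ext h)
  have hH : ∀ h ∈ I.H, h • (z : V) = z := fun h hh =>
    congrArg Subtype.val (hz ⟨_, I.inv ⟨h, hh⟩ z z.2⟩
      (fun e => act_ne_zero h hz0' (congrArg Subtype.val e)))
  have hfix : ∀ g : G, g • I.vec (fun _ => z) = I.vec fun _ => z := by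
    intro g
    rw [vec, Finset.smul_sum, 
      ← Equiv.sum_comp (MulAction.toPerm g) fun ω : G ⧸ I.H => ω.out • (z : V)]
    refine Finset.sum_congr rfl fun ω _ => ?_
    rw [MulAction.toPerm_apply, ← mul_smul, ← inv_smul_eq_iff, ← mul_smul, hH _ (I.out_mem g ω)]
  have htop := (hirr.2 (FixedPoints.addSubgroup G V) fun g v hv => by
    rw [hv g]; exact hv).resolve_left fun h => by
      have h1 : I.vec (fun _ => z) ∈ FixedPoints.addSubgroup G V := hfix
      rw [h, AddSubgroup.mem_bot] at h1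
      have := I.proj (fun _ => z) ((1 : G) : G ⧸ I.H)
      rw [h1, smul_zero, map_zero] at this
      exact hz0' this.symm
  obtain ⟨g, -, hg⟩ := SetLike.exists_of_lt I.coatom.lt_top
  have h1 : (z : V) ∈ FixedPoints.addSubgroup G V := htop ▸ AddSubgroup.mem_top _
  have := I.orth' hg z.2
  rw [h1 g, I.e_mem z.2] at this
  exact hz0' this

theorem sm_vec (hirr : Irr G V) (y : G ⧸ I.H → I.e.range) {d' : ℕ}
    (h : letI := subAct I.e.range I.inv; ∀ ω : G ⧸ I.H, ∃ k d, k + d ≤ d' ∧ Sm I.H (y ω) d ∧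
      ∀ g ∈ ds (stabilizer G (I.vec y)) k, g • ω = ω) : Sm G (I.vec y) d' := by
  letI := subAct I.e.range I.inv
  intro g hg
  refine I.triv hirr fun ω u hu => ?_
  obtain ⟨k, d, hkd, h1, h2⟩ := h ω
  have h3 := ds_anti _ hkd hg
  rw [← ds_add] at h3
  have h4 := ds_hom (MulAut.conj ω.out⁻¹).toMonoidHom
    (L' := (stabilizer I.H (y ω)).map I.H.subtype) (fun x hx => ?_) h3
  · rw [← ds_map] at h4
    obtain ⟨x, hx, hxg⟩ := h4
    have h5 : (x : G) • u = u := congrArg Subtype.val (h1 x hx ⟨u, hu⟩)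
    have h6 : (x : G) = ω.out⁻¹ * g * ω.out := by simpa using hxg
    rwa [h6, mul_smul, mul_smul, inv_smul_eq_iff] at h5
  · have h5 := I.out_mem x ω
    have h6 := I.vec_key (ds_le _ _ hx) ω
    rw [h2 x hx] at h5 h6
    exact ⟨⟨_, h5⟩, Subtype.ext h6, by simp [mul_assoc]⟩

theorem step (hirr : Irr G V) {c c' : ℕ} {d : Fin c → ℕ} {d' : Fin c' → ℕ}
    (hst : letI := subAct I.e.range I.inv; St I.H I.e.range d) (f : Fin c' → G ⧸ I.H → Fin c)
    (h1 : ∀ a (L : Subgroup G), (∀ g ∈ L, ∀ ω, f a (g • ω) = f a ω) → ∀ ω,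
      ∃ k, k + d (f a ω) ≤ d' a ∧ ∀ g ∈ ds L k, g • ω = ω)
    (h2 : ∀ a b (g : G), (∀ ω, f b (g • ω) = f a ω) → a = b) : St G V d' := by
  letI := subAct I.e.range I.inv
  obtain ⟨t, ht1, ht2⟩ := hst
  have key : ∀ a b (g : G), g • I.vec (fun ω => t (f a ω)) = I.vec (fun ω => t (f b ω)) →
      ∀ ω, f b (g • ω) = f a ω := fun a b g hg ω =>
    (ht2 _ _ ⟨_, I.out_mem g ω⟩ (Subtype.ext (I.vec_key hg ω))).symm
  refine ⟨fun a => I.vec fun ω => t (f a ω), fun a => I.sm_vec hirr _ fun ω => ?_,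
    fun a b g hg => h2 a b g (key a b g hg)⟩
  obtain ⟨k, hk, hk'⟩ := h1 a (stabilizer G (I.vec fun ω => t (f a ω))) (key a a) ω
  exact ⟨k, _, hk, ht1 _, hk'⟩

end Imprim

/-- size of a base -/
def bb (n : ℕ) : ℕ := if n = 5 ∨ n = 7 then 3 else 4

theorem exists_order {G : Type u} [Group G] [Finite G] (hG : Group.IsSolvable G) {H : Subgroup G}
    (hH : IsCoatom H) : ∃ e : G ⧸ H ≃ Fin H.index, ∀ g : G,
      (∀ ω, (e ω : ℕ) < bb H.index → g • ω = ω) → ∀ ω : G ⧸ H, g • ω = ω := by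
  classical
  obtain ⟨N, _, _, _, hirr, e, he⟩ := aff_model hG hH
  have hc : Nat.card N = H.index := by rw [← Nat.card_congr e]; rfl
  obtain ⟨B, hB, h0, hB'⟩ : ∃ B : Finset N, B.card ≤ bb H.index ∧ 0 ∈ B ∧
      ∀ g : G, (∀ x ∈ B, g • x = x) → ∀ x : N, g • x = x := by
    by_cases h : H.index = 5 ∨ H.index = 7
    · obtain ⟨x, hx⟩ := exists_gen_of_prime (N := N) (by rcases h with h | h <;> norm_num [hc, h])
      refine ⟨{0, x}, Finset.card_le_two.trans (by simp [bb, h]), by simp, fun g hg y => ?_⟩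
      obtain ⟨k, rfl⟩ := hx y
      rw [smul_comm, hg x (by simp)]
    · obtain ⟨t, ht⟩ := irr_base3 hG hirr
      refine ⟨insert 0 (Finset.univ.image t), (Finset.card_insert_le _ _).trans ?_, by simp,
        fun g hg => ht g fun i => hg _ (by simp)⟩
      have := Finset.card_image_le (s := Finset.univ) (f := t)
      simp only [Finset.card_univ, Fintype.card_fin] at this
      simp only [bb, h, if_false]
      omega
  haveI := Fintype.ofFinite N
  let e1 : N ≃ Fin (B.card + Fintype.card {x // x ∉ B}) :=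
    (Equiv.sumCompl (· ∈ B)).symm.trans
      ((Equiv.sumCongr B.equivFin (Fintype.equivFin _)).trans finSumFinEquiv)
  have hn : B.card + Fintype.card {x // x ∉ B} = H.index := by
    rw [← hc, Nat.card_congr e1, Nat.card_fin]
  refine ⟨e.trans (e1.trans (finCongr hn)), fun g hg ω => ?_⟩
  obtain ⟨n, hn'⟩ := he g
  have h1 : ∀ x ∈ B, n + g • x = x := by
    intro x hx
    have := hg (e.symm x) (lt_of_lt_of_le (by
      simp [e1, Equiv.sumCompl_symm_apply_of_pos (p := (· ∈ B)) hx]) hB)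
    have h2 := hn' (e.symm x)
    rwa [this, e.apply_symm_apply, eq_comm] at h2
  have h2 : n = 0 := by simpa using h1 0 h0
  apply e.injective
  rw [hn', h2, zero_add, hB' g fun x hx => by simpa [h2] using h1 x hx]

/-- number of positions below `n` of colour `i` -/
def cnt {c : ℕ} (n : ℕ) (col : ℕ → Fin c) (i : Fin c) : ℕ :=
  ((Finset.range n).filter fun j => col j = i).card

/-- admissible families of colourings -/
def Ok {c c' : ℕ} (n : ℕ) (d : Fin c → ℕ) (d' : Fin c' → ℕ) (col : Fin c' → ℕ → Fin c) : Prop :=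
  (∀ a i, (cnt n (col a) i ≤ 8 ∧ dd (cnt n (col a) i) + d i ≤ d' a) ∨
    ∃ s < 9, (∀ j < bb n, j < n → cnt n (col a) (col a j) ≤ s) ∧ dd s + d i ≤ d' a) ∧
  ∀ a b, (∀ i, cnt n (col a) i = cnt n (col b) i) → a = b

instance {c c' : ℕ} (n : ℕ) (d : Fin c → ℕ) (d' : Fin c' → ℕ) (col : Fin c' → ℕ → Fin c) :
    Decidable (Ok n d d' col) := by unfold Ok; infer_instance

theorem Imprim.step_ok {G : Type u} {V : Type*} [Group G] [Finite G] [AddCommGroup V]
    [DistribMulAction G V] (I : Imprim G V) (hG : Group.IsSolvable G) (hirr : Irr G V) {c c' : ℕ}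
    {d : Fin c → ℕ} {d' : Fin c' → ℕ} (hst : letI := subAct I.e.range I.inv; St I.H I.e.range d)
    {col : Fin c' → ℕ → Fin c} (h : Ok I.H.index d d' col) : St G V d' := by
  haveI := Fintype.ofFinite (G ⧸ I.H)
  obtain ⟨e, he⟩ := exists_order hG I.coatom
  have hc : ∀ a i, {ω | col a (e ω) = i}.ncard = cnt I.H.index (col a) i := by
    intro a i
    rw [cnt, ← Set.ncard_coe_finset,
      ← Set.ncard_image_of_injective _ (Fin.val_injective.comp e.injective)]
    congr 1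
    ext j
    simp only [Set.mem_image, Set.mem_ofPred_eq, Function.comp, Finset.coe_filter, Finset.mem_range]
    exact ⟨by rintro ⟨ω, h, rfl⟩; exact ⟨(e ω).2, h⟩,
      fun ⟨h1, h2⟩ => ⟨e.symm ⟨j, h1⟩, by simpa using h2, by simp⟩⟩
  refine I.step hirr hst (fun a ω => col a (e ω)) (fun a L hL ω => ?_) (fun a b g hg => ?_)
  · have key : ∀ (ω : G ⧸ I.H) s, s ≤ 8 → cnt I.H.index (col a) (col a (e ω)) ≤ s →
        ∀ g ∈ ds L (dd s), g • ω = ω := fun ω s h8 hs g hg =>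
      ds_fix hG L (Set.toFinite _) ((hc a _).trans_le hs) h8 (fun g hg => hL g hg ω) hg
    rcases h.1 a (col a (e ω)) with ⟨h1, h2⟩ | ⟨s, h1, h2, h3⟩
    · exact ⟨_, h2, key ω _ h1 le_rfl⟩
    · exact ⟨_, h3, fun g hg => he g (fun ω' h4 =>
        key ω' s (by omega) (h2 _ h4 (e ω').2) g hg) ω⟩
  · refine h.2 a b fun i => ?_
    rw [← hc, ← hc, ← Set.ncard_image_of_injective _ (MulAction.injective g)]
    congr 1
    ext ω
    simp only [Set.mem_image, Set.mem_ofPred_eq]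
    exact ⟨by rintro ⟨ω, h, rfl⟩; rw [hg, h],
      fun h => ⟨g⁻¹ • ω, by rw [← hg, smul_inv_smul, h], by simp⟩⟩

/-- colouring from a list and a default colour -/
def lc {c c' : ℕ} (F : Fin c' → List (Fin c) × Fin c) (a : Fin c') (j : ℕ) : Fin c :=
  (F a).1.getD j (F a).2

theorem ok_large {c c' : ℕ} {d : Fin c → ℕ} {d' : Fin c' → ℕ} (F : Fin c' → List (Fin c) × Fin c)
    (h : (∀ a, (F a).1.length ≤ 8) ∧
      (∀ a i, (i ≠ (F a).2 ∧ cnt 8 (lc F a) i ≤ 8 ∧ dd (cnt 8 (lc F a) i) + d i ≤ d' a) ∨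
        ∃ s < 9, (∀ j < 4, lc F a j ≠ (F a).2 ∧ cnt 8 (lc F a) (lc F a j) ≤ s) ∧
          dd s + d i ≤ d' a) ∧
      ∀ a b, a = b ∨ ∃ i, (i ≠ (F b).2 ∧ cnt 8 (lc F b) i < cnt 8 (lc F a) i) ∨
        (i ≠ (F a).2 ∧ cnt 8 (lc F a) i < cnt 8 (lc F b) i)) {n : ℕ} (hn : 8 ≤ n) :
    Ok n d d' (lc F) := by
  obtain ⟨h0, h1, h2⟩ := h
  have k1 : ∀ a i, cnt 8 (lc F a) i ≤ cnt n (lc F a) i := fun a i =>
    Finset.card_le_card (Finset.filter_subset_filter _ (Finset.range_subset_range.2 hn))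
  have k2 : ∀ a i, i ≠ (F a).2 → cnt n (lc F a) i = cnt 8 (lc F a) i := by
    intro a i hi
    refine le_antisymm (Finset.card_le_card fun j hj => ?_) (k1 a i)
    simp only [Finset.mem_filter, Finset.mem_range] at hj ⊢
    refine ⟨?_, hj.2⟩
    by_contra h8
    have := h0 a
    exact hi (hj.2.symm.trans (List.getD_eq_default _ _ (by omega)))
  have hb : bb n = 4 := if_neg (by omega)
  refine ⟨fun a i => ?_, fun a b hab => (h2 a b).resolve_right ?_⟩
  · rcases h1 a i with ⟨e1, e2, e3⟩ | ⟨s, e1, e2, e3⟩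
    · rw [k2 a i e1]
      exact Or.inl ⟨e2, e3⟩
    · refine Or.inr ⟨s, e1, fun j hj _ => ?_, e3⟩
      rw [hb] at hj
      rw [k2 _ _ (e2 j hj).1]
      exact (e2 j hj).2
  · rintro ⟨i, ⟨e1, e2⟩ | ⟨e1, e2⟩⟩
    · have := hab i
      have := k1 a i
      have := k2 b i e1
      omega
    · have := hab i
      have := k1 b i
      have := k2 a i e1
      omega

/-- the three states -/
def St9 (G V : Type*) [Group G] [AddCommGroup V] [DistribMulAction G V] : Prop :=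
  St G V ![5, 5] ∨ St G V ![7, 7, 8] ∨ St G V ![9, 9, 9, 9, 9]

theorem Imprim.st9 {G : Type u} {V : Type*} [Group G] [Finite G] [AddCommGroup V]
    [DistribMulAction G V] (I : Imprim G V) (hG : Group.IsSolvable G) (hirr : Irr G V)
    (hst : letI := subAct I.e.range I.inv; St9 I.H I.e.range) : St9 G V := by
  have h1 : 1 < I.H.index := Subgroup.one_lt_index_of_ne_top I.coatom.1
  have key : ∀ {c : ℕ} {d : Fin c → ℕ}, (letI := subAct I.e.range I.inv; St I.H I.e.range d) →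
      ((∃ col, Ok I.H.index d ![7, 7, 8] col) ∨ ∃ col, Ok I.H.index d ![9, 9, 9, 9, 9] col) →
      St9 G V := by
    rintro c d h (⟨col, hc⟩ | ⟨col, hc⟩)
    · exact Or.inr (Or.inl (I.step_ok hG hirr h hc))
    · exact Or.inr (Or.inr (I.step_ok hG hirr h hc))
  rcases hst with h | h | h <;> refine key h ?_ <;> generalize I.H.index = n at h1 ⊢ <;>
    rcases le_or_gt 8 n with h8 | h8
  · exact Or.inr ⟨_, ok_large ![([0, 0, 0, 0], 1), ([0, 0, 0, 0, 0], 1), ([0, 0, 0, 0, 0, 0], 1),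
      ([0, 0, 0, 0, 0, 0, 0], 1), ([0, 0, 0, 0, 0, 0, 0, 0], 1)] (by decide +kernel) h8⟩
  · by_cases h4 : n < 4
    · refine Or.inl ⟨lc ![([0], 1), ([], 0), ([], 1)], ?_⟩
      interval_cases n <;> decide +kernel
    · refine Or.inr ⟨lc ![([], 1), ([0], 1), ([0, 0], 1), ([0, 0, 0], 1), ([0, 0, 0, 0], 1)], ?_⟩
      interval_cases n <;> decide +kernel
  · exact Or.inr ⟨_, ok_large ![([1, 1, 2, 2], 0), ([1, 1, 1, 2], 0), ([1, 1, 1, 2, 2], 0),
      ([0, 0, 2, 2], 1), ([0, 0, 0, 2], 1)] (by decide +kernel) h8⟩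
  · right
    by_cases h4 : n < 5
    · refine ⟨lc ![([1], 0), ([2], 0), ([2], 1), ([2, 2], 0), ([1, 1], 0)], ?_⟩
      interval_cases n <;> decide +kernel
    · refine ⟨lc ![([1, 1, 1], 0), ([1, 1, 2], 0), ([1, 2, 2], 0), ([1, 1, 1, 2], 0),
        ([1, 1, 2, 2], 0)], ?_⟩
      interval_cases n <;> decide +kernel
  · exact Or.inr ⟨_, ok_large ![([1, 2, 3, 4], 0), ([0, 2, 3, 4], 1), ([0, 1, 3, 4], 2),
      ([0, 1, 2, 4], 3), ([0, 1, 2, 3], 4)] (by decide +kernel) h8⟩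
  · right
    by_cases h4 : n = 5
    · exact ⟨lc ![([1, 2, 3], 0), ([0, 2, 3], 1), ([0, 1, 3], 2), ([0, 1, 2], 3), ([0, 1, 2], 4)],
        by subst h4; decide +kernel⟩
    · refine ⟨lc ![([1, 2, 3, 4], 0), ([2, 3, 4, 0], 1), ([3, 4, 0, 1], 2), ([4, 0, 1, 2], 3),
        ([0, 1, 2, 3], 4)], ?_⟩
      interval_cases n <;> first | exact absurd rfl h4 | decide +kernel

end Cfsg.Agent.SolvLin
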