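import Cfsg.Agent.SolvLin.DL2

/-!
# Derived length of small completely reducible linear groups in characteristic two
-/

set_option autoImplicit false
set_option linter.style.haveILetI false

namespace Cfsg.Agent.SolvLin

open MulAction

universe u

theorem ds_fix_sub {G W : Type*} [Group G] [Finite G] (hG : Group.IsSolvable G) [AddCommGroup W]
    [Finite W] [DistribMulAction G W] (L : Subgroup G) (U : AddSubgroup W)
    (hU : ∀ g ∈ L, ∀ w ∈ U, g • w ∈ U) {n : ℕ} (hn : Nat.card U ≤ n + 1) (h8 : n ≤ 8) {g : G}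
    (hg : g ∈ ds L (dd n)) {w : W} (hw : w ∈ U) : g • w = w := by
  by_cases h0 : w = 0
  · rw [h0, smul_zero]
  refine ds_fix hG L (Y := (U : Set W) \ {0}) (Set.toFinite _) ?_ h8
    (fun g hg => ⟨hU g hg w hw, act_ne_zero g h0⟩) hg
  rw [Set.ncard_sdiff_singleton_of_mem U.zero_mem]
  have : (U : Set W).ncard = Nat.card U := rfl
  omega

theorem prime_dvd_units {K V Γ M : Type*} [Field K] [AddCommGroup V] [Module K V] [Group Γ]
    [DistribMulAction Γ V] [Group M] [DistribMulAction M V] [Finite M] (H : Heis K V Γ M)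
    (D : Subgroup M) {r : ℕ} (hr : r.Prime) (h : r ∣ (H.perp D).index) : r ∣ Nat.card Kˣ := by
  haveI := Fact.mk hr
  obtain ⟨y, hy⟩ := exists_prime_orderOf_dvd_card' (G := M ⧸ H.perp D) r h
  rw [← hy, orderOf_dvd_iff_pow_eq_one, ← y.out_eq]
  exact (QuotientGroup.eq_one_iff _).2 (H.Z_le_perp D (H.pow_card_mem _))

/-- the bound -/
def δ (n : ℕ) : ℕ := if n < 16 then 2 else if n < 64 then 3 else if n < 4096 then 6 else 7

theorem δ_mono {a b : ℕ} (h : a ≤ b) : δ a ≤ δ b := by
  unfold δ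
  split_ifs <;> omega

theorem δ_step {a b n : ℕ} (hb : 1 < b) (h8 : b ≤ 8) (ha : 4 ≤ a) (h18 : n < 2 ^ 18)
    (h4 : ∀ c, c ≤ a → c ^ b ≤ n) : dd b + δ a ≤ δ n := by
  have a1 := h4 4 ha
  have a2 := h4 16
  have a3 := h4 64
  have a4 := h4 4096
  clear h4
  have e1 : δ a = 2 ∧ a < 16 ∨ δ a = 3 ∧ 16 ≤ a ∨ δ a = 6 ∧ 64 ≤ a ∨ δ a = 7 ∧ 4096 ≤ a := by
    unfold δ
    split_ifs <;> omega
  have e2 : δ n = 2 ∧ n < 16 ∨ δ n = 3 ∧ n < 64 ∨ δ n = 6 ∧ n < 4096 ∨ δ n = 7 := by
    unfold δ
    split_ifs <;> omega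
  generalize δ a = x at *
  generalize δ n = y at *
  interval_cases b <;> norm_num [dd] at a1 a2 a3 a4 h18 ⊢ <;> omega

theorem dl_two_aux (n : ℕ) : ∀ (G V : Type u) [Group G] [Finite G] [AddCommGroup V] [Finite V]
    [DistribMulAction G V], Nat.card V = n → n < 2 ^ 18 → Group.IsSolvable G →
      (∀ v : V, 2 • v = 0) → Irr G V → ds ⊤ (δ n) ≤ trv G V := by
  induction n using Nat.strong_induction_on with | _ n ih => ?_
  intro G V _ _ _ _ _ hn h18 hG h2 hirr
  rcases imprim_or_setup hG hirr with ⟨⟨I⟩⟩ | ⟨K, _, _, _, Γ, _, _, _, S, f, hf, -⟩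
  · letI := subAct I.e.range I.inv
    haveI := Fintype.ofFinite (G ⧸ I.H)
    have h1 := ih _ (hn ▸ I.card_range_lt) I.H I.e.range rfl ((hn ▸ I.card_range_lt).trans h18)
      inferInstance (fun v => Subtype.ext (h2 v)) (I.irr hirr)
    have hb : 1 < I.H.index := Subgroup.one_lt_index_of_ne_top I.coatom.1
    have ha : 4 ≤ Nat.card I.e.range := by
      obtain ⟨v, hv, hv0⟩ := I.exists_ne_zero
      have h3 := addOrderOf_dvd_natCard (⟨v, hv⟩ : I.e.range)
      rw [addOrderOf_eq_prime (p := 2) (Subtype.ext (h2 v))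
        (fun h => hv0 (congrArg Subtype.val h))] at h3
      have := I.card_ne_two hirr
      have : 0 < Nat.card I.e.range := Nat.card_pos
      omega
    have h3 := I.card_pow_le.trans_eq hn
    have h4 : ∀ c, c ≤ Nat.card I.e.range → c ^ I.H.index ≤ n :=
      fun c hc => (Nat.pow_le_pow_left hc _).trans h3
    have h8 : I.H.index ≤ 8 := by
      by_contra h
      have := (Nat.pow_le_pow_right (by decide) (not_le.1 h)).trans (h4 4 ha)
      omega
    have h5 : Sm G (I.vec 0) (δ n) := by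
      refine I.sm_vec hirr 0 fun ω => ⟨dd I.H.index, δ (Nat.card I.e.range), ?_,
        fun g hg => mem_trv.1 (h1 (ds_mono le_top _ hg)), fun g hg =>
          ds_fix hG _ Set.finite_univ (by rw [Set.ncard_univ]; rfl) h8 (fun _ _ => trivial) hg⟩
      exact δ_step hb h8 ha h18 h4
    intro g hg
    refine mem_trv.2 (h5 g (ds_mono (fun g _ => ?_) _ hg))
    simp [Imprim.vec]
  · obtain ⟨M, H, -⟩ := S.exists_heis
    haveI := H.nontriv
    obtain ⟨v, hv⟩ := exists_isMaxV (M := M) (V := V)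
    haveI := Fintype.ofFinite K
    obtain ⟨p, hp, k, hp', hk⟩ := FiniteField.card' K
    have hp2 : p = 2 := by
      have h3 : ((2 : ℕ) : K) = 0 := by
        refine smul_cancel hv.1 ?_
        rw [Nat.cast_smul_eq_nsmul, h2, zero_smul]
      exact (Nat.prime_dvd_prime_iff_eq hp' Nat.prime_two).1 ((CharP.cast_eq_zero_iff K p 2).1 h3)
    rw [hp2, ← Nat.card_eq_fintype_card] at hk
    have hodd : Odd (Nat.card Kˣ) := by
      rw [Nat.card_units, hk]
      exact Nat.Even.sub_odd Nat.one_le_two_pow (Nat.even_pow.2 ⟨even_two, k.ne_zero⟩) odd_one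
    have h1 := H.card_W hv.1
    rw [Subgroup.relIndex_eq_one.2 fun x hx => H.mem_sup_of_odd hv hx hodd (H.pow_card_mem x),
      one_mul] at h1
    have h3 := (H.card_V hv.1).trans_eq hn
    have h4 := fun r => prime_dvd_units H (stabilizer M v) (r := r)
    have h0 : (H.perp (stabilizer M v)).index ≠ 0 := Subgroup.FiniteIndex.index_ne_zero
    suffices key : ∃ t, t ≤ δ n ∧ ds ⊤ t ≤ trv Γ V by
      obtain ⟨t, ht, h⟩ := key
      intro g hg
      refine mem_trv.2 fun w => ?_
      rw [← hf]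
      exact mem_trv.1 (h (ds_hom f (fun _ _ => Subgroup.mem_top _) (ds_anti _ ht hg))) w
    generalize (H.perp (stabilizer M v)).index = x at *
    by_cases hx : x = 1
    · refine ⟨2, δ_mono (Nat.zero_le n), H.top_trv' fun y => H.wm_eq_zero.1 ?_⟩
      haveI : Subsingleton H.W := Finite.card_le_one_iff_subsingleton.1 (by simpa [hx] using h1)
      exact Subsingleton.elim _ _
    have h5 : ¬ 2 ∣ x := fun h => (Nat.not_even_iff_odd.2 hodd) (even_iff_two_dvd.2 (h4 2 Nat.prime_two h))
    rw [Nat.card_units] at h4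
    have hq : 4 ≤ Nat.card K := by
      have a1 := h4 _ (Nat.minFac_prime hx) (Nat.minFac_dvd x)
      have a2 : 1 < Nat.card K := Finite.one_lt_card
      have a3 := Nat.le_of_dvd (by omega) a1
      have a4 := (Nat.minFac_prime hx).two_le
      have a5 : x.minFac ≠ 2 := fun h => h5 (h ▸ Nat.minFac_dvd x)
      omega
    have h6 : ∀ c, c ≤ Nat.card K → c ^ x ≤ n := fun c hc => (Nat.pow_le_pow_left hc _).trans h3
    have h8 : x ≤ 8 := by
      by_contra h
      have := (Nat.pow_le_pow_right (by decide) (not_le.1 h)).trans (h6 4 hq)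
      omega
    have hx3 : x = 3 := by
      have a5 : x ≠ 5 := by
        rintro rfl
        have a1 := h4 5 Nat.prime_five dvd_rfl
        have a2 := h6 16
        have : (k : ℕ) < 4 := by
          by_contra h
          have := Nat.pow_le_pow_right (n := 2) (by decide) (not_lt.1 h)
          omega
        generalize (k : ℕ) = j at *
        interval_cases j <;> omega
      have a7 : x ≠ 7 := by
        rintro rfl
        have a1 := Nat.le_of_dvd (by omega) (h4 7 (by norm_num) dvd_rfl)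
        have a2 := h6 8
        omega
      omega
    subst hx3
    refine ⟨4 + 2, le_trans (by decide) (δ_mono (h6 4 hq)), H.top_trv (by decide) fun g hg w =>
      ds_fix_sub S.solv ⊤ ⊤ (fun _ _ _ _ => trivial) (n := 8) (by simpa using h1) le_rfl hg trivial⟩

theorem dl_two {G V : Type u} [Group G] [Finite G] [AddCommGroup V] [Finite V]
    [DistribMulAction G V] (hG : Group.IsSolvable G) (hcr : CR G V) (U : AddSubgroup V)
    (hU : Inv G U) (h2 : ∀ u ∈ U, 2 • u = 0) {n : ℕ} (hn : Nat.card U ≤ n) (h18 : n < 2 ^ 18) :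
    ∀ g ∈ ds (⊤ : Subgroup G) (δ n), ∀ u ∈ U, g • u = u := by
  obtain ⟨-, -, h⟩ := cr_red hcr (fun _ => ⊤) (fun _ _ _ _ _ _ _ _ _ => by simp) (δ n) U hU
    (fun U1 hU1 hle hirr => by
      letI := subAct U1 hU1
      have h1 := (AddSubgroup.card_le_of_le hle).trans hn
      exact ⟨0, zero_mem _, fun g hg u hu => congrArg Subtype.val (mem_trv.1
        (dl_two_aux _ G U1 rfl (h1.trans_lt h18) hG (fun v => Subtype.ext (h2 v (hle v.2))) hirr
          (ds_anti _ (δ_mono h1) hg)) ⟨u, hu⟩)⟩)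
  exact h

end Cfsg.Agent.SolvLin
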