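import Cfsg.Agent.SolvLin.Design0

/-!
# Designs on abelian groups of squarefree exponent
-/

set_option autoImplicit false
set_option linter.style.haveILetI false

namespace Cfsg.Agent.SolvLin

theorem PD.transport {C : Type*} [CommGroup C] {Y Y' : Type*} [AddCommGroup Y] [AddCommGroup Y']
    {r : ℕ} {c : Y → Fin 4} (h : PD C r c) (e : Y' ≃+ Y) : PD C r (fun x => c (e x)) := by
  have hcard : Nat.card Y' = Nat.card Y := Nat.card_congr e.toEquiv
  refine ⟨by simpa using h.zero, fun x hx => hcard ▸ h.two _ hx, fun x hx => hcard ▸ h.three _ hx,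
    fun τ hτ x => ?_, fun hr τ hτ x => ?_, ?_, fun a β b1 b2 ha h1 x y => ?_⟩
  · have := h.rigid ((e.symm.trans τ).trans e) (fun y => by simpa using hτ (e.symm y)) (e x)
    simpa using this
  · have := h.rigid_odd hr ((e.symm.trans τ).trans e) (fun y => by simpa using hτ (e.symm y)) (e x)
    simpa using this
  · have : {x | c (e x) = 1 ∨ c (e x) = 2} = e.symm '' {x | c x = 1 ∨ c x = 2} := by
      ext x
      exact ⟨fun h => ⟨e x, h, e.symm_apply_apply x⟩, by
        rintro ⟨y, hy, rfl⟩
        simpa using hy⟩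
    rw [this]
    have h2 := AddMonoidHom.map_closure e.symm.toAddMonoidHom {x | c x = 1 ∨ c x = 2}
    rw [h.gen, AddSubgroup.map_top_of_surjective _ e.symm.surjective] at h2
    exact h2.symm
  · have := h.quad (fun x => a (e.symm x)) (fun x y => β (e.symm x) (e.symm y))
      (by simp [b1]) (by simp [b2]) (by simp [ha]) (fun x hx => h1 _ (by simpa using hx)) (e x) (e y)
    simpa using this

theorem quad_of_gen {C X : Type*} [CommGroup C] [CommGroup X] {T : Set X}
    (hT : Subgroup.closure T = ⊤) {a : X → C} (ha : ∀ x y, a (x * y) = a x * a y)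
    (h : ∀ x ∈ T, a x = 1) (x : X) : a x = 1 :=
  DFunLike.congr_fun (MonoidHom.eq_of_eqOn_dense hT (f := MonoidHom.mk' a ha) (g := 1) h) x

theorem exists_pd (C : Type*) [CommGroup C] {Y : Type*} [AddCommGroup Y] [Finite Y] {r : ℕ}
    [Fact r.Prime] [Module (ZMod r) Y] : ∃ c : Y → Fin 4, PD C r c := by
  obtain ⟨c, hc⟩ : ∃ c : (Fin (Module.finrank (ZMod r) Y) → ZMod r) → Fin 4, PD C r c := by
    by_cases h2 : r = 2
    · subst h2
      exact pd_two C
    · exact pd_odd C h2
  exact ⟨_, hc.transport (Module.finBasis (ZMod r) Y).equivFun.toAddEquiv⟩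

theorem exists_design_prime (C : Type*) [CommGroup C] {Y : Type*} [CommGroup Y] [Finite Y] {r : ℕ}
    (hr : r.Prime) (hY : ∀ y : Y, y ^ r = 1) : ∃ c : Y → Fin 4, IsDesign C c := by
  haveI : Fact r.Prime := ⟨hr⟩
  letI : Module (ZMod r) (Additive Y) := AddCommGroup.zmodModule (fun y => hY y.toMul)
  obtain ⟨c, h⟩ := exists_pd C (Y := Additive Y) (r := r)
  have ho : ∀ x : Y, c (Additive.ofMul x) ≠ 0 → orderOf x = r := fun x hx =>
    orderOf_eq_prime (hY x) (by
      rintro rfl
      exact hx h.zero)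
  have hgen : Subgroup.closure {x : Y | c (Additive.ofMul x) = 1 ∨ c (Additive.ofMul x) = 2} = ⊤ := by
    rw [eq_top_iff]
    intro x _
    have hx : Additive.ofMul x ∈ AddSubgroup.closure {x | c x = 1 ∨ c x = 2} :=
      h.gen ▸ AddSubgroup.mem_top _
    refine (AddSubgroup.closure_le (Subgroup.toAddSubgroup (Subgroup.closure
      {x : Y | c (Additive.ofMul x) = 1 ∨ c (Additive.ofMul x) = 2}))).2 ?_ hx
    intro y hy
    exact Subgroup.subset_closure (k := {x : Y | c (Additive.ofMul x) = 1 ∨ c (Additive.ofMul x) = 2})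
      (a := y.toMul) hy
  refine ⟨fun x => c (Additive.ofMul x), fun x hx => (ho x hx).symm ▸ hr, fun x hx => ?_,
    fun x hx => ?_, fun τ hτ x => h.rigid (MulEquiv.toAdditive τ) hτ x, fun hodd τ hτ x => ?_,
    hgen, fun a β ha h1 => ?_⟩
  · rw [ho x (by rw [hx]; decide)]
    exact h.two _ hx
  · rw [ho x (by rw [hx]; decide)]
    exact h.three _ hx
  · by_cases h2 : r = 2
    · have : ∀ y : Y, y = 1 := fun y => by
        have := pow_gcd_eq_one.2 ⟨hY y, pow_card_eq_one'⟩
        rwa [h2, Nat.coprime_two_left.2 hodd, pow_one] at this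
      rw [this (τ (τ x)), this x]
    · exact h.rigid_odd h2 (MulEquiv.toAdditive τ) hτ x
  · have h2 := h.quad (fun x => a x.toMul) (fun x y => β x.toMul y.toMul) (by simp) (by simp)
      (fun x y => ha _ _) (fun x hx => h1 _ hx)
    have h3 : ∀ x y, β x y = 1 := fun x y => h2 x y
    refine ⟨h3, quad_of_gen hgen (fun x y => by rw [ha, h3, mul_one]) fun x hx => h1 x ?_⟩
    rcases hx with hx | hx <;> rw [hx] <;> decide

theorem mem_of_prime_order {X : Type*} [CommGroup X] {e : ℕ} (he : Squarefree e)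
    (hX : ∀ x : X, x ^ e = 1) {P : Subgroup X} (hP : ∀ x, (orderOf x).Prime → x ∈ P) (x : X) :
    x ∈ P := by
  suffices h : ∀ (k : ℕ) (x : X), orderOf x = k → x ∈ P from h _ x rfl
  intro k
  induction k using Nat.strong_induction_on with | _ k ih => ?_
  intro x hx
  have hsq : Squarefree k := he.squarefree_of_dvd (hx ▸ orderOf_dvd_of_pow_eq_one (hX x))
  by_cases h1 : k = 1
  · rw [orderOf_eq_one_iff.1 (hx.trans h1)]
    exact one_mem _
  obtain ⟨r, hr, k', rfl⟩ := Nat.exists_prime_and_dvd h1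
  have hk' : k' ≠ 0 := by
    rintro rfl
    simp at hsq
  have a1 : x ^ k' ∈ P := hP _ (by
    rw [orderOf_pow_of_dvd hk' (hx ▸ Dvd.intro_left r rfl), hx,
      Nat.mul_div_cancel _ (Nat.pos_of_ne_zero hk')]
    exact hr)
  have a2 : x ^ r ∈ P := ih k' (by nlinarith [hr.two_le, Nat.pos_of_ne_zero hk']) _ (by
    rw [orderOf_pow_of_dvd hr.ne_zero (hx ▸ Dvd.intro k' rfl), hx,
      Nat.mul_div_cancel_left _ hr.pos])
  have hcop : Nat.gcd r k' = 1 := Nat.coprime_of_squarefree_mul hsq
  have h2 := Nat.gcd_eq_gcd_ab r k'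
  rw [hcop, Nat.cast_one] at h2
  rw [← zpow_one x, h2, zpow_add, zpow_mul, zpow_mul, zpow_natCast, zpow_natCast]
  exact mul_mem (zpow_mem a2 _) (zpow_mem a1 _)

theorem exists_design (C : Type*) [CommGroup C] {X : Type*} [CommGroup X] [Finite X] {e : ℕ}
    (he : Squarefree e) (hX : ∀ x : X, x ^ e = 1) : ∃ c : X → Fin 4, IsDesign C c := by
  classical
  let T : ℕ → Subgroup X := fun r => (powMonoidHom r : X →* X).ker
  have hT : ∀ r x, x ∈ T r ↔ x ^ r = 1 := fun _ _ => Iff.rfl
  have h1 : ∀ r : ℕ, ∃ c : T r → Fin 4, r.Prime → IsDesign C c := by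
    intro r
    by_cases hr : r.Prime
    · obtain ⟨c, hc⟩ := exists_design_prime C (Y := T r) hr (fun y => Subtype.ext y.2)
      exact ⟨c, fun _ => hc⟩
    · exact ⟨fun _ => 0, fun h => absurd h hr⟩
  choose cr hcr using h1
  let c' : ℕ → X → Fin 4 := fun r x => if h : x ∈ T r then cr r ⟨x, h⟩ else 0
  let c : X → Fin 4 := fun x => if (orderOf x).Prime then c' (orderOf x) x else 0
  have hc : ∀ r, r.Prime → ∀ x : T r, c x = cr r x := by
    intro r hr x
    by_cases hx : x = 1
    · subst hx
      have : cr r 1 = 0 := by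
        by_contra h
        have := (hcr r hr).prime 1 h
        rw [orderOf_one] at this
        exact Nat.not_prime_one this
      simp [c, this, Nat.not_prime_one]
    · haveI := Fact.mk hr
      have ho : orderOf (x : X) = r := orderOf_eq_prime x.2 (fun h => hx (Subtype.ext h))
      have h2 : c x = c' r x := by simp only [c, ho, hr, if_true]
      rw [h2]
      exact dif_pos x.2
  have hprime : ∀ x, c x ≠ 0 → (orderOf x).Prime := by
    intro x hx
    by_contra h
    simp [c, h] at hx
  let res : ∀ (τ : X ≃* X) (r : ℕ), T r ≃* T r := fun τ r =>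
    { toFun := fun y => ⟨τ y, by rw [hT, ← map_pow, (hT _ _).1 y.2, map_one]⟩
      invFun := fun y => ⟨τ.symm y, by rw [hT, ← map_pow, (hT _ _).1 y.2, map_one]⟩
      left_inv := fun y => by simp
      right_inv := fun y => by simp
      map_mul' := fun y z => by simp }
  have hres : ∀ τ r (y : T r), (res τ r y : X) = τ y := fun _ _ _ => rfl
  have hgen : Subgroup.closure {x | c x = 1 ∨ c x = 2} = ⊤ := by
    rw [eq_top_iff]
    intro x _
    refine mem_of_prime_order he hX (fun y hy => ?_) x
    have h2 : (⊤ : Subgroup (T (orderOf y))) ≤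
        (Subgroup.closure {x | c x = 1 ∨ c x = 2}).comap (T (orderOf y)).subtype := by
      rw [← (hcr _ hy).gen, Subgroup.closure_le]
      intro z hz
      apply Subgroup.subset_closure
      simpa [hc _ hy] using hz
    exact h2 (Subgroup.mem_top ⟨y, pow_orderOf_eq_one y⟩)
  refine ⟨c, hprime, fun x hx => ?_, fun x hx => ?_, fun τ hτ => ?_, fun hodd τ hτ => ?_, hgen,
    fun a β ha h1 => ?_⟩
  · have hp := hprime x (by rw [hx]; decide)
    have := (hcr _ hp).two ⟨x, pow_orderOf_eq_one x⟩ (by rw [← hc _ hp, hx])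
    rw [← Subgroup.orderOf_coe] at this
    exact ⟨this.1, this.2.trans_le (Subgroup.card_le_card_group _)⟩
  · have hp := hprime x (by rw [hx]; decide)
    have := (hcr _ hp).three ⟨x, pow_orderOf_eq_one x⟩ (by rw [← hc _ hp, hx])
    rw [← Subgroup.orderOf_coe] at this
    exact ⟨this.1, this.2.trans_le (Subgroup.card_le_card_group _)⟩
  · refine mem_of_prime_order he hX (P := τ.toMonoidHom.eqLocus (MonoidHom.id X)) (fun y hy => ?_)
    have := (hcr _ hy).rigid (res τ _) (fun z => by rw [← hc _ hy, ← hc _ hy, hres, hτ])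
      ⟨y, pow_orderOf_eq_one y⟩
    exact congrArg Subtype.val this
  · refine mem_of_prime_order he hX (P := (τ.trans τ).toMonoidHom.eqLocus (MonoidHom.id X))
      (fun y hy => ?_)
    have := (hcr _ hy).rigid_odd (hodd.of_dvd_nat (Subgroup.card_subgroup_dvd_card _)) (res τ _)
      (fun z => by rw [← hc _ hy, ← hc _ hy, hres, hτ]) ⟨y, pow_orderOf_eq_one y⟩
    exact congrArg Subtype.val this
  · have h2 : ∀ x y, β x y = 1 := by
      intro x y
      refine mem_of_prime_order he hX (P := (β x).ker) (fun y hy => ?_) y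
      refine mem_of_prime_order he hX (P := (β.flip y).ker) (fun x hx => ?_) x
      change β x y = 1
      by_cases hxy : orderOf x = orderOf y
      · exact ((hcr _ hy).quad (fun z => a z)
          ((β.comp (T (orderOf y)).subtype).compl₂ (T (orderOf y)).subtype)
          (fun z w => ha z w) (fun z hz => h1 z (by rwa [hc _ hy]))).1
          ⟨x, hxy ▸ pow_orderOf_eq_one x⟩ ⟨y, pow_orderOf_eq_one y⟩
      · have a1 : β x y ^ orderOf x = 1 := by
          rw [← MonoidHom.pow_apply, ← map_pow, pow_orderOf_eq_one, map_one, MonoidHom.one_apply]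
        have a2 : β x y ^ orderOf y = 1 := by
          rw [← map_pow, pow_orderOf_eq_one, map_one]
        have := pow_gcd_eq_one.2 ⟨a1, a2⟩
        rwa [(Nat.coprime_primes hx hy).2 hxy, pow_one] at this
    refine ⟨h2, quad_of_gen hgen (fun x y => by rw [ha, h2, mul_one]) fun x hx => h1 x ?_⟩
    rcases hx with hx | hx <;> rw [hx] <;> decide

end Cfsg.Agent.SolvLin
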