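import Cfsg.Agent.SolvLin.Defs

/-!
# Designs on `Fin n → ZMod r`
-/

set_option autoImplicit false
set_option linter.style.haveILetI false

namespace Cfsg.Agent.SolvLin

/-- additive form of a design on an elementary abelian `r`-group -/
structure PD (C : Type*) [CommGroup C] {Y : Type*} [AddCommGroup Y] (r : ℕ) (c : Y → Fin 4) :
    Prop where
  zero : c 0 = 0
  two : ∀ x, c x = 2 → (r = 2 ∨ r = 3) ∧ 2 < Nat.card Y
  three : ∀ x, c x = 3 → r = 2 ∧ 2 < Nat.card Y
  rigid : ∀ τ : Y ≃+ Y, (∀ x, c (τ x) = c x) → ∀ x, τ x = x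
  rigid_odd : r ≠ 2 → ∀ τ : Y ≃+ Y, (∀ x, c (τ x) = 0 ↔ c x = 0) → ∀ x, τ (τ x) = x
  gen : AddSubgroup.closure {x | c x = 1 ∨ c x = 2} = ⊤
  quad : ∀ (a : Y → C) (β : Y → Y → C), (∀ x x' y, β (x + x') y = β x y * β x' y) →
    (∀ x y y', β x (y + y') = β x y * β x y') →
    (∀ x y, a (x + y) = a x * a y * β x y) → (∀ x, c x ≠ 0 → a x = 1) → ∀ x y, β x y = 1

section general
variable {C : Type*} [CommGroup C] {Y : Type*} [AddCommGroup Y]

theorem bi_zero_right {β : Y → Y → C} (h : ∀ x y y', β x (y + y') = β x y * β x y') (x : Y) :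
    β x 0 = 1 := by
  have := h x 0 0
  rw [add_zero] at this
  exact mul_eq_left.1 this.symm

theorem bi_neg_right {β : Y → Y → C} (h : ∀ x y y', β x (y + y') = β x y * β x y') (x y : Y) :
    β x (-y) = (β x y)⁻¹ := by
  have := h x y (-y)
  rw [add_neg_cancel, bi_zero_right h] at this
  exact eq_inv_of_mul_eq_one_right this.symm

theorem bi_eq_one {β : Y → Y → C} (h1 : ∀ x x' y, β (x + x') y = β x y * β x' y)
    (h2 : ∀ x y y', β x (y + y') = β x y * β x y') {T : Set Y} (hT : AddSubgroup.closure T = ⊤)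
    (h : ∀ x ∈ T, ∀ y ∈ T, β x y = 1) (x y : Y) : β x y = 1 := by
  have key : ∀ (γ : Y → Y → C), (∀ x y y', γ x (y + y') = γ x y * γ x y') →
      ∀ x, (∀ y ∈ T, γ x y = 1) → ∀ y, γ x y = 1 := by
    intro γ hγ x hx y
    have hy : y ∈ AddSubgroup.closure T := hT ▸ AddSubgroup.mem_top y
    induction hy using AddSubgroup.closure_induction with
    | mem y hy => exact hx y hy
    | zero => exact bi_zero_right hγ x
    | add y z _ _ hy hz => rw [hγ, hy, hz, one_mul]
    | neg y _ hy => rw [bi_neg_right hγ, hy, inv_one]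
  exact key β h2 x (fun y hy => key (fun y x => β x y) (fun y x x' => h1 x x' y) y
    (fun x hx => h x hx y hy) x) y

theorem quad_zero {a : Y → C} {β : Y → Y → C} (h2 : ∀ x y y', β x (y + y') = β x y * β x y')
    (h : ∀ x y, a (x + y) = a x * a y * β x y) : a 0 = 1 := by
  have := h 0 0
  rw [add_zero, bi_zero_right h2, mul_one] at this
  exact mul_eq_left.1 this.symm

theorem quad_symm {a : Y → C} {β : Y → Y → C}
    (h : ∀ x y, a (x + y) = a x * a y * β x y) (x y : Y) : β x y = β y x := by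
  have := (h x y).symm.trans ((congrArg a (add_comm x y)).trans (h y x))
  rw [mul_comm (a y)] at this
  exact mul_left_cancel this

theorem eq_of_closure {T : Set Y} (hT : AddSubgroup.closure T = ⊤) (τ : Y ≃+ Y)
    (h : ∀ x ∈ T, τ x = x) (x : Y) : τ x = x :=
  DFunLike.congr_fun (AddMonoidHom.eq_of_eqOn_dense hT (f := τ.toAddMonoidHom)
    (g := AddMonoidHom.id Y) h) x

end general

section model
variable {n r : ℕ}

/-- standard basis vector -/
def ee (r : ℕ) {n : ℕ} (i : Fin n) : Fin n → ZMod r := fun m => if m = i then 1 else 0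

theorem closure_ee [NeZero r] : AddSubgroup.closure (Set.range (ee r (n := n))) = ⊤ := by
  rw [eq_top_iff]
  intro x _
  have : x = ∑ i, (x i).val • ee r i := by
    funext m
    simp only [Finset.sum_apply, Pi.smul_apply, ee]
    simp
  rw [this]
  exact sum_mem fun i _ => nsmul_mem (AddSubgroup.subset_closure (Set.mem_range_self i)) _

theorem ee_inj [Fact r.Prime] {i j : Fin n} (h : ee r i = ee r j) : i = j := by
  have := congrFun h i
  by_contra hij
  simp [ee, hij] at this

/-- the support in odd characteristic -/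
def SO (r : ℕ) {n : ℕ} (x : Fin n → ZMod r) : Prop :=
  (∃ i, x = ee r i) ∨ (∃ i, x = ee r i + ee r i) ∨ ∃ i j, i < j ∧ x = ee r i - ee r j

variable [Fact r.Prime]

theorem SO.lt (h2 : (2 : ZMod r) ≠ 0) {k l : Fin n} (hkl : k ≠ l) (h : SO r (ee r k - ee r l)) :
    k < l := by
  have h2' : (-1 : ZMod r) ≠ 1 := fun h => h2 (by linear_combination -h)
  rcases h with ⟨i, h⟩ | ⟨i, h⟩ | ⟨i, j, hij, h⟩
  · have := congrFun h l
    simp only [ee, Pi.sub_apply, hkl.symm, if_false, if_true, zero_sub] at this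
    split_ifs at this
    · exact absurd this h2'
    · simp at this
  · have := congrFun h k
    simp only [ee, Pi.sub_apply, Pi.add_apply, hkl, if_false, if_true, sub_zero] at this
    split_ifs at this <;> simp at this
  · have a1 := congrFun h k
    have a2 := congrFun h l
    simp only [ee, Pi.sub_apply, hkl, hkl.symm, if_false, if_true, sub_zero, zero_sub] at a1 a2
    have hk : k = i := by
      by_contra hk
      rw [if_neg hk] at a1
      split_ifs at a1
      · exact h2' (by linear_combination -a1)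
      · simp at a1
    subst hk
    have hl : l = j := by
      by_contra hl
      simp [hl, hkl.symm] at a2
    exact hl ▸ hij

theorem SO.rigid (h2 : (2 : ZMod r) ≠ 0) (τ : (Fin n → ZMod r) ≃+ (Fin n → ZMod r))
    (hS : ∀ x, SO r x → SO r (τ x)) (h : ∀ i, ∃ j, τ (ee r i) = ee r j) (x : Fin n → ZMod r) :
    τ x = x := by
  choose π hπ using h
  have hmono : StrictMono π := by
    intro i j hij
    refine SO.lt h2 (fun h => hij.ne (ee_inj (r := r) (τ.injective (by rw [hπ, hπ, h])))) ?_
    rw [← hπ, ← hπ, ← map_sub]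
    exact hS _ (Or.inr (Or.inr ⟨i, j, hij, rfl⟩))
  have hid : ∀ i, π i = i := fun i => le_antisymm hmono.apply_le hmono.le_apply
  refine eq_of_closure closure_ee τ ?_ x
  rintro _ ⟨i, rfl⟩
  rw [hπ, hid]

theorem SO.double (h2 : (2 : ZMod r) ≠ 0) (h3 : (3 : ZMod r) ≠ 0) {x : Fin n → ZMod r}
    (h : SO r x) (h' : SO r (x + x)) : ∃ i, x = ee r i := by
  have h4 : (4 : ZMod r) ≠ 0 := fun h => mul_ne_zero h2 h2 (by linear_combination h)
  rcases h with h | ⟨i, rfl⟩ | ⟨i, j, hij, rfl⟩
  · exact h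
  · exfalso
    rcases h' with ⟨k, h⟩ | ⟨k, h⟩ | ⟨k, l, hkl, h⟩
    · have := congrFun h i
      simp only [ee, Pi.add_apply, if_true] at this
      split_ifs at this
      · exact h3 (by linear_combination this)
      · exact h4 (by linear_combination this)
    · have := congrFun h i
      simp only [ee, Pi.add_apply, if_true] at this
      split_ifs at this
      · exact h2 (by linear_combination this)
      · exact h4 (by linear_combination this)
    · have := congrFun h k
      simp only [ee, Pi.add_apply, Pi.sub_apply, if_true, hkl.ne, if_false] at this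
      split_ifs at this
      · exact h3 (by linear_combination this)
      · simp at this
  · exfalso
    rcases h' with ⟨k, h⟩ | ⟨k, h⟩ | ⟨k, l, hkl, h⟩
    · have := congrFun h i
      simp only [ee, Pi.add_apply, Pi.sub_apply, if_true, hij.ne, if_false] at this
      split_ifs at this
      · exact one_ne_zero (α := ZMod r) (by linear_combination this)
      · exact h2 (by linear_combination this)
    · have := congrFun h j
      simp only [ee, Pi.add_apply, Pi.sub_apply, if_true, hij.ne', if_false] at this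
      split_ifs at this
      · exact h4 (by linear_combination -this)
      · exact h2 (by linear_combination -this)
    · have := congrFun h i
      simp only [ee, Pi.add_apply, Pi.sub_apply, if_true, hij.ne, if_false] at this
      split_ifs at this
      · exact h2 (by linear_combination this)
      · exact one_ne_zero (α := ZMod r) (by linear_combination this)
      · exact h3 (by linear_combination this)
      · exact h2 (by linear_combination this)

theorem SO.three {x : Fin n → ZMod 3} (h : SO 3 x) (h' : SO 3 (-x)) :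
    ∃ i, x = ee 3 i ∨ x = -ee 3 i := by
  rcases h with ⟨i, h⟩ | ⟨i, h⟩ | ⟨i, j, hij, rfl⟩
  · exact ⟨i, Or.inl h⟩
  · refine ⟨i, Or.inr (h.trans ?_)⟩
    funext m
    simp only [ee, Pi.add_apply, Pi.neg_apply]
    split_ifs <;> decide
  · rw [neg_sub] at h'
    exact absurd (SO.lt (by decide) hij.ne' h') hij.not_gt

theorem SO.three_add {k l : Fin n} (hkl : k ≠ l) :
    ¬ SO 3 (ee 3 k + ee 3 l) ∧ ¬ SO 3 (-(ee 3 k + ee 3 l)) := by
  constructor
  all_goals
    rintro (⟨i, h⟩ | ⟨i, h⟩ | ⟨i, j, hij, h⟩)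
    all_goals
      have a1 := congrFun h k
      have a2 := congrFun h l
      simp only [ee, Pi.add_apply, Pi.sub_apply, Pi.neg_apply, hkl, hkl.symm, if_true,
        if_false] at a1 a2
      split_ifs at a1 a2 <;> first | (revert a1 a2; decide) | (subst_vars; simp_all)

theorem SO.three_sq (τ : (Fin n → ZMod 3) ≃+ (Fin n → ZMod 3)) (hS : ∀ x, SO 3 x → SO 3 (τ x))
    (x : Fin n → ZMod 3) : τ (τ x) = x := by
  have h1 : ∀ i, ∃ j, τ (ee 3 i) = ee 3 j ∨ τ (ee 3 i) = -ee 3 j := by
    intro i
    refine SO.three (hS _ (Or.inl ⟨i, rfl⟩)) ?_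
    rw [← map_neg]
    refine hS _ (Or.inr (Or.inl ⟨i, ?_⟩))
    funext m
    simp only [ee, Pi.add_apply, Pi.neg_apply]
    split_ifs <;> rfl
  choose π hπ using h1
  have hne : ∀ i : Fin n, ee 3 i ≠ -ee 3 i := fun i h => by
    have := congrFun h i
    simp only [ee, Pi.neg_apply, if_true] at this
    exact absurd this (by decide)
  have h2 : ∀ i j, τ (ee 3 i) = ee 3 (π i) → τ (ee 3 j) = -ee 3 (π j) → False := by
    intro i j hi hj
    have hij : i ≠ j := by
      rintro rfl
      exact hne _ (hi.symm.trans hj)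
    have hπij : π i ≠ π j := by
      intro h
      have : ee 3 i = -ee 3 j := τ.injective (by rw [map_neg, hi, hj, h, neg_neg])
      have := congrFun this i
      simp [ee, hij] at this
    rcases lt_or_gt_of_ne hij with h | h
    · refine (SO.three_add hπij).1 ?_
      have := hS _ (Or.inr (Or.inr ⟨i, j, h, rfl⟩))
      rwa [map_sub, hi, hj, sub_neg_eq_add] at this
    · refine (SO.three_add hπij).2 ?_
      have := hS _ (Or.inr (Or.inr ⟨j, i, h, rfl⟩))
      rw [map_sub, hi, hj] at this
      convert this using 1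
      abel
  refine SO.rigid (by decide) (τ.trans τ) (fun x hx => hS _ (hS _ hx)) (fun i => ⟨π (π i), ?_⟩) x
  change τ (τ (ee 3 i)) = _
  rcases hπ i with a | a <;> rcases hπ (π i) with b | b
  · rw [a, b]
  · exact (h2 _ _ a b).elim
  · exact (h2 _ _ b a).elim
  · rw [a, map_neg, b, neg_neg]

theorem pd_odd (C : Type*) [CommGroup C] (hr : r ≠ 2) :
    ∃ c : (Fin n → ZMod r) → Fin 4, PD C r c := by
  classical
  have hp : r.Prime := Fact.out
  have h2 : (2 : ZMod r) ≠ 0 := by
    intro h
    have := (ZMod.natCast_eq_zero_iff 2 r).1 (by exact_mod_cast h)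
    exact hr ((Nat.prime_dvd_prime_iff_eq hp Nat.prime_two).1 this)
  have h3 : r ≠ 3 → (3 : ZMod r) ≠ 0 := by
    intro hr h
    have := (ZMod.natCast_eq_zero_iff 3 r).1 (by exact_mod_cast h)
    exact hr ((Nat.prime_dvd_prime_iff_eq hp Nat.prime_three).1 this)
  let c : (Fin n → ZMod r) → Fin 4 := fun x =>
    if (∃ i, x = ee r i) ∧ r = 3 then 2 else if SO r x then 1 else 0
  have hc0 : ∀ x, c x = 0 ↔ ¬ SO r x := by
    intro x
    simp only [c]
    split_ifs with h h'
    · simp [SO, h.1]
    · simp [h']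
    · simp [h']
  have hc2 : ∀ x, c x = 2 ↔ (∃ i, x = ee r i) ∧ r = 3 := by
    intro x
    simp only [c]
    split_ifs with h h' <;> simp [h]
  have hS : ∀ τ : (Fin n → ZMod r) ≃+ (Fin n → ZMod r), (∀ x, c (τ x) = 0 ↔ c x = 0) →
      ∀ x, SO r x → SO r (τ x) := by
    intro τ h x hx
    by_contra h1
    exact (hc0 x).1 ((h x).1 ((hc0 _).2 h1)) hx
  have hr5 : r ≠ 3 → ∀ τ : (Fin n → ZMod r) ≃+ (Fin n → ZMod r), (∀ x, c (τ x) = 0 ↔ c x = 0) →
      ∀ x, τ x = x := by
    intro hr3 τ h
    refine SO.rigid h2 τ (hS τ h) fun i => SO.double h2 (h3 hr3) (hS τ h _ (Or.inl ⟨i, rfl⟩)) ?_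
    rw [← map_add]
    exact hS τ h _ (Or.inr (Or.inl ⟨i, rfl⟩))
  refine ⟨c, ?_, ?_, ?_, ?_, ?_, ?_, ?_⟩
  · rw [hc0]
    rintro (⟨i, h⟩ | ⟨i, h⟩ | ⟨i, j, hij, h⟩)
    · simpa [ee] using congrFun h i
    · have := congrFun h i
      simp only [ee, Pi.add_apply, if_true, Pi.zero_apply] at this
      exact h2 (by linear_combination -this)
    · simpa [ee, hij.ne] using congrFun h i
  · intro x hx
    obtain ⟨⟨i, -⟩, rfl⟩ := (hc2 x).1 hx
    refine ⟨Or.inr rfl, ?_⟩
    rw [Nat.card_fun, Nat.card_zmod, Nat.card_eq_fintype_card, Fintype.card_fin]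
    calc 2 < 3 ^ 1 := by norm_num
      _ ≤ _ := Nat.pow_le_pow_right (by norm_num) i.pos
  · intro x hx
    simp only [c] at hx
    split_ifs at hx <;> simp at hx
  · intro τ h
    by_cases hr3 : r = 3
    · refine SO.rigid h2 τ (hS τ fun x => by rw [h]) fun i => ((hc2 _).1 ?_).1
      rw [h, hc2]
      exact ⟨⟨i, rfl⟩, hr3⟩
    · exact hr5 hr3 τ fun x => by rw [h]
  · intro _ τ h x
    by_cases hr3 : r = 3
    · subst hr3
      exact SO.three_sq τ (hS τ h) x
    · rw [hr5 hr3 τ h, hr5 hr3 τ h]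
  · rw [eq_top_iff, ← closure_ee]
    apply AddSubgroup.closure_mono
    rintro _ ⟨i, rfl⟩
    simp only [c, Set.mem_ofPred_eq]
    split_ifs with h h'
    · simp
    · simp
    · exact absurd (Or.inl ⟨i, rfl⟩) h'
  · intro a β b1 b2 ha h
    have h' : ∀ x, SO r x → a x = 1 := fun x hx => h x (fun h0 => (hc0 x).1 h0 hx)
    have e1 : ∀ i, a (ee r i) = 1 := fun i => h' _ (Or.inl ⟨i, rfl⟩)
    have e2 : ∀ i, β (ee r i) (ee r i) = 1 := fun i => by
      have := ha (ee r i) (ee r i)
      rw [h' _ (Or.inr (Or.inl ⟨i, rfl⟩)), e1] at this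
      simpa using this.symm
    have e3 : ∀ i, a (-ee r i) = 1 := fun i => by
      have := ha (ee r i) (-ee r i)
      rw [add_neg_cancel, quad_zero b2 ha, e1, bi_neg_right b2, e2] at this
      simpa using this.symm
    have e4 : ∀ i j, i < j → β (ee r i) (ee r j) = 1 := fun i j hij => by
      have := ha (ee r i) (-ee r j)
      rw [← sub_eq_add_neg, h' _ (Or.inr (Or.inr ⟨i, j, hij, rfl⟩)), e1, e3,
        bi_neg_right b2] at this
      simpa using this.symm
    refine bi_eq_one b1 b2 closure_ee ?_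
    rintro _ ⟨i, rfl⟩ _ ⟨j, rfl⟩
    rcases lt_trichotomy i j with h | rfl | h
    · exact e4 i j h
    · exact e2 i
    · rw [quad_symm ha, e4 j i h]

/-- interval indicator -/
def iv {n : ℕ} (i j : ℕ) : Fin n → ZMod 2 := fun m => if i ≤ m.1 ∧ m.1 ≤ j then 1 else 0

theorem iv_self (i : Fin n) : iv i i = ee 2 i := by
  funext m
  simp only [iv, ee, Fin.ext_iff]
  congr 1
  apply propext
  omega

theorem iv_add {i j : ℕ} (h : i ≤ j) : (iv 0 i + iv 0 j : Fin n → ZMod 2) = iv (i + 1) j := by
  funext m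
  simp only [iv, Pi.add_apply]
  split_ifs <;> first | rfl | omega

theorem pd_two (C : Type*) [CommGroup C] : ∃ c : (Fin n → ZMod 2) → Fin 4, PD C 2 c := by
  classical
  let c : (Fin n → ZMod 2) → Fin 4 := fun x =>
    if ∃ i : Fin n, i.1 = 0 ∧ x = ee 2 i then 1 else if ∃ i, x = ee 2 i then 2
      else if ∃ i j : Fin n, i < j ∧ x = iv i j then 3 else 0
  have hc1 : ∀ x, c x = 1 ↔ ∃ i : Fin n, i.1 = 0 ∧ x = ee 2 i := by
    intro x
    simp only [c]
    split_ifs with h <;> simp [h]
  have hc12 : ∀ x, c x = 1 ∨ c x = 2 ↔ ∃ i, x = ee 2 i := by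
    intro x
    simp only [c]
    split_ifs with h h' h''
    · obtain ⟨i, -, h⟩ := h
      simpa using ⟨i, h⟩
    · simp [h']
    · simp [h']
    · simp [h']
  have hc3 : ∀ x, c x = 3 ↔ ∃ i j : Fin n, i < j ∧ x = iv i j := by
    intro x
    have key : (∃ i j : Fin n, i < j ∧ x = iv i j) → ¬ ∃ i, x = ee 2 i := by
      rintro ⟨i, j, hij, rfl⟩ ⟨k, h⟩
      have a1 := congrFun h i
      have a2 := congrFun h j
      have hij' : i.1 ≤ j.1 := hij.le
      simp only [iv, ee, le_refl, hij', and_self, if_true] at a1 a2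
      split_ifs at a1 a2 with b1 b2
      · exact hij.ne (b1.trans b2.symm)
      all_goals simp_all
    simp only [c]
    split_ifs with h h' h''
    · obtain ⟨i, -, h⟩ := h
      simpa using fun a b c d => key ⟨a, b, c, d⟩ ⟨i, h⟩
    · simpa using fun a b c d => key ⟨a, b, c, d⟩ h'
    · simp [h'']
    · simp [h'']
  have hcard : ∀ i j : Fin n, i ≠ j → 2 < Nat.card (Fin n → ZMod 2) := by
    intro i j hij
    rw [Nat.card_fun, Nat.card_zmod, Nat.card_eq_fintype_card, Fintype.card_fin]
    have := i.2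
    have := j.2
    have := Fin.val_ne_of_ne hij
    calc 2 < 2 ^ 2 := by norm_num
      _ ≤ _ := Nat.pow_le_pow_right (by norm_num) (by omega)
  have hsupp : ∀ i j : Fin n, i ≤ j → c (iv i j) ≠ 0 := by
    intro i j hij
    rcases hij.lt_or_eq with h | rfl
    · rw [(hc3 _).2 ⟨i, j, h, rfl⟩]
      decide
    · rcases (hc12 _).2 ⟨i, iv_self i⟩ with h | h <;> rw [h] <;> decide
  refine ⟨c, ?_, ?_, ?_, ?_, fun h => absurd rfl h, ?_, ?_⟩
  · have a1 : ¬ (c 0 = 1 ∨ c 0 = 2) := by
      rw [hc12]
      rintro ⟨i, h⟩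
      simpa [ee] using congrFun h i
    have a2 : ¬ c 0 = 3 := by
      rw [hc3]
      rintro ⟨i, j, hij, h⟩
      have hij' : i.1 ≤ j.1 := hij.le
      simpa [iv, hij'] using congrFun h i
    revert a1 a2
    generalize c 0 = k
    revert k
    decide
  · intro x hx
    obtain ⟨i, rfl⟩ := (hc12 x).1 (Or.inr hx)
    refine ⟨Or.inl rfl, hcard i ⟨0, i.pos⟩ fun h => ?_⟩
    rw [(hc1 _).2 ⟨i, congrArg Fin.val h, rfl⟩] at hx
    exact absurd hx (by decide)
  · intro x hx
    obtain ⟨i, j, hij, -⟩ := (hc3 x).1 hx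
    exact ⟨rfl, hcard i j hij.ne⟩
  · intro τ h
    have h1 : ∀ i, ∃ j, τ (ee 2 i) = ee 2 j := fun i => (hc12 _).1 (by
      rw [h]; exact (hc12 _).2 ⟨i, rfl⟩)
    choose π hπ using h1
    have hinj : Function.Injective π := fun i j h =>
      ee_inj (r := 2) (τ.injective (by rw [hπ, hπ, h]))
    have h0 : ∀ i : Fin n, i.1 = 0 → (π i).1 = 0 := by
      intro i hi
      obtain ⟨j, hj, h2⟩ := (hc1 (τ (ee 2 i))).1 (by rw [h]; exact (hc1 _).2 ⟨i, hi, rfl⟩)
      rw [hπ] at h2
      rw [ee_inj h2, hj]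
    have hadj : ∀ i j : Fin n, j.1 = i.1 + 1 → (π j).1 = (π i).1 + 1 ∨ (π i).1 = (π j).1 + 1 := by
      intro i j hij
      have e1 : ee 2 i + ee 2 j = iv i j := by
        funext m
        simp only [iv, ee, Pi.add_apply, Fin.ext_iff]
        split_ifs <;> first | rfl | omega
      obtain ⟨k, l, hkl, h2⟩ := (hc3 (τ (ee 2 i + ee 2 j))).1 (by
        rw [h, hc3]; exact ⟨i, j, by rw [Fin.lt_def]; omega, e1⟩)
      rw [map_add, hπ, hπ] at h2
      have hkl' : k.1 < l.1 := hkl
      have key : ∀ m : Fin n, k.1 ≤ m.1 → m.1 ≤ l.1 → m.1 = (π i).1 ∨ m.1 = (π j).1 := by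
        intro m a b
        have := congrFun h2 m
        simp only [iv, ee, Pi.add_apply, a, b, and_self, if_true, Fin.ext_iff] at this
        by_contra hcon
        push Not at hcon
        simp [hcon.1, hcon.2] at this
      have b1 := key k le_rfl hkl'.le
      have b2 := key ⟨k.1 + 1, by omega⟩ (by simp) (by simp; omega)
      simp only at b2
      omega
    have hid : ∀ (m : ℕ) (i : Fin n), i.1 = m → π i = i := by
      intro m
      induction m using Nat.strong_induction_on with | _ m ih => ?_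
      intro i hi
      rcases m with _ | m
      · exact Fin.ext ((h0 i hi).trans hi.symm)
      have a1 := ih m (by omega) ⟨m, by omega⟩ rfl
      rcases hadj ⟨m, by omega⟩ i hi with a2 | a2
      · rw [a1] at a2
        exact Fin.ext (a2.trans hi.symm)
      · rw [a1] at a2
        simp only at a2
        have a3 := ih (π i).1 (by omega) (π i) rfl
        have := hinj a3
        omega
    refine eq_of_closure closure_ee τ ?_
    rintro _ ⟨i, rfl⟩
    rw [hπ, hid _ i rfl]
  · rw [eq_top_iff, ← closure_ee]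
    apply AddSubgroup.closure_mono
    rintro _ ⟨i, rfl⟩
    exact (hc12 _).2 ⟨i, rfl⟩
  · intro a β b1 b2 ha h
    have e1 : ∀ i : Fin n, a (iv 0 i) = 1 := fun i => h _ (hsupp ⟨0, i.pos⟩ i (Nat.zero_le _))
    have e2 : ∀ i j : Fin n, i ≤ j → β (iv 0 i) (iv 0 j) = 1 := by
      intro i j hij
      have := ha (iv 0 i) (iv 0 j)
      rw [e1, e1, one_mul, one_mul, iv_add hij] at this
      rw [← this]
      rcases hij.lt_or_eq with h1 | rfl
      · have h2 : i.1 < j.1 := h1
        exact h _ (hsupp ⟨i.1 + 1, by omega⟩ j h2)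
      · convert quad_zero b2 ha
        funext m
        simp only [iv, Pi.zero_apply]
        rw [if_neg (by omega)]
    refine bi_eq_one b1 b2 (T := Set.range fun i : Fin n => iv 0 i) ?_ ?_
    · rw [eq_top_iff, ← closure_ee, AddSubgroup.closure_le]
      rintro _ ⟨i, rfl⟩
      rw [← iv_self]
      rcases Nat.eq_zero_or_pos i.1 with h0 | h0
      · apply AddSubgroup.subset_closure
        exact ⟨i, by simp only [h0]⟩
      · have := iv_add (n := n) (i := i.1 - 1) (j := i.1) (by omega)
        rw [show i.1 - 1 + 1 = i.1 by omega] at this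
        rw [← this]
        exact add_mem (AddSubgroup.subset_closure ⟨⟨i.1 - 1, by omega⟩, rfl⟩)
          (AddSubgroup.subset_closure ⟨i, rfl⟩)
    · rintro _ ⟨i, rfl⟩ _ ⟨j, rfl⟩
      rcases le_total i j with h | h
      · exact e2 i j h
      · rw [quad_symm ha, e2 j i h]

end model

end Cfsg.Agent.SolvLin
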