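import Cfsg.Agent.SolvLin.DL2
import Cfsg.Agent.Char.Clifford
import Cfsg.Agent.Char.Linear
import Cfsg.Agent.Char.Quot
import Cfsg.Agent.Char.Degrees

/-!
# Dual modules and vanishing elements
-/

set_option autoImplicit false
set_option linter.style.haveILetI false
open scoped commutatorElement

namespace Cfsg.Agent.SolvLin

open MulAction Subgroup Cfsg.Agent.Char

/-- the character group, additively -/
abbrev Du (A : Type*) [Group A] := Additive (A →* ℂˣ)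

section
variable {G A : Type*} [Group G] [Group A] (ρ : G →* MulAut A)

/-- the dual action -/
@[reducible] def duAct : DistribMulAction G (Du A) where
  smul g ψ := Additive.ofMul (ψ.toMul.comp (ρ g⁻¹).toMonoidHom)
  one_smul ψ := MonoidHom.ext fun w => show ψ.toMul (ρ 1⁻¹ w) = ψ.toMul w by simp
  mul_smul a b ψ := MonoidHom.ext fun w =>
    show ψ.toMul (ρ (a * b)⁻¹ w) = ψ.toMul (ρ b⁻¹ (ρ a⁻¹ w)) by simp
  smul_zero _ := rfl
  smul_add _ _ _ := rfl

theorem du_smul (g : G) (ψ : Du A) (w : A) :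
    letI := duAct ρ; (g • ψ).toMul w = ψ.toMul (ρ g⁻¹ w) := rfl

end

section
variable {G A : Type*} [Group G] [CommGroup A] [Finite A] (ρ : G →* MulAut A)

theorem du_card : Nat.card (Du A) = Nat.card A :=
  CommGroup.card_monoidHom_of_hasEnoughRootsOfUnity A ℂ

instance : Finite (Du A) := Nat.finite_of_card_ne_zero (du_card (A := A) ▸ Nat.card_pos.ne')

theorem du_triv {g : G} (h : letI := duAct ρ; ∀ ψ : Du A, g • ψ = ψ) (x : A) : ρ g x = x :=
  ((CommGroup.forall_apply_eq_apply_iff A (M := ℂ)).1 fun φ => by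
    simpa [du_smul] using congrArg (fun ψ : Du A => ψ.toMul (ρ g x)) (h (.ofMul φ))).symm

theorem du_irr [Nontrivial A] (h : ∀ K : Subgroup A, (∀ g, ∀ x ∈ K, ρ g x ∈ K) → K = ⊥ ∨ K = ⊤) :
    letI := duAct ρ; Irr G (Du A) := by
  letI := duAct ρ
  refine ⟨Finite.one_lt_card_iff_nontrivial.1 (du_card (A := A) ▸ Finite.one_lt_card), fun U hU => ?_⟩
  let e := CommGroup.subgroupOrderIsoSubgroupMonoidHom A ℂ
  obtain ⟨K, hK⟩ := e.surjective (OrderDual.toDual (AddSubgroup.toSubgroup' U))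
  have h1 : ∀ ψ : Du A, ψ ∈ U ↔ ∀ x ∈ K, ψ.toMul x = 1 := fun ψ => by
    rw [← CommGroup.mem_subgroupOrderIsoSubgroupMonoidHom_iff ℂ K, hK]
    rfl
  rcases h K fun g x hx => (CommGroup.forall_monoidHom_apply_eq_one_iff ℂ K _).1 fun φ hφ => by
    simpa [du_smul] using (h1 _).1 (hU g⁻¹ _ ((h1 (.ofMul φ)).2 hφ)) x hx with rfl | rfl
  · exact Or.inr (eq_top_iff.2 fun ψ _ => (h1 ψ).2 (by simp))
  · exact Or.inl (eq_bot_iff.2 fun ψ hψ => MonoidHom.ext fun x => (h1 ψ).1 hψ x trivial)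

end

theorem reg_of_comm {G V : Type*} [Group G] [AddCommGroup V] [Finite V] [DistribMulAction G V]
    (hirr : Irr G V) (A : Subgroup G) [hn : A.Normal]
    (hA : ∀ a ∈ A, ∀ b ∈ A, ∀ v : V, a • b • v = b • a • v) :
    ∃ v : V, ∀ a ∈ A, a • v = v → ∀ w : V, a • w = w := by
  haveI := hirr.1
  obtain ⟨W, -, ⟨hW, hW0⟩, hmin⟩ := Finite.exists_le_minimal
    (p := fun W : AddSubgroup V => Inv A W ∧ W ≠ ⊥) (a := ⊤) ⟨fun _ _ _ => trivial, top_ne_bot⟩
  obtain ⟨U, -, ⟨hU, u, hu, hu'⟩, hmax⟩ := Finite.exists_le_maximal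
    (p := fun U : AddSubgroup V => Inv A U ∧ ∃ u ∈ U, ∀ a ∈ A, a • u = u → ∀ w ∈ U, a • w = w)
    (a := ⊥) ⟨fun _ _ h => by simp [AddSubgroup.mem_bot.1 h], 0, zero_mem _,
      fun _ _ _ _ h => by simp [AddSubgroup.mem_bot.1 h]⟩
  have key : ∀ g : G, ∀ w ∈ W, g • w ∈ U := by
    intro g
    let W' := W.map (DistribSMul.toAddMonoidHom V g)
    have h1 : ∀ X : AddSubgroup V, Inv A X → ∀ w ∈ W, w ≠ 0 → g • w ∈ X → W' ≤ X := by
      intro X hX w hw h0 hx
      refine AddSubgroup.map_le_iff_le_comap.2 ((hmin (y := W ⊓ X.comap _) ⟨fun a v hv =>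
        ⟨hW a v hv.1, ?_⟩, fun e => h0 ?_⟩ inf_le_left).trans inf_le_right)
      · have := hX ⟨_, hn.conj_mem a a.2 g⟩ _ hv.2
        change (g * a * g⁻¹) • g • v ∈ X at this
        rwa [mul_smul, inv_smul_smul, mul_smul] at this
      · exact AddSubgroup.mem_bot.1 (e ▸ ⟨hw, hx⟩)
    have hW' : Inv A W' := by
      rintro a _ ⟨w, hw, rfl⟩
      refine ⟨_, hW ⟨_, hn.conj_mem' a a.2 g⟩ w hw, ?_⟩
      change g • (g⁻¹ * a * g) • w = (a : G) • g • w
      simp [mul_smul]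
    by_contra! h
    obtain ⟨w, hw, hwU⟩ := h
    have h0 : w ≠ 0 := fun e => hwU (by simp [e])
    have h2 : ∀ x ∈ U, x ∈ W' → x = 0 := by
      rintro _ hx ⟨y, hy, rfl⟩
      by_contra e
      exact hwU (h1 U hU y hy (fun e' => e (by simp [e'])) hx ⟨w, hw, rfl⟩)
    refine hwU (hmax (y := U ⊔ W') ⟨fun a v hv => ?_, u + g • w,
      AddSubgroup.add_mem_sup hu ⟨w, hw, rfl⟩, fun a ha e v hv => ?_⟩ le_sup_left
      (AddSubgroup.mem_sup_right ⟨w, hw, rfl⟩))
    · obtain ⟨x, hx, y, hy, rfl⟩ := AddSubgroup.mem_sup.1 hv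
      rw [smul_add]
      exact AddSubgroup.add_mem_sup (hU a x hx) (hW' a y hy)
    · obtain ⟨x, hx, y, hy, rfl⟩ := AddSubgroup.mem_sup.1 hv
      rw [smul_add, add_comm u, ← sub_eq_sub_iff_add_eq_add] at e
      have h4 : a • u - u = 0 := h2 _ (sub_mem (hU ⟨a, ha⟩ u hu) hu)
        (e ▸ sub_mem ⟨w, hw, rfl⟩ (hW' ⟨a, ha⟩ _ ⟨w, hw, rfl⟩))
      rw [smul_add, hu' a ha (sub_eq_zero.1 h4) x hx, h1 (fx V a) (fun b v hv =>
        (hA a ha b b.2 v).trans (congrArg _ hv)) w hw h0 (sub_eq_zero.1 (e ▸ h4)).symm hy]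
  have h5 := (hirr.2 (⨅ g : G, U.comap (DistribSMul.toAddMonoidHom V g)) fun a v hv =>
    AddSubgroup.mem_iInf.2 fun g => by
      simpa [mul_smul] using AddSubgroup.mem_iInf.1 hv (g * a)).resolve_left fun e =>
        hW0 (eq_bot_iff.2 (e ▸ fun w hw => AddSubgroup.mem_iInf.2 fun g => key g w hw))
  exact ⟨u, fun a ha e w => hu' a ha e w
    (one_smul G w ▸ AddSubgroup.mem_iInf.1 (h5 ▸ AddSubgroup.mem_top w) 1)⟩

variable {G : Type*} [Group G]

/-- vanishing elements -/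
def Van (g : G) : Prop := ∃ χ, IsIrrCharacter G χ ∧ χ g = 0

theorem Van.of_map {G' : Type*} [Group G'] (f : G →* G') (hf : Function.Surjective f) {g : G}
    (h : Van (f g)) : Van g := by
  obtain ⟨χ, h1, h2⟩ := h
  exact ⟨_, h1.comp_surjective f hf, h2⟩

variable [Finite G]

theorem van_of_hom (N : Subgroup G) [N.Normal] (μ : N →* ℂˣ) {a : G}
    (h : ∀ g, ¬ ∀ n, μ (MulAut.conjNormal (g * a * g⁻¹) n) = μ n) : Van a := by
  haveI := Fintype.ofFinite G
  haveI := Fintype.ofFinite N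
  haveI := Fintype.ofFinite (inertia N fun n => (μ n : ℂ))
  have h1 := isIrrCharacter_hom μ
  obtain ⟨χ, hχ, h2⟩ := exists_irr_over N h1
  obtain ⟨ψ, -, rfl, -⟩ := exists_clifford_corr (le_inertia N h1.isClassFunction) h1 le_rfl hχ h2
  exact ⟨_, hχ, indFun_eq_zero _ _ _ fun g hg =>
    absurd (fun n => Units.ext ((mem_inertia' N).1 hg n)) (h g)⟩

theorem van_of_conj (B : Subgroup G) [B.Normal] (hB : B ≠ ⊥) {x : G}
    (h : ∀ b ∈ B, IsConj x (x * b)) : Van x := by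
  haveI := Fintype.ofFinite B
  obtain ⟨⟨b, hb⟩, hb1⟩ := ne_bot_iff_exists_ne_one.1 hB
  obtain ⟨χ, hχ⟩ := not_forall.1 (mt (eq_one_of_forall_irr (g := b)) fun e => hb1 (Subtype.ext e))
  have h2 := sum_coset_eq_zero χ.2 B ⟨b, hb, hχ⟩ x
  rw [Finset.sum_congr rfl fun (n : B) _ => (χ.2.isClassFunction.eq_of_isConj (h n n.2)).symm,
    Finset.sum_const, nsmul_eq_mul] at h2
  exact ⟨χ, χ.2, (mul_eq_zero.1 h2).resolve_left
    (Nat.cast_ne_zero.2 Finset.univ_nonempty.card_pos.ne')⟩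

omit [Finite G] in
theorem conj_irr {N : Subgroup G} [N.Normal] (hmin : ∀ K : Subgroup G, K.Normal → K ≤ N → K = ⊥ ∨ K = N)
    (K : Subgroup N) (h : ∀ g : G, ∀ x ∈ K, MulAut.conjNormal g x ∈ K) : K = ⊥ ∨ K = ⊤ := by
  refine (hmin (K.map N.subtype) ⟨?_⟩ (map_subtype_le _)).imp
    (map_eq_bot_iff_of_injective _ N.subtype_injective).1 fun e =>
      map_injective N.subtype_injective (by rw [e, ← MonoidHom.range_eq_map, range_subtype])
  rintro _ ⟨x, hx, rfl⟩ g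
  exact ⟨_, h g x hx, rfl⟩

omit [Finite G] in
theorem conj_triv {N : Subgroup G} [N.Normal] {a : G} :
    (∀ x : N, MulAut.conjNormal a x = x) ↔ a ∈ centralizer (N : Set G) :=
  ⟨fun h x hx => (mul_inv_eq_iff_eq_mul.1 (congrArg Subtype.val (h ⟨x, hx⟩))).symm,
    fun h x => Subtype.ext (mul_inv_eq_iff_eq_mul.2 (h x x.2).symm)⟩

theorem van_of_comm {N : Subgroup G} [N.Normal] [IsMulCommutative N] (h0 : N ≠ ⊥)
    (hmin : ∀ K : Subgroup G, K.Normal → K ≤ N → K = ⊥ ∨ K = N) (A : Subgroup G) [hn : A.Normal]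
    (hA : ∀ a ∈ A, ∀ b ∈ A, ⁅a, b⁆ ∈ centralizer (N : Set G)) {a : G} (ha : a ∈ A)
    (ha' : a ∉ centralizer (N : Set G)) : Van a := by
  letI : CommGroup N := { (inferInstance : Group N) with mul_comm := mul_comm' }
  haveI := (nontrivial_iff_ne_bot N).2 h0
  letI := duAct (MulAut.conjNormal : G →* MulAut N)
  obtain ⟨μ, hμ⟩ := reg_of_comm (du_irr _ (conj_irr hmin)) A fun a ha b hb v => by
    have : ⁅a, b⁆ • b • a • v = b • a • v := MonoidHom.ext fun w =>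
      congrArg (b • a • v).toMul (conj_triv.2 (inv_mem (hA a ha b hb)) w)
    rw [← this]
    simp [commutatorElement_def, mul_smul]
  refine van_of_hom N μ.toMul fun g hg => ha' ?_
  have := conj_triv.1 (du_triv _ (hμ _ (inv_mem (hn.conj_mem a ha g))
    (MonoidHom.ext fun n => (congrArg (fun x => μ.toMul (MulAut.conjNormal x n))
      (inv_inv _)).trans (hg n))))
  simpa [mul_assoc] using (normal_centralizer (H := N)).conj_mem _ (inv_mem this) g⁻¹

end Cfsg.Agent.SolvLin
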