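import Cfsg.Agent.SolvLin.Model

/-!
# Invariant forms and spanning certificates for qubit models
-/

set_option autoImplicit false
set_option linter.style.haveILetI false

namespace Cfsg.Agent.SolvLin

variable {K : Type*} [Field K] {U J : Type*} [AddCommGroup U] [Module K U]

/-- orthogonal sum of two copies of a form -/
def extB {R U : Type*} [Add R] (B : U → U → R) (u w : U × U) : R := B u.1 w.1 + B u.2 w.2

/-- `B` is the unique invariant bilinear form. -/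
structure FormOK (P : J → U → U) (one : J) (B : U → U → K) : Prop where
  bil : ∃ Bl : U →ₗ[K] U →ₗ[K] K, ∀ u w, Bl u w = B u w
  P_one : ∀ u, P one u = u
  P_zero : ∀ j, P j 0 = 0
  inv : ∀ j u w, B (P j u) (P j w) = B u w
  uniq : ∀ C : U →ₗ[K] U →ₗ[K] K, (∀ j u w, C (P j u) (P j w) = C u w) →
    ∃ μ, ∀ u w, C u w = μ * B u w

theorem FormOK.ext {P : J → U → U} {one : J} {B : U → U → K} (h : FormOK P one B)
    (h2 : (2 : K) ≠ 0) : FormOK (extP P) (false, false, one) (extB B) := by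
  obtain ⟨Bl, hBl⟩ := h.bil
  have hneg : ∀ a b, B (-a) (-b) = B a b := fun a b => by simp [← hBl]
  refine ⟨⟨Bl.compl₁₂ (LinearMap.fst K U U) (LinearMap.fst K U U) +
    Bl.compl₁₂ (LinearMap.snd K U U) (LinearMap.snd K U U), fun u w => by simp [extB, hBl]⟩,
    fun u => by simp [extP, h.P_one], ?_, ?_, fun C hC => ?_⟩
  · rintro ⟨_ | _, _ | _, j⟩ <;> simp [extP, h.P_zero]
  · rintro ⟨_ | _, _ | _, j⟩ u w <;> simp [extP, extB, h.inv, hneg, add_comm]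
  · obtain ⟨μ, hμ⟩ := h.uniq (C.compl₁₂ (LinearMap.inl K U U) (LinearMap.inl K U U))
      (fun j u w => by simpa [extP, h.P_zero] using hC (false, false, j) (u, 0) (w, 0))
    simp only [LinearMap.compl₁₂_apply, LinearMap.inl_apply] at hμ
    have h01 : ∀ a b, C (a, 0) (0, b) = 0 := by
      intro a b
      have := hC (false, true, one) (a, 0) (0, b)
      simp only [extP, h.P_one, Bool.false_eq_true, if_false, if_true, neg_zero] at this
      have h3 : ((0, -b) : U × U) = -(0, b) := by simp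
      rw [h3, map_neg] at this
      exact (mul_eq_zero.1 (show 2 * C (a, 0) (0, b) = 0 by linear_combination -this)).resolve_left h2
    have h10 : ∀ a b, C (0, a) (b, 0) = 0 := by
      intro a b
      have := hC (true, false, one) (0, a) (b, 0)
      simp only [extP, h.P_one, Bool.false_eq_true, if_false, if_true] at this
      rw [← this, h01]
    have h11 : ∀ a b, C (0, a) (0, b) = μ * B a b := by
      intro a b
      have := hC (true, false, one) (0, a) (0, b)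
      simp only [extP, h.P_one, Bool.false_eq_true, if_false, if_true] at this
      rw [← this, hμ]
    refine ⟨μ, ?_⟩
    rintro ⟨a, a'⟩ ⟨b, b'⟩
    have e1 : ((a, a') : U × U) = (a, 0) + (0, a') := by simp
    have e2 : ((b, b') : U × U) = (b, 0) + (0, b') := by simp
    rw [e1, e2]
    simp only [map_add, LinearMap.add_apply, hμ, h01, h10, h11, extB]
    simp [mul_add]

theorem formOK_plus : FormOK (fun (_ : Unit) (u : K) => u) () (fun a b : K => a * b) := by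
  refine ⟨⟨LinearMap.mul K K, fun _ _ => rfl⟩, fun _ => rfl, fun _ => rfl, fun _ _ _ => rfl,
    fun C _ => ⟨C 1 1, fun a b => ?_⟩⟩
  have := C.map_smul₂ a 1 b
  have h2 := (C 1).map_smul b 1
  simp only [smul_eq_mul, mul_one] at this h2
  rw [this, h2]
  ring

theorem formOK_minus : FormOK (Heis.minusP (R := ZMod 3)) (false, false)
    (fun u w : ZMod 3 × ZMod 3 => u.1 * w.2 - u.2 * w.1) := by
  refine ⟨⟨LinearMap.mk₂ (ZMod 3) (fun u w : ZMod 3 × ZMod 3 => u.1 * w.2 - u.2 * w.1)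
    (fun a b c => by simp; ring) (fun a b c => by simp; ring) (fun a b c => by simp; ring)
    (fun a b c => by simp; ring), fun _ _ => rfl⟩, fun _ => rfl, by decide, by decide,
    fun C hC => ⟨C (1, 0) (0, 1), ?_⟩⟩
  have key : ∀ u w : ZMod 3 × ZMod 3, C u w = u.1 * w.1 * C (1, 0) (1, 0) +
      u.1 * w.2 * C (1, 0) (0, 1) + u.2 * w.1 * C (0, 1) (1, 0) + u.2 * w.2 * C (0, 1) (0, 1) := by
    rintro ⟨a, b⟩ ⟨c, d⟩
    have e1 : ((a, b) : ZMod 3 × ZMod 3) = a • (1, 0) + b • (0, 1) := by simp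
    have e2 : ((c, d) : ZMod 3 × ZMod 3) = c • (1, 0) + d • (0, 1) := by simp
    rw [e1, e2]
    simp only [map_add, map_smul, LinearMap.add_apply, LinearMap.smul_apply, smul_eq_mul]
    simp
    ring
  have a1 := hC (true, false) (1, 0) (1, 0)
  have a2 := hC (true, false) (1, 0) (0, 1)
  have a3 := hC (false, true) (1, 0) (1, 0)
  rw [key] at a1 a2 a3
  simp only [Heis.minusP, Bool.false_eq_true, if_false, if_true] at a1 a2 a3
  intro u w
  rw [key]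
  generalize C (1, 0) (1, 0) = p at *
  generalize C (1, 0) (0, 1) = q at *
  generalize C (0, 1) (1, 0) = r at *
  generalize C (0, 1) (0, 1) = s at *
  have : p = 0 ∧ s = 0 ∧ r = -q := by
    clear key hC
    revert p q r s
    decide
  rw [this.1, this.2.1, this.2.2]
  ring

/-- the four invariants of a pair of vectors -/
def inv4 {R U : Type*} (B : U → U → R) (v y u w : U) : R × R × R × R := (B v u, B v w, B y u, B y w)

theorem rigid_of_form {P : J → U → U} {one : J} {B : U → U → K} (h : FormOK P one B)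
    (hc : ∀ c : Kˣ, (c : K) * c = 1) {v y : U} (hvy : B v y = 1) (g₁ g₂ g₃ : J)
    (hspan : ∀ S : Submodule K U, v ∈ S → y ∈ S → (∀ u ∈ S, P g₁ u ∈ S) → (∀ u ∈ S, P g₂ u ∈ S) →
      (∀ u ∈ S, P g₃ u ∈ S) → S = ⊤)
    (hkey : ∀ (c₁ : K) j₁, inv4 B v y (c₁ • P j₁ v) (c₁ • P j₁ y) = inv4 B v y (P g₁ v) (P g₁ y) →
      ∀ (c₂ : K) j₂, inv4 B v y (c₂ • P j₂ v) (c₂ • P j₂ y) = inv4 B v y (P g₂ v) (P g₂ y) →
      inv4 B v y (c₁ • P j₁ (c₂ • P j₂ v)) (c₁ • P j₁ (c₂ • P j₂ y)) =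
        inv4 B v y (P g₁ (P g₂ v)) (P g₁ (P g₂ y)) →
      ∀ (c₃ : K) j₃, inv4 B v y (c₃ • P j₃ v) (c₃ • P j₃ y) = inv4 B v y (P g₃ v) (P g₃ y) →
      inv4 B v y (c₁ • P j₁ (c₃ • P j₃ v)) (c₁ • P j₁ (c₃ • P j₃ y)) =
        inv4 B v y (P g₁ (P g₃ v)) (P g₁ (P g₃ y)) →
      inv4 B v y (c₂ • P j₂ (c₃ • P j₃ v)) (c₂ • P j₂ (c₃ • P j₃ y)) =
        inv4 B v y (P g₂ (P g₃ v)) (P g₂ (P g₃ y)) →
      inv4 B v y (c₁ • P j₁ (c₂ • P j₂ (c₃ • P j₃ v))) (c₁ • P j₁ (c₂ • P j₂ (c₃ • P j₃ y))) =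
        inv4 B v y (P g₁ (P g₂ (P g₃ v))) (P g₁ (P g₂ (P g₃ y))) →
      (c₁ = 1 ∧ j₁ = g₁) ∧ (c₂ = 1 ∧ j₂ = g₂) ∧ c₃ = 1 ∧ j₃ = g₃) :
    Model.Rigid K P v y := by
  intro R h0 hv hy hT
  have huniq : ∀ u a b, (u, a) ∈ R → (u, b) ∈ R → a = b := by
    intro u a b ha hb
    have := R.sub_mem ha hb
    rw [Prod.mk_sub_mk, sub_self] at this
    exact sub_eq_zero.1 (h0 _ this)
  have hdom : ∀ j, ∀ u ∈ R.map (LinearMap.fst K U U), P j u ∈ R.map (LinearMap.fst K U U) := by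
    rintro j _ ⟨⟨u, u'⟩, hu, rfl⟩
    obtain ⟨c, j', h1⟩ := hT j
    exact ⟨_, h1 u u' hu, rfl⟩
  have htot : ∀ u, ∃ u', (u, u') ∈ R := by
    intro u
    have := hspan (R.map (LinearMap.fst K U U)) ⟨_, hv, rfl⟩ ⟨_, hy, rfl⟩ (hdom g₁) (hdom g₂) (hdom g₃)
    obtain ⟨⟨a, b⟩, hab, rfl⟩ : u ∈ R.map (LinearMap.fst K U U) := this ▸ Submodule.mem_top
    exact ⟨b, hab⟩
  choose f hf using htot
  let fl : U →ₗ[K] U :=
    { toFun := f
      map_add' := fun a b => huniq _ _ _ (hf _) (R.add_mem (hf a) (hf b))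
      map_smul' := fun c a => huniq _ _ _ (hf _) (R.smul_mem c (hf a)) }
  obtain ⟨Bl, hBl⟩ := h.bil
  obtain ⟨μ, hμ⟩ := h.uniq (Bl.compl₁₂ fl fl) (fun j u w => by
    obtain ⟨c, j', h1⟩ := hT j
    change Bl (f _) (f _) = Bl (f _) (f _)
    rw [huniq _ _ _ (hf _) (h1 u _ (hf u)), huniq _ _ _ (hf _) (h1 w _ (hf w)), map_smul,
      LinearMap.map_smul₂, smul_smul, hc, one_smul, hBl, hBl, h.inv])
  have hB : ∀ a a' b b', (a, a') ∈ R → (b, b') ∈ R → B a' b' = μ * B a b := by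
    intro a a' b b' ha hb
    rw [← hμ, ← hBl, huniq _ _ _ ha (hf a), huniq _ _ _ hb (hf b)]
    rfl
  have hμ1 : μ = 1 := by simpa [hvy] using (hB _ _ _ _ hv hy).symm
  have h4 : ∀ {a a' b b'}, (a, a') ∈ R → (b, b') ∈ R → inv4 B v y a' b' = inv4 B v y a b := by
    intro a a' b b' ha hb
    simp only [inv4, hB _ _ _ _ hv ha, hB _ _ _ _ hv hb, hB _ _ _ _ hy ha, hB _ _ _ _ hy hb, hμ1,
      one_mul]
  obtain ⟨c₁, j₁, h₁⟩ := hT g₁
  obtain ⟨c₂, j₂, h₂⟩ := hT g₂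
  obtain ⟨c₃, j₃, h₃⟩ := hT g₃
  obtain ⟨⟨a₁, rfl⟩, ⟨a₂, rfl⟩, a₃, rfl⟩ := hkey c₁ j₁ (h4 (h₁ _ _ hv) (h₁ _ _ hy))
    c₂ j₂ (h4 (h₂ _ _ hv) (h₂ _ _ hy)) (h4 (h₁ _ _ (h₂ _ _ hv)) (h₁ _ _ (h₂ _ _ hy)))
    c₃ j₃ (h4 (h₃ _ _ hv) (h₃ _ _ hy)) (h4 (h₁ _ _ (h₃ _ _ hv)) (h₁ _ _ (h₃ _ _ hy)))
    (h4 (h₂ _ _ (h₃ _ _ hv)) (h₂ _ _ (h₃ _ _ hy)))
    (h4 (h₁ _ _ (h₂ _ _ (h₃ _ _ hv))) (h₁ _ _ (h₂ _ _ (h₃ _ _ hy))))
  have := hspan (R.comap (LinearMap.prod LinearMap.id LinearMap.id)) hv hy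
    (fun u hu => by simpa [a₁] using h₁ u u hu) (fun u hu => by simpa [a₂] using h₂ u u hu)
    (fun u hu => by simpa [a₃] using h₃ u u hu)
  intro u
  exact (this ▸ Submodule.mem_top : u ∈ R.comap (LinearMap.prod LinearMap.id LinearMap.id))

/-- linear combination of a list of vectors -/
def comb {R U : Type*} [SMul R U] [Add U] [Zero U] : List R → List U → U
  | c :: cs, w :: ws => c • w + comb cs ws
  | _, _ => 0

theorem comb_mem (S : Submodule K U) : ∀ (cs : List K) (ws : List U), (∀ w ∈ ws, w ∈ S) →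
    comb cs ws ∈ S
  | [], _, _ => by simp [comb]
  | _ :: _, [], _ => by simp [comb]
  | c :: cs, w :: ws, h => S.add_mem (S.smul_mem c (h w (by simp)))
      (comb_mem S cs ws fun w hw => h w (by simp [hw]))

/-- the standard basis of a double -/
def extL {U : Type*} [Zero U] (bs : List U) : List (U × U) :=
  bs.map (fun b => (b, 0)) ++ bs.map (fun b => (0, b))

variable (K) in
/-- the list spans -/
def SpanL (bs : List U) : Prop := ∀ S : Submodule K U, (∀ b ∈ bs, b ∈ S) → S = ⊤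

theorem spanL_one : SpanL K [(1 : K)] := fun S h => by
  rw [eq_top_iff]
  intro x _
  simpa using S.smul_mem x (h 1 (by simp))

theorem SpanL.ext {bs : List U} (h : SpanL K bs) : SpanL K (extL bs) := fun S hS => by
  have h1 := h (S.comap (LinearMap.inl K U U)) fun b hb => hS _ (by simp [extL, hb])
  have h2 := h (S.comap (LinearMap.inr K U U)) fun b hb => hS _ (by simp [extL, hb])
  rw [eq_top_iff]
  rintro ⟨a, b⟩ _
  have e1 : a ∈ S.comap (LinearMap.inl K U U) := h1 ▸ Submodule.mem_top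
  have e2 : b ∈ S.comap (LinearMap.inr K U U) := h2 ▸ Submodule.mem_top
  simpa using S.add_mem e1 e2

theorem SpanL.of_comb {bs ws : List U} (h : SpanL K bs) (N : List (List K))
    (hN : N.map (fun cs => comb cs ws) = bs) : SpanL K ws := fun S hS => h S fun b hb => by
  rw [← hN, List.mem_map] at hb
  obtain ⟨cs, -, rfl⟩ := hb
  exact comb_mem S cs ws hS

/-- the sixteen translates -/
def tr16 (P : J → U → U) (g₁ g₂ g₃ : J) (v y : U) : List U :=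
  [v, y, P g₃ v, P g₃ y, P g₂ v, P g₂ y, P g₂ (P g₃ v), P g₂ (P g₃ y), P g₁ v, P g₁ y,
    P g₁ (P g₃ v), P g₁ (P g₃ y), P g₁ (P g₂ v), P g₁ (P g₂ y), P g₁ (P g₂ (P g₃ v)),
    P g₁ (P g₂ (P g₃ y))]

theorem span_of_tr16 {P : J → U → U} {g₁ g₂ g₃ : J} {v y : U} (h : SpanL K (tr16 P g₁ g₂ g₃ v y))
    (S : Submodule K U) (hv : v ∈ S) (hy : y ∈ S) (h₁ : ∀ u ∈ S, P g₁ u ∈ S)
    (h₂ : ∀ u ∈ S, P g₂ u ∈ S) (h₃ : ∀ u ∈ S, P g₃ u ∈ S) : S = ⊤ := by
  apply h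
  simp only [tr16, List.forall_mem_cons]
  refine ⟨?_, ?_, ?_, ?_, ?_, ?_, ?_, ?_, ?_, ?_, ?_, ?_, ?_, ?_, ?_, ?_, by simp⟩ <;>
    apply_rules

theorem comb_mem_prod (R : Submodule K (U × U)) : ∀ (cs : List K) (ws ws' : List U),
    List.Forall₂ (fun a b => (a, b) ∈ R) ws ws' → (comb cs ws, comb cs ws') ∈ R
  | [], _, _, _ => R.zero_mem
  | _ :: _, _, _, .nil => R.zero_mem
  | c :: cs, _, _, .cons h h' => R.add_mem (R.smul_mem c h) (comb_mem_prod R cs _ _ h')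

/-- the eight translates -/
def tr8 {U : Type*} (Q₁ Q₂ : U → U) (v y : U) : List U :=
  [v, y, Q₁ v, Q₁ y, Q₂ v, Q₂ y, Q₁ (Q₂ v), Q₁ (Q₂ y)]

theorem rigid_of_rel {P : J → U → U} {v y : U} (g₁ g₂ : J) (N : List (List K))
    (hN : ∀ cs ∈ N, comb cs (tr8 (P g₁) (P g₂) v y) = 0)
    (hspan : SpanL K (tr8 (P g₁) (P g₂) v y))
    (hkey : ∀ (c₁ : K) j₁ (c₂ : K) j₂,
      (∀ cs ∈ N, comb cs (tr8 (fun u => c₁ • P j₁ u) (fun u => c₂ • P j₂ u) v y) = 0) →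
      (c₁ = 1 ∧ j₁ = g₁) ∧ c₂ = 1 ∧ j₂ = g₂) : Model.Rigid K P v y := by
  intro R h0 hv hy hT
  obtain ⟨c₁, j₁, h₁⟩ := hT g₁
  obtain ⟨c₂, j₂, h₂⟩ := hT g₂
  have hF : List.Forall₂ (fun a b => (a, b) ∈ R) (tr8 (P g₁) (P g₂) v y)
      (tr8 (fun u => (c₁ : K) • P j₁ u) (fun u => (c₂ : K) • P j₂ u) v y) := by
    simp only [tr8, List.forall₂_cons, List.forall₂_nil_left_iff, and_true]
    refine ⟨?_, ?_, ?_, ?_, ?_, ?_, ?_, ?_⟩ <;> apply_rules
  obtain ⟨⟨a₁, rfl⟩, a₂, rfl⟩ := hkey c₁ j₁ c₂ j₂ fun cs hcs => h0 _ (by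
    have := comb_mem_prod R cs _ _ hF
    rwa [hN cs hcs] at this)
  have := hspan (R.comap (LinearMap.prod LinearMap.id LinearMap.id)) (by
    simp only [a₁, a₂, one_smul] at hF
    simpa [List.forall₂_same] using hF)
  intro u
  exact (this ▸ Submodule.mem_top : u ∈ R.comap (LinearMap.prod LinearMap.id LinearMap.id))

end Cfsg.Agent.SolvLin
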