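import Cfsg.Agent.SolvLin.Heis2

/-!
# Frames: components of `V` for the stabilizer of a vector in `M`
-/

set_option autoImplicit false
set_option linter.style.haveILetI false

namespace Cfsg.Agent.SolvLin

open MulAction

variable {K V Γ M : Type*} [Field K] [AddCommGroup V] [Module K V] [Group Γ]
  [DistribMulAction Γ V] [Group M] [DistribMulAction M V]

theorem sum_eq_zero_of_eigen {ι D : Type*} (f : D → V →+ V)
    (hf : ∀ d (c : K) v, f d (c • v) = c • f d v) (χ : ι → D → K) (hχ : Function.Injective χ)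
    (s : Finset ι) : ∀ (u : ι → V), (∀ i d, f d (u i) = χ i d • u i) → ∑ i ∈ s, u i = 0 →
      ∀ i ∈ s, u i = 0 := by
  classical
  induction s using Finset.induction_on with
  | empty => simp
  | insert j s hj ih =>
    intro u hu hsum
    have hs : ∀ i ∈ s, u i = 0 := by
      intro i hi
      have hij : χ i ≠ χ j := fun h => hj (hχ h ▸ hi)
      obtain ⟨d, hd⟩ := Function.ne_iff.1 hij
      have h1 : ∑ k ∈ insert j s, (χ k d - χ j d) • u k = 0 := by
        simp only [sub_smul, Finset.sum_sub_distrib, ← Finset.smul_sum, hsum, smul_zero, sub_zero,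
          ← hu, ← map_sum, map_zero]
      rw [Finset.sum_insert hj, sub_self, zero_smul, zero_add] at h1
      have h2 := ih (fun k => (χ k d - χ j d) • u k) (fun k d' => by
        rw [hf, hu, smul_comm]) h1 i hi
      exact (smul_eq_zero.1 h2).resolve_left (sub_ne_zero.2 hd)
    rw [Finset.sum_insert hj, Finset.sum_eq_zero hs, add_zero] at hsum
    intro i hi
    rcases Finset.mem_insert.1 hi with rfl | hi
    · exact hsum
    · exact hs i hi

namespace Heis
variable (H : Heis K V Γ M)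

/-- the centralizer of `D` in `M`. -/
def perp (D : Subgroup M) : Subgroup M where
  carrier := {x | ∀ d ∈ D, H.b d x = 1}
  mul_mem' := fun {x y} hx hy d hd => by rw [map_mul, hx d hd, hy d hd, one_mul]
  one_mem' := fun d _ => map_one _
  inv_mem' := fun {x} hx d hd => by rw [map_inv, hx d hd, inv_one]

theorem mem_perp {D : Subgroup M} {x : M} : x ∈ H.perp D ↔ ∀ d ∈ D, H.b d x = 1 := Iff.rfl

theorem Z_le_perp (D : Subgroup M) : H.s.range ≤ H.perp D := fun _ hx d _ => H.b_Z_right hx d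

instance perp_normal (D : Subgroup M) : (H.perp D).Normal := H.normal_of_le (H.Z_le_perp D)

instance perpComm (D : Subgroup M) : CommGroup (M ⧸ H.perp D) := H.quotComm _ (H.Z_le_perp D)

theorem s_fix {v : V} (hv : v ≠ 0) {c : Kˣ} (h : H.s c • v = v) : c = 1 := by
  rw [H.s_smul] at h
  exact Units.ext (smul_cancel hv (h.trans (one_smul K v).symm))

theorem eq_one_of_Z_fix {v : V} (hv : v ≠ 0) {x : M} (hx : x ∈ H.s.range) (h : x • v = v) :
    x = 1 := by
  obtain ⟨c, rfl⟩ := hx
  rw [H.s_fix hv h, map_one]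

theorem stab_le_perp {v : V} (hv : v ≠ 0) : stabilizer M v ≤ H.perp (stabilizer M v) := by
  intro x hx d hd
  apply H.s_fix hv
  have h := congrArg (· • v) (H.mul_eq d x)
  simp only [mul_smul, mem_stabilizer_iff.1 hx, mem_stabilizer_iff.1 hd] at h
  exact h.symm

/-- `w` lies in the component of `m`. -/
def Comp (D : Subgroup M) (m : M) (w : V) : Prop := ∀ d ∈ D, d • w = (H.b d m : K) • w

theorem comp_one {D : Subgroup M} {w : V} : H.Comp D 1 w ↔ ∀ d ∈ D, d • w = w := by
  simp [Comp]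

theorem Comp.smul {D : Subgroup M} {m : M} {w : V} (h : H.Comp D m w) (n : M) :
    H.Comp D (n * m) (n • w) := by
  intro d hd
  rw [← mul_smul, H.mul_eq d n, mul_smul, mul_smul, h d hd, H.lin, H.s_smul, map_mul,
    Units.val_mul, mul_smul]

theorem comp_smul {D : Subgroup M} {w : V} (h : ∀ d ∈ D, d • w = w) (n : M) :
    H.Comp D n (n • w) := by
  simpa using (H.comp_one.2 h).smul H n

theorem Comp.congr {D : Subgroup M} {m m' : M} {w : V} (h : H.Comp D m w)
    (hm : (m : M ⧸ H.perp D) = m') : H.Comp D m' w := by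
  intro d hd
  have := (QuotientGroup.eq.1 hm) d hd
  rw [map_mul, map_inv, inv_mul_eq_one] at this
  rw [h d hd, this]

theorem Comp.kmul {D : Subgroup M} {m : M} {w : V} (h : H.Comp D m w) (c : K) :
    H.Comp D m (c • w) := fun d hd => by rw [H.lin, h d hd, smul_comm]

theorem Comp.zero (D : Subgroup M) (m : M) : H.Comp D m 0 := fun d _ => by simp

theorem Comp.sub {D : Subgroup M} {m : M} {w w' : V} (h : H.Comp D m w) (h' : H.Comp D m w') :
    H.Comp D m (w - w') := fun d hd => by rw [smul_sub, h d hd, h' d hd, smul_sub]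

theorem perp_fix {D : Subgroup M} {e : M} (he : e ∈ H.perp D) {w : V} (h : ∀ d ∈ D, d • w = w) :
    ∀ d ∈ D, d • e • w = e • w := by
  intro d hd
  rw [H.comp_smul h e d hd, he d hd, Units.val_one, one_smul]

theorem comp_indep {D : Subgroup M} [Fintype (M ⧸ H.perp D)] (y y' : M ⧸ H.perp D → V)
    (hy : ∀ χ, H.Comp D χ.out (y χ)) (hy' : ∀ χ, H.Comp D χ.out (y' χ))
    (h : ∑ χ, y χ = ∑ χ, y' χ) (χ : M ⧸ H.perp D) : y χ = y' χ := by
  have := sum_eq_zero_of_eigen (K := K) (D := D)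
    (fun d => DistribSMul.toAddMonoidHom V (d : M)) (fun d c v => H.lin d c v)
    (fun (χ : M ⧸ H.perp D) (d : D) => (H.b d χ.out : K)) ?_ Finset.univ (fun χ => y χ - y' χ)
    (fun χ d => (hy χ).sub H (hy' χ) d d.2) (by rw [Finset.sum_sub_distrib, h, sub_self]) χ
    (Finset.mem_univ _)
  · exact sub_eq_zero.1 this
  · intro χ ψ hχ
    rw [← χ.out_eq, ← ψ.out_eq]
    change ((χ.out : M) : M ⧸ H.perp D) = (ψ.out : M)
    rw [QuotientGroup.eq]
    intro d hd
    have := congrFun hχ ⟨d, hd⟩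
    rw [map_mul, map_inv, Units.ext this, inv_mul_cancel]

theorem κ_stab {g : Γ} {v : V} (hg : g • v = v) {d : M} (hd : d ∈ stabilizer M v) :
    H.κ g d ∈ stabilizer M v := by
  rw [mem_stabilizer_iff] at hd ⊢
  have := H.κ_smul g d v
  rw [hd, hg] at this
  exact this.symm

theorem inv_fix {g : Γ} {v : V} (hg : g • v = v) : g⁻¹ • v = v := by
  rw [inv_smul_eq_iff, hg]

theorem κ_perp {g : Γ} {v : V} (hg : g • v = v) {x : M} (hx : x ∈ H.perp (stabilizer M v)) :
    H.κ g x ∈ H.perp (stabilizer M v) := by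
  intro d hd
  have := H.b_κ_one g (hx _ (H.κ_stab (inv_fix hg) hd))
  rwa [H.κ_inv] at this

theorem Comp.κ {g : Γ} {v : V} (hg : g • v = v) {m : M} {w : V}
    (h : H.Comp (stabilizer M v) m w) : H.Comp (stabilizer M v) (H.κ g m) (g • w) := by
  intro d hd
  have h1 := h _ (H.κ_stab (inv_fix hg) hd)
  have h2 := H.κ_smul g (H.κ g⁻¹ d) w
  rw [H.κ_inv, h1, ← H.s_smul, H.κ_smul, H.κ_b, H.κ_inv, H.s_smul] at h2
  exact h2.symm

/-- the automorphism of `M ⧸ E` induced by an element fixing `v`. -/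
def τ {g : Γ} {v : V} (hg : g • v = v) :
    M ⧸ H.perp (stabilizer M v) ≃* M ⧸ H.perp (stabilizer M v) :=
  QuotientGroup.congr _ _ (H.κ g) (by
    apply le_antisymm
    · rintro _ ⟨x, hx, rfl⟩
      exact H.κ_perp hg hx
    · intro x hx
      exact ⟨_, H.κ_perp (inv_fix hg) hx, H.κ_inv g x⟩)

theorem τ_mk {g : Γ} {v : V} (hg : g • v = v) (x : M) :
    H.τ hg (x : M ⧸ H.perp (stabilizer M v)) = (H.κ g x : M) := rfl

theorem smul_comp_eq {g : Γ} {v : V} (hg : g • v = v) [Fintype (M ⧸ H.perp (stabilizer M v))]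
    (y : M ⧸ H.perp (stabilizer M v) → V) (hy : ∀ χ, H.Comp (stabilizer M v) χ.out (y χ))
    (h : g • ∑ χ, y χ = ∑ χ, y χ) (χ : M ⧸ H.perp (stabilizer M v)) :
    g • y χ = y (H.τ hg χ) := by
  have := H.comp_indep (fun ψ => g • y ((H.τ hg).symm ψ)) y ?_ hy ?_ (H.τ hg χ)
  · simpa using this
  · intro ψ
    refine ((hy _).κ H hg).congr H ?_
    rw [← H.τ_mk hg]
    simp
  · rw [← h, Finset.smul_sum]
    exact Equiv.sum_comp (H.τ hg).symm.toEquiv (fun χ => g • y χ)

theorem lin_of_A {g : Γ} (hA : ∀ c, H.κ g (H.s c) = H.s c) (c : K) (w : V) :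
    g • (c • w) = c • g • w := by
  by_cases hc : c = 0
  · simp [hc]
  · have h1 := H.κ_smul g (H.s (Units.mk0 c hc)) w
    rw [hA, H.s_smul, H.s_smul] at h1
    exact h1

/-- The last step: an element fixing all the vectors of a frame acts trivially. -/
theorem final {v : V} (hv : v ≠ 0) {g : Γ} (hg : g • v = v)
    (hE : ∀ e ∈ H.perp (stabilizer M v), g • e • v = e • v)
    {c : M ⧸ H.perp (stabilizer M v) → Fin 4} (hc : IsDesign Kˣ c)
    (m : M ⧸ H.perp (stabilizer M v) → M) (hm : ∀ χ, (m χ : M ⧸ H.perp (stabilizer M v)) = χ)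
    (u : M ⧸ H.perp (stabilizer M v) → V) (hu0 : ∀ χ, c χ ≠ 0 → u χ ≠ 0)
    (huD : ∀ χ, ∀ d ∈ stabilizer M v, d • u χ = u χ) (hug : ∀ χ, g • u χ = u χ)
    (hgen : ∀ χ, c χ = 1 ∨ c χ = 2 → ∀ x ∈ H.perp (stabilizer M v), x • u χ = u χ →
      x ∈ stabilizer M v)
    (hτ : ∀ χ, H.τ hg χ = χ) (hy : ∀ χ, c χ ≠ 0 → g • m χ • u χ = m χ • u χ) (w : V) :
    g • w = w := by
  let D := stabilizer M v
  let E := H.perp (stabilizer M v)
  let d : M → M := fun x => x⁻¹ * H.κ g x
  have hdE : ∀ x, d x ∈ E := fun x => QuotientGroup.eq.1 (hτ x).symm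
  have hdmul : ∀ x y, d (x * y) = H.s (H.b (d x) y) * (d x * d y) := by
    intro x y
    have h1 := H.mul_eq y⁻¹ (d x)
    rw [map_inv, MonoidHom.inv_apply, ← H.b_swap] at h1
    calc d (x * y) = (y⁻¹ * d x) * H.κ g y := by simp only [d, map_mul]; group
      _ = _ := by rw [h1]; simp only [d]; group
  have hdact : ∀ x (z : V), g • z = z → g • x • z = x • d x • z := by
    intro x z hz
    rw [H.κ_smul, hz, ← mul_smul]
    simp [d]
  let N : Subgroup M := H.s.range ⊔ D
  haveI : N.Normal := H.normal_of_le le_sup_left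
  let P : Subgroup M :=
    { carrier := {x | d x ∈ N}
      mul_mem' := fun {x y} hx hy => by
        change d (x * y) ∈ N
        rw [hdmul]
        exact mul_mem (Subgroup.mem_sup_left ⟨_, rfl⟩) (mul_mem hx hy)
      one_mem' := by simp [d]
      inv_mem' := fun {x} hx => by
        change d x⁻¹ ∈ N
        have : d x⁻¹ = x * (d x)⁻¹ * x⁻¹ := by simp only [d, map_inv]; group
        rw [this]
        exact Subgroup.Normal.conj_mem inferInstance _ (inv_mem hx) x }
  have hdD : ∀ e ∈ E, d e ∈ D := by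
    intro e he
    have := hE e he
    rw [hdact e v hg] at this
    exact smul_left_cancel e this
  have hEP : E ≤ P := fun e he => Subgroup.mem_sup_right (hdD e he)
  have hP : ∀ x, d x ∈ N := by
    have h1 : Subgroup.closure {χ | c χ = 1 ∨ c χ = 2} ≤ P.map (QuotientGroup.mk' E) := by
      rw [Subgroup.closure_le]
      intro χ hχ
      refine ⟨m χ, Subgroup.mem_sup_right (hgen χ hχ _ (hdE _) ?_), hm χ⟩
      have h0 : c χ ≠ 0 := by
        rcases hχ with h | h <;> rw [h] <;> decide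
      have := hy χ h0
      rw [hdact _ _ (hug χ)] at this
      exact smul_left_cancel _ this
    intro x
    rw [hc.gen] at h1
    obtain ⟨y, hy, hxy⟩ := h1 (Subgroup.mem_top (x : M ⧸ E))
    have h2 : y⁻¹ * x ∈ P := hEP (QuotientGroup.eq.1 hxy)
    have : x ∈ P := by simpa using P.mul_mem hy h2
    exact this
  have hscal : ∀ x, ∃ a : Kˣ, ∀ z : V, (∀ d ∈ D, d • z = z) → d x • z = (a : K) • z := by
    intro x
    obtain ⟨_, ⟨a, rfl⟩, d', hd', h⟩ := Subgroup.mem_sup_of_normal_left.1 (hP x)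
    refine ⟨a, fun z hz => ?_⟩
    rw [← h, mul_smul, hz d' hd', H.s_smul]
  choose a0 ha0 using hscal
  have hvD : ∀ d ∈ D, d • v = v := fun d hd => hd
  have hbE : ∀ x, ∀ e ∈ E, H.b (d x) e = 1 := by
    intro x e he
    obtain ⟨_, ⟨a, rfl⟩, d', hd', h⟩ := Subgroup.mem_sup_of_normal_left.1 (hP x)
    rw [← h, map_mul, MonoidHom.mul_apply, H.b_s_left, he d' hd', one_mul]
  have ha0mul : ∀ x y, a0 (x * y) = a0 x * a0 y * H.b (d x) y := by
    intro x y
    apply Units.ext
    apply smul_cancel hv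
    rw [← ha0 _ v hvD, hdmul, mul_smul, mul_smul, ha0 y v hvD, H.lin, ha0 x v hvD, H.s_smul,
      smul_smul, smul_smul]
    congr 1
    simp only [Units.val_mul]
    ring
  have ha0E : ∀ e ∈ E, a0 e = 1 := by
    intro e he
    apply Units.ext
    apply smul_cancel hv
    rw [← ha0 _ v hvD, hdD e he, Units.val_one, one_smul]
  have ha0congr : ∀ x y : M, (x : M ⧸ E) = y → a0 x = a0 y := by
    intro x y hxy
    have he := QuotientGroup.eq.1 hxy
    have := ha0mul x (x⁻¹ * y)
    rw [mul_inv_cancel_left, ha0E _ he, hbE _ _ he, mul_one, mul_one] at this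
    exact this.symm
  have hsymm : ∀ x y, H.b (d x) y = H.b (d y) x := by
    intro x y
    have h1 := ha0congr (x * y) (y * x) (by
      rw [QuotientGroup.mk_mul, QuotientGroup.mk_mul, mul_comm])
    rw [ha0mul, ha0mul, mul_comm (a0 y)] at h1
    exact mul_left_cancel h1
  let β1 : M →* (M ⧸ E) →* Kˣ := MonoidHom.mk'
    (fun x => QuotientGroup.lift E (H.b (d x)) (hbE x)) (fun x y => by
      ext z
      change ((H.b (d (x * y)) z : Kˣ) : K) = (H.b (d x) z * H.b (d y) z : Kˣ)
      simp [hdmul])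
  let β : (M ⧸ E) →* (M ⧸ E) →* Kˣ := QuotientGroup.lift E β1 (fun e he => by
      ext z
      change ((H.b (d e) z : Kˣ) : K) = (1 : Kˣ)
      rw [hsymm e z, hbE z e he])
  have hβ : ∀ x y : M, β x y = H.b (d x) y := fun _ _ => rfl
  obtain ⟨h1, h2⟩ := hc.quad (fun χ => a0 (m χ)) β (fun χ ψ => by
      rw [← ha0congr (m χ * m ψ) (m (χ * ψ)) (by rw [QuotientGroup.mk_mul, hm, hm, hm]), ha0mul,
        ← hβ, hm, hm]) (fun χ hχ => by
      apply Units.ext
      apply smul_cancel (hu0 χ hχ)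
      have := hy χ hχ
      rw [hdact _ _ (hug χ)] at this
      rw [← ha0 _ _ (huD χ), smul_left_cancel _ this, Units.val_one, one_smul])
  have hκ : ∀ x, H.κ g x = x := by
    intro x
    have h3 : d x ∈ H.s.range := H.nondeg fun y => by rw [← hβ, h1]
    have h4 : d x • v = v := by
      rw [ha0 x v hvD, ha0congr x (m x) (hm _).symm, h2, Units.val_one, one_smul]
    have := H.eq_one_of_Z_fix hv h3 h4
    exact (inv_mul_eq_one.1 this).symm
  obtain ⟨a, ha⟩ := H.selfc g hκ
  have : a = 1 := smul_cancel hv (by rw [← ha, hg, one_smul])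
  rw [ha, this, one_smul]

end Heis

end Cfsg.Agent.SolvLin
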