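import Cfsg.Agent.SolvLin.Frame

/-!
# Choice of the frame vector and of the second vector in the zero component
-/

set_option autoImplicit false
set_option linter.style.haveILetI false

namespace Cfsg.Agent.SolvLin

open MulAction

variable {K V Γ M : Type*} [Field K] [AddCommGroup V] [Module K V] [Group Γ]
  [DistribMulAction Γ V] [Group M] [DistribMulAction M V]

theorem field_sq_add_sq [Finite K] (x : K) : ∃ a b : K, a ^ 2 + b ^ 2 = x := by
  haveI := Fintype.ofFinite K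
  by_cases h2 : ringChar K = 2
  · obtain ⟨a, ha⟩ := FiniteField.isSquare_of_char_two h2 x
    exact ⟨a, 0, by rw [ha]; ring⟩
  · obtain ⟨a, b, hab⟩ := FiniteField.exists_root_sum_quadratic (R := K)
      (f := Polynomial.X ^ 2) (g := Polynomial.X ^ 2 - Polynomial.C x)
      (Polynomial.degree_X_pow 2) (Polynomial.degree_X_pow_sub_C (by decide) _)
      (FiniteField.odd_card_of_char_ne_two h2)
    refine ⟨a, b, ?_⟩
    rw [← sub_eq_zero]
    simpa [← add_sub_assoc] using hab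

theorem lin_of_sq [Finite K] {ζ : Kˣ} (hζ : ∀ c : Kˣ, c ∈ Subgroup.zpowers ζ) (g : Γ)
    (h : ∀ w : V, g • ((ζ : K) ^ 2 • w) = (ζ : K) ^ 2 • g • w) (c : K) (w : V) :
    g • (c • w) = c • g • w := by
  classical
  have h1 : ∀ (k : ℕ) (w : V), g • (((ζ : K) ^ 2) ^ k • w) = ((ζ : K) ^ 2) ^ k • g • w := by
    intro k
    induction k with
    | zero => simp
    | succ k ih => intro w; rw [pow_succ, mul_smul, ih, h, mul_smul]
  have h2 : ∀ (a : K) (w : V), g • (a ^ 2 • w) = a ^ 2 • g • w := by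
    intro a w
    by_cases ha : a = 0
    · simp [ha]
    · obtain ⟨k, hk⟩ := (mem_zpowers_iff_mem_range_orderOf.1 (hζ (Units.mk0 a ha)))
        |> Finset.mem_image.1
      have : a = (ζ : K) ^ k := by
        have := congrArg Units.val hk.2
        simpa using this.symm
      rw [this, ← pow_mul, mul_comm, pow_mul, h1]
  obtain ⟨a, b, rfl⟩ := field_sq_add_sq c
  rw [add_smul, smul_add, h2, h2, add_smul]

/-- `v` has a maximal stabilizer in `M` among nonzero vectors. -/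
def IsMaxV (M : Type*) [Group M] [DistribMulAction M V] (v : V) : Prop :=
  v ≠ 0 ∧ ∀ w : V, w ≠ 0 → stabilizer M v ≤ stabilizer M w → stabilizer M w ≤ stabilizer M v

theorem exists_isMaxV [Finite M] [Nontrivial V] : ∃ v : V, IsMaxV M v := by
  obtain ⟨v0, hv0⟩ := exists_ne (0 : V)
  obtain ⟨D, -, ⟨v, hv, rfl⟩, hmax⟩ := Finite.exists_le_maximal
    (p := fun D : Subgroup M => ∃ v : V, v ≠ 0 ∧ stabilizer M v = D) ⟨v0, hv0, rfl⟩
  exact ⟨v, hv, fun w hw h => hmax ⟨w, hw, rfl⟩ h⟩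

namespace Heis
variable (H : Heis K V Γ M)

theorem A_of_lin {g : Γ} (h : ∀ (c : K) (w : V), g • (c • w) = c • g • w) (c : Kˣ) :
    H.κ g (H.s c) = H.s c := by
  apply H.ext_smul
  intro w
  have := H.κ_smul g (H.s c) (g⁻¹ • w)
  rw [smul_inv_smul, H.s_smul, h, smul_inv_smul] at this
  rw [← this, H.s_smul]

theorem mem_sup_iff {v : V} {x : M} :
    x ∈ H.s.range ⊔ stabilizer M v ↔ ∃ c : Kˣ, x • v = (c : K) • v := by
  constructor
  · intro hx
    obtain ⟨_, ⟨a, rfl⟩, d, hd, rfl⟩ := Subgroup.mem_sup_of_normal_left.1 hx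
    exact ⟨a, by rw [mul_smul, mem_stabilizer_iff.1 hd, H.s_smul]⟩
  · rintro ⟨c, hc⟩
    refine Subgroup.mem_sup_of_normal_left.2 ⟨H.s c, ⟨c, rfl⟩, (H.s c)⁻¹ * x, ?_, by group⟩
    rw [mem_stabilizer_iff, mul_smul, hc, ← H.s_smul, inv_smul_smul]

theorem sup_le_perp {v : V} (hv : v ≠ 0) :
    H.s.range ⊔ stabilizer M v ≤ H.perp (stabilizer M v) :=
  sup_le (H.Z_le_perp _) (H.stab_le_perp hv)

theorem b_sup {v : V} {n x : M} (hn : n ∈ H.s.range ⊔ stabilizer M v)
    (hx : x ∈ H.perp (stabilizer M v)) : H.b n x = 1 := by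
  obtain ⟨_, ⟨a, rfl⟩, d, hd, rfl⟩ := Subgroup.mem_sup_of_normal_left.1 hn
  rw [map_mul, MonoidHom.mul_apply, H.b_s_left, hx d hd, one_mul]

include H in
theorem pow_smul_eq {x : M} {v : V} {c : K} (h : x • v = c • v) (k : ℕ) :
    x ^ k • v = c ^ k • v := by
  induction k with
  | zero => simp
  | succ k ih => rw [pow_succ, mul_smul, h, H.lin, ih, smul_smul, pow_succ, mul_comm]

theorem pow_card_of_mem_sup {v : V} (hv : v ≠ 0) {x : M} (hx : x ∈ H.s.range ⊔ stabilizer M v) :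
    x ^ Nat.card Kˣ = 1 := by
  obtain ⟨c, hc⟩ := H.mem_sup_iff.1 hx
  refine H.eq_one_of_Z_fix hv (H.pow_card_mem x) ?_
  rw [H.pow_smul_eq hc, ← Units.val_pow_eq_pow_val, pow_card_eq_one', Units.val_one, one_smul]

theorem mem_sup_of_pow [Finite K] {v : V} (hv : IsMaxV M v) {x : M}
    (hxE : x ∈ H.perp (stabilizer M v)) (hx : x ^ Nat.card Kˣ = 1) :
    x ∈ H.s.range ⊔ stabilizer M v := by
  classical
  haveI := Fintype.ofFinite K
  set n := Nat.card Kˣ with hn
  have hnpos : 0 < n := Nat.card_pos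
  let f : Kˣ → ℕ → V := fun c k => ((c⁻¹ : Kˣ) : K) ^ k • x ^ k • v
  let w : Kˣ → V := fun c => ∑ k ∈ Finset.range n, f c k
  have hw : ∀ c, x • w c = (c : K) • w c := by
    intro c
    have h1 : ∀ k, x • f c k = (c : K) • f c (k + 1) := by
      intro k
      simp only [f]
      rw [H.lin, ← mul_smul x, ← pow_succ', smul_smul, pow_succ' ((c⁻¹ : Kˣ) : K), ← mul_assoc]
      congr 1
      simp
    have h2 : f c n = f c 0 := by
      simp only [f]
      rw [hx, ← Units.val_pow_eq_pow_val, hn, pow_card_eq_one']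
      simp
    have h3 : ∑ k ∈ Finset.range n, f c (k + 1) = w c := by
      have := (Finset.sum_range_succ' (f c) n).symm.trans (Finset.sum_range_succ (f c) n)
      rw [h2] at this
      exact add_right_cancel this
    simp only [w]
    rw [Finset.smul_sum, Finset.sum_congr rfl (fun k _ => h1 k), ← Finset.smul_sum, h3]
  have hsum : ∑ c, w c = -v := by
    simp only [w, f]
    rw [Finset.sum_comm]
    simp only [← Finset.sum_smul]
    have h4 : ∀ k, ∑ c : Kˣ, ((c⁻¹ : Kˣ) : K) ^ k = if n ∣ k then -1 else 0 := by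
      intro k
      rw [hn, Nat.card_eq_fintype_card, Fintype.card_units, ← FiniteField.sum_pow_units]
      exact Equiv.sum_comp (Equiv.inv Kˣ) (fun c : Kˣ => (c : K) ^ k)
    simp only [h4]
    rw [Finset.sum_eq_single 0]
    · simp
    · intro k hk hk0
      rw [if_neg (Nat.not_dvd_of_pos_of_lt (Nat.pos_of_ne_zero hk0) (Finset.mem_range.1 hk)),
        zero_smul]
    · intro h
      exact absurd (Finset.mem_range.2 hnpos) h
  obtain ⟨c, hc⟩ : ∃ c, w c ≠ 0 := by
    by_contra hcon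
    push Not at hcon
    rw [Finset.sum_eq_zero (fun c _ => hcon c)] at hsum
    exact hv.1 (neg_eq_zero.1 hsum.symm)
  have hle : stabilizer M v ≤ stabilizer M (w c) := by
    intro d hd
    rw [mem_stabilizer_iff]
    simp only [w, f]
    rw [Finset.smul_sum]
    refine Finset.sum_congr rfl fun k _ => ?_
    rw [H.lin, H.perp_fix (pow_mem hxE k) (fun d hd => hd) d hd]
  have := H.mem_sup_iff.2 ⟨c, hw c⟩
  rwa [le_antisymm (hv.2 _ hc hle) hle] at this

/-- the data of the minus type. -/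
structure Minus (v : V) (i j : M) : Prop where
  card : Nat.card Kˣ % 4 = 2
  iE : i ∈ H.perp (stabilizer M v)
  jE : j ∈ H.perp (stabilizer M v)
  ii : i * i = H.s (-1)
  jj : j * j = H.s (-1)
  ij : H.b i j = -1
  iN : i ∉ H.s.range ⊔ stabilizer M v
  gen : ∀ e ∈ H.perp (stabilizer M v), ∃ n ∈ H.s.range ⊔ stabilizer M v,
    e = n ∨ e = n * i ∨ e = n * j ∨ e = n * (i * j)

theorem exists_minus [Finite K] [Finite M] {v : V} (hv : IsMaxV M v) {i0 : M}
    (hi0 : i0 ∈ H.perp (stabilizer M v)) (hi0N : i0 ∉ H.s.range ⊔ stabilizer M v) :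
    ∃ i j, H.Minus v i j := by
  set N := H.s.range ⊔ stabilizer M v with hN
  set E := H.perp (stabilizer M v) with hE
  have hcard : Nat.card Kˣ % 4 = 2 := by
    by_contra h
    exact hi0N (H.mem_sup_of_pow hv hi0 (H.pow_card_eq_one_of h i0))
  obtain ⟨k, hk, hkodd⟩ : ∃ k, Nat.card Kˣ = k * 2 ∧ Odd k :=
    ⟨Nat.card Kˣ / 2, by omega, Nat.odd_iff.2 (by omega)⟩
  have hQ : ∀ x ∈ E, x ∉ N → x ^ Nat.card Kˣ = H.s (-1) := by
    intro x hx hxN
    obtain ⟨c, hc⟩ := H.pow_card_mem x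
    have h1 : c ^ 2 = 1 := H.s_inj (by
      rw [map_pow, hc, ← pow_mul, mul_comm, H.pow_two_mul_card, map_one])
    have h2 : (c : K) ^ 2 = 1 := by rw [← Units.val_pow_eq_pow_val, h1, Units.val_one]
    rcases sq_eq_one_iff.1 h2 with h | h
    · exfalso
      apply hxN
      apply H.mem_sup_of_pow hv hx
      rw [← hc, Units.ext (u := c) (v := 1) h, map_one]
    · rw [← hc, Units.ext (u := c) (v := -1) h]
  have hne : (-1 : Kˣ) ≠ 1 := by
    intro h
    apply hi0N
    apply H.mem_sup_of_pow hv hi0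
    rw [hQ i0 hi0 hi0N, h, map_one]
  have hpow : ∀ x ∈ E, x ∉ N → x ^ k ∉ N := by
    intro x hx hxN h
    have := H.pow_card_of_mem_sup hv.1 h
    rw [← pow_mul, mul_comm, pow_mul, hQ x hx hxN, ← map_pow, hkodd.neg_one_pow] at this
    exact hne (H.s_inj (this.trans (map_one _).symm))
  have hsq : ∀ x ∈ E, x ∉ N → x ^ k * x ^ k = H.s (-1) := by
    intro x hx hxN
    rw [← hQ x hx hxN, hk, pow_mul, sq]
  have hiE : i0 ^ k ∈ E := pow_mem hi0 k
  have hiN := hpow i0 hi0 hi0N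
  have hii := hsq i0 hi0 hi0N
  generalize i0 ^ k = i at hiE hiN hii
  obtain ⟨w, hw1, hw2⟩ := H.separate (N := N) le_sup_left hiN
  have hwE : w ∈ E := fun d hd => hw1 d (Subgroup.mem_sup_right hd)
  have hwN : w ∉ N := fun h => hw2 (H.b_swap_one (H.b_sup h hiE))
  have hbw : H.b i w = -1 := by
    have h1 : H.b i w ^ 2 = 1 := by
      rw [← MonoidHom.pow_apply, ← map_pow, sq, hii, H.b_s_left]
    have h2 : (H.b i w : K) ^ 2 = 1 := by rw [← Units.val_pow_eq_pow_val, h1, Units.val_one]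
    rcases sq_eq_one_iff.1 h2 with h | h
    · exact absurd (Units.ext h) hw2
    · exact Units.ext h
  have hjE : w ^ k ∈ E := pow_mem hwE k
  have hij : H.b i (w ^ k) = -1 := by rw [map_pow, hbw, hkodd.neg_one_pow]
  have hjj := hsq w hwE hwN
  generalize w ^ k = j at hjE hij hjj
  refine ⟨i, j, hcard, hiE, hjE, hii, hjj, hij, hiN, ?_⟩
  have hC : Odd ((Nat.card Kˣ).choose 2) := by
    have : (Nat.card Kˣ).choose 2 = k * (Nat.card Kˣ - 1) := by
      rw [Nat.choose_two_right]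
      generalize hm : Nat.card Kˣ - 1 = m
      rw [hk, mul_right_comm, Nat.mul_div_cancel _ two_pos]
    rw [this]
    exact hkodd.mul (Nat.odd_iff.2 (by omega))
  have haniso : ∀ x ∈ E, ∀ y ∈ E, x ∉ N → y ∉ N → x * y ∉ N →
      H.b y x ^ (Nat.card Kˣ).choose 2 = -1 := by
    intro x hx y hy hxN hyN hxyN
    have := H.mul_pow_eq x y (Nat.card Kˣ)
    rw [hQ x hx hxN, hQ y hy hyN, hQ _ (mul_mem hx hy) hxyN, ← map_mul, ← map_mul] at this
    have h2 := H.s_inj this
    rw [neg_mul_neg, one_mul, mul_one] at h2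
    exact h2.symm
  intro e he
  by_contra hcon
  push Not at hcon
  have h1 : e ∉ N := fun h => (hcon e h).1 rfl
  have h2 : e * i⁻¹ ∉ N := fun h => (hcon _ h).2.1 (by group)
  have h3 : e * j⁻¹ ∉ N := fun h => (hcon _ h).2.2.1 (by group)
  have h4 : e * j⁻¹ * i⁻¹ ∉ N := fun h => (hcon _ h).2.2.2 (by group)
  have hiN' : i⁻¹ ∉ N := fun h => hiN (by simpa using h)
  have h5 := haniso e he i⁻¹ (inv_mem hiE) h1 hiN' h2
  have h6 := haniso (e * j⁻¹) (mul_mem he (inv_mem hjE)) i⁻¹ (inv_mem hiE) h3 hiN' h4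
  rw [map_mul, mul_pow, h5] at h6
  simp only [map_inv, MonoidHom.inv_apply, inv_inv, hij, hC.neg_one_pow] at h6
  exact hne (by simpa using h6.symm)

theorem Minus.congr {v w : V} {i j : M} (h : H.Minus v i j)
    (hvw : stabilizer M w = stabilizer M v) : H.Minus w i j := by
  obtain ⟨h1, h2, h3, h4, h5, h6, h7, h8⟩ := h
  constructor <;> first | assumption | (rw [hvw]; assumption)

theorem frame_cases [Finite K] [Finite M] : ∃ v : V, IsMaxV M v ∧
    (H.perp (stabilizer M v) ≤ H.s.range ⊔ stabilizer M v ∨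
      ∃ i j, H.Minus v i j ∧ ∃ α β : K, j • v = α • v + β • i • v) := by
  haveI := H.nontriv
  obtain ⟨v, hv⟩ := exists_isMaxV (M := M) (V := V)
  by_cases h : H.perp (stabilizer M v) ≤ H.s.range ⊔ stabilizer M v
  · exact ⟨v, hv, Or.inl h⟩
  obtain ⟨i0, hi0, hi0N⟩ := SetLike.not_le_iff_exists.1 h
  obtain ⟨i, j, hm⟩ := H.exists_minus hv hi0 hi0N
  obtain ⟨a, b, hab⟩ := field_sq_add_sq (-1 : K)
  have hji : ∀ w : V, i • j • w = -(j • i • w) := by
    intro w
    rw [← mul_smul, H.mul_eq i j, hm.ij, mul_smul, H.s_smul, mul_smul]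
    simp
  have hi2 : ∀ w : V, i • i • w = -w := by
    intro w
    rw [← mul_smul, hm.ii, H.s_smul]
    simp
  have hj2 : ∀ w : V, j • j • w = -w := by
    intro w
    rw [← mul_smul, hm.jj, H.s_smul]
    simp
  obtain ⟨w, hw0, hwD, σ, hσ0, hσ⟩ : ∃ w : V, w ≠ 0 ∧ stabilizer M v ≤ stabilizer M w ∧
      ∃ σ : K, σ ≠ 0 ∧ a • i • w + b • j • w = σ • w := by
    by_cases h0 : v + (a • i • v + b • j • v) = 0
    · exact ⟨v, hv.1, le_rfl, -1, by simp, by
        rw [neg_smul, one_smul]; exact (neg_eq_of_add_eq_zero_right h0).symm⟩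
    · refine ⟨_, h0, ?_, 1, one_ne_zero, ?_⟩
      · intro d hd
        rw [mem_stabilizer_iff, smul_add, smul_add, H.lin, H.lin,
          H.perp_fix hm.iE (fun d hd => hd) d hd, H.perp_fix hm.jE (fun d hd => hd) d hd,
          mem_stabilizer_iff.1 hd]
      · simp only [smul_add, H.lin, hi2, hj2, hji, one_smul]
        have : v = (-(a ^ 2 + b ^ 2)) • v := by rw [hab]; simp
        generalize j • i • v = p at *
        generalize i • v = q at *
        generalize j • v = r at *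
        linear_combination (norm := module) -this
  have hst : stabilizer M w = stabilizer M v := le_antisymm (hv.2 w hw0 hwD) hwD
  have hm' := hm.congr H hst
  refine ⟨w, ⟨hw0, fun u hu h => ?_⟩, Or.inr ⟨i, j, hm', b⁻¹ * σ, -(b⁻¹ * a), ?_⟩⟩
  · rw [hst] at h ⊢
    exact hv.2 u hu h
  · have hb : b ≠ 0 := by
      rintro rfl
      rw [zero_smul, add_zero] at hσ
      have ha : a ≠ 0 := by
        rintro rfl
        simp at hab
      apply hm'.iN
      refine H.mem_sup_iff.2 ⟨Units.mk0 (a⁻¹ * σ) (mul_ne_zero (inv_ne_zero ha) hσ0), ?_⟩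
      rw [Units.val_mk0, mul_smul, ← hσ, smul_smul, inv_mul_cancel₀ ha, one_smul]
    have : j • w = b⁻¹ • b • j • w := by rw [smul_smul, inv_mul_cancel₀ hb, one_smul]
    rw [this, mul_smul, ← hσ]
    generalize j • w = p
    generalize i • w = q
    module

/-- `(v, y)` controls the zero component. -/
def Pair (v y : V) : Prop :=
  (∀ d ∈ stabilizer M v, d • y = y) ∧ ∀ g : Γ, g • v = v → g • y = y →
    (∀ (c : K) (w : V), g • (c • w) = c • g • w) ∧
      ∀ e ∈ H.perp (stabilizer M v), g • e • v = e • v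

theorem pair_of [Finite K] {v : V} (hv : v ≠ 0) {i : M} (hi : i ∈ H.perp (stabilizer M v))
    (hii : i * i = 1 ∨ i * i = H.s (-1))
    (hspan : ∀ e ∈ H.perp (stabilizer M v), ∃ α β : K, e • v = α • v + β • i • v) :
    ∃ y, H.Pair v y := by
  obtain ⟨ζ, hζ⟩ := IsCyclic.exists_generator (α := Kˣ)
  let t := H.s ζ * i
  have htE : t ∈ H.perp (stabilizer M v) := mul_mem (H.Z_le_perp _ ⟨ζ, rfl⟩) hi
  obtain ⟨ε, hε, hε'⟩ : ∃ ε : Kˣ, i * i = H.s ε ∧ ((ε : K) = 1 ∨ (ε : K) = -1) := by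
    rcases hii with h | h
    · exact ⟨1, by simpa using h, Or.inl rfl⟩
    · exact ⟨-1, h, Or.inr rfl⟩
  have htt : t * t = H.s (ε * ζ ^ 2) := by
    rw [← sq, H.s_mul_pow, sq i, hε, ← map_mul, mul_comm]
  refine ⟨t • v, H.perp_fix htE (fun d hd => hd), fun g hg hy => ?_⟩
  have hx : t⁻¹ * H.κ g t ∈ stabilizer M v := by
    rw [mem_stabilizer_iff, mul_smul, inv_smul_eq_iff, ← hy, H.κ_smul, hg]
  have hcomm : Commute (t⁻¹ * H.κ g t) t := H.b_eq_one_iff.1 (htE _ hx)
  have h1 : H.κ g (t * t) = t * t * ((t⁻¹ * H.κ g t) * (t⁻¹ * H.κ g t)) := by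
    rw [map_mul]
    calc H.κ g t * H.κ g t = t * ((t⁻¹ * H.κ g t) * t) * (t⁻¹ * H.κ g t) := by group
      _ = _ := by rw [hcomm.eq]; group
  have h2 : (t⁻¹ * H.κ g t) * (t⁻¹ * H.κ g t) = 1 := by
    refine H.eq_one_of_Z_fix hv ?_ (mul_mem hx hx)
    have h3 : t * t ∈ H.s.range := ⟨_, htt.symm⟩
    have := mul_mem (inv_mem h3) (H.κ_Z g h3)
    rwa [h1, inv_mul_cancel_left] at this
  rw [h2, mul_one, htt] at h1
  have hlin : ∀ (c : K) (w : V), g • (c • w) = c • g • w := by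
    refine lin_of_sq hζ g (fun w => ?_)
    have h4 := H.κ_smul g (H.s (ε * ζ ^ 2)) w
    rw [h1, H.s_smul, H.s_smul, Units.val_mul, Units.val_pow_eq_pow_val] at h4
    rcases hε' with h | h
    · simpa [h] using h4
    · simpa [h] using h4
  refine ⟨hlin, fun e he => ?_⟩
  obtain ⟨α, β, h⟩ := hspan e he
  have h5 : g • i • v = i • v := by
    have h6 : g • (ζ : K) • i • v = (ζ : K) • i • v := by
      simpa only [t, mul_smul, H.s_smul] using hy
    rw [hlin] at h6
    exact smul_right_injective V ζ.ne_zero h6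
  rw [h, smul_add, hlin, hlin, hg, h5]

theorem pair_plus [Finite K] {v : V} (hv : v ≠ 0)
    (h : H.perp (stabilizer M v) ≤ H.s.range ⊔ stabilizer M v) : ∃ y, H.Pair v y := by
  refine H.pair_of hv (one_mem _) (Or.inl (mul_one 1)) (fun e he => ?_)
  obtain ⟨c, hc⟩ := H.mem_sup_iff.1 (h he)
  exact ⟨c, 0, by simpa using hc⟩

theorem pair_minus [Finite K] {v : V} (hv : v ≠ 0) {i j : M} (hm : H.Minus v i j) {α β : K}
    (hj : j • v = α • v + β • i • v) : ∃ y, H.Pair v y := by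
  refine H.pair_of hv hm.iE (Or.inr hm.ii) (fun e he => ?_)
  obtain ⟨n, hn, h⟩ := hm.gen e he
  obtain ⟨_, ⟨c, rfl⟩, d, hd, rfl⟩ := Subgroup.mem_sup_of_normal_left.1 hn
  have hfix : ∀ x ∈ H.perp (stabilizer M v), (H.s c * d * x) • v = (c : K) • x • v := by
    intro x hx
    rw [mul_smul, mul_smul, H.perp_fix hx (fun d hd => hd) d hd, H.s_smul]
  have hi2 : i • i • v = -v := by
    rw [← mul_smul, hm.ii, H.s_smul]
    simp
  rcases h with rfl | rfl | rfl | rfl
  · exact ⟨c, 0, by simpa using hfix 1 (one_mem _)⟩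
  · exact ⟨0, c, by simpa using hfix i hm.iE⟩
  · exact ⟨c * α, c * β, by rw [hfix j hm.jE, hj]; generalize i • v = q; module⟩
  · refine ⟨-(c * β), c * α, ?_⟩
    rw [hfix _ (mul_mem hm.iE hm.jE), mul_smul, hj, smul_add, H.lin, H.lin, hi2]
    generalize i • v = q
    module

theorem exists_pair [Finite K] [Finite M] : ∃ v y : V, v ≠ 0 ∧ H.Pair v y := by
  obtain ⟨v, hv, h | ⟨i, j, hm, α, β, hj⟩⟩ := H.frame_cases
  · obtain ⟨y, hy⟩ := H.pair_plus hv.1 h
    exact ⟨v, y, hv.1, hy⟩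
  · obtain ⟨y, hy⟩ := H.pair_minus hv.1 hm hj
    exact ⟨v, y, hv.1, hy⟩

end Heis

end Cfsg.Agent.SolvLin
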