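import Cfsg.Agent.SolvLin.Defs

/-!
# The symplectic-type normal subgroup of a quasi-primitive solvable linear group
-/

set_option autoImplicit false
set_option linter.style.haveILetI false
open scoped commutatorElement

namespace Cfsg.Agent.SolvLin

/-- `M` is a group of `K`-linear maps of `V`, containing the scalars with abelian quotient, and
normalized by `Γ` (conjugation is `κ`). -/
structure Heis (K V Γ M : Type*) [Field K] [AddCommGroup V] [Module K V] [Group Γ]
    [DistribMulAction Γ V] [Group M] [DistribMulAction M V] where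
  s : Kˣ →* M
  s_smul : ∀ (c : Kˣ) (v : V), s c • v = (c : K) • v
  lin : ∀ (m : M) (c : K) (v : V), m • (c • v) = c • m • v
  faithful : ∀ m : M, (∀ v : V, m • v = v) → m = 1
  κ : Γ →* MulAut M
  κ_smul : ∀ (g : Γ) (m : M) (v : V), g • (m • v) = κ g m • (g • v)
  κ_s : ∀ (g : Γ) (c : Kˣ), ∃ c', κ g (s c) = s c'
  b : M →* M →* Kˣ
  mul_eq : ∀ x y : M, x * y = s (b x y) * (y * x)
  noiso : ∀ B : Subgroup M, (∀ g, ∀ x ∈ B, κ g x ∈ B) → (∀ x ∈ B, ∀ y ∈ B, b x y = 1) →
    B ≤ s.range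
  selfc : ∀ g : Γ, (∀ m, κ g m = m) → ∃ c : K, ∀ v : V, g • v = c • v
  inner : ∀ m : M, ∃ g : Γ, κ g = MulAut.conj m
  nontriv : Nontrivial V

variable {K V Γ : Type*} [Field K] [AddCommGroup V] [Module K V] [Group Γ] [DistribMulAction Γ V]

namespace Setup
variable (S : Setup K V Γ)

theorem s_inj : Function.Injective S.s := by
  rw [injective_iff_map_eq_one]
  intro c hc
  haveI := S.nontriv
  obtain ⟨v, hv⟩ := exists_ne (0 : V)
  have h := S.s_smul c v
  rw [hc, one_smul] at h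
  have h2 : ((c : K) - 1) • v = 0 := by rw [sub_smul, one_smul, ← h, sub_self]
  rcases smul_eq_zero.1 h2 with h3 | h3
  · exact Units.ext (sub_eq_zero.1 h3)
  · exact absurd h3 hv

theorem lin_of_comm {g : Γ} (hg : ∀ c, S.s c * g = g * S.s c) (c : K) (v : V) :
    g • (c • v) = c • g • v := by
  by_cases hc : c = 0
  · simp [hc]
  · have h1 := S.s_smul (Units.mk0 c hc) v
    have h2 := S.s_smul (Units.mk0 c hc) (g • v)
    simp only [Units.val_mk0] at h1 h2
    rw [← h1, ← h2, ← mul_smul, ← mul_smul, hg]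

theorem exists_core [Finite Γ] : ∃ M : Subgroup Γ, M.Normal ∧ S.s.range ≤ M ∧
    (∀ x ∈ M, ∀ c, S.s c * x = x * S.s c) ∧ (∀ x ∈ M, ∀ y ∈ M, ⁅x, y⁆ ∈ S.s.range) ∧
    ∀ g : Γ, (∀ m ∈ M, g * m = m * g) → g ∈ S.s.range := by
  classical
  haveI := S.normal
  haveI := S.solv
  let P : Subgroup Γ → Prop := fun M => M.Normal ∧ S.s.range ≤ M ∧
    (∀ x ∈ M, ∀ c, S.s c * x = x * S.s c) ∧ (∀ x ∈ M, ∀ y ∈ M, ⁅x, y⁆ ∈ S.s.range)
  have hP0 : P S.s.range := by
    refine ⟨S.normal, le_rfl, ?_, ?_⟩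
    · rintro _ ⟨d, rfl⟩ c
      rw [← map_mul, ← map_mul, mul_comm]
    · intro x hx y hy
      rw [commutatorElement_def]
      exact mul_mem (mul_mem (mul_mem hx hy) (inv_mem hx)) (inv_mem hy)
  obtain ⟨M, hM, hmax⟩ := Finite.exists_le_maximal (p := P) hP0 |>.imp fun M h => h.2
  obtain ⟨hMn, hZM, hMA, hMc⟩ := hM
  refine ⟨M, hMn, hZM, hMA, hMc, ?_⟩
  by_contra hcon
  push Not at hcon
  obtain ⟨g0, hg0, hg0Z⟩ := hcon
  let C : Subgroup Γ := Subgroup.centralizer (M : Set Γ)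
  haveI hCn : C.Normal := Subgroup.normal_centralizer
  let Q : Subgroup Γ → Prop := fun B => B.Normal ∧ B ≤ C ∧ ¬ B ≤ S.s.range
  have hQ0 : Q C := ⟨hCn, le_rfl, fun h => hg0Z (h (fun m hm => (hg0 m hm).symm))⟩
  obtain ⟨B, hB, hmin⟩ := Finite.exists_le_minimal (p := Q) hQ0 |>.imp fun M h => h.2
  obtain ⟨hBn, hBC, hBZ⟩ := hB
  have hBne : B ≠ ⊥ := fun h => hBZ (h ▸ bot_le)
  have hlt : ⁅B, B⁆ < B := Group.IsSolvable.commutator_lt_of_ne_bot hBne
  have hBB : ⁅B, B⁆ ≤ S.s.range := by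
    by_contra h
    have := hmin (y := ⁅B, B⁆) ⟨inferInstance, hlt.le.trans hBC, h⟩ hlt.le
    exact absurd this hlt.not_ge
  have hcomm : ∀ x ∈ B, ∀ m ∈ M, m * x = x * m := fun x hx m hm => hBC hx m hm
  have hP1 : P (M ⊔ B) := by
    refine ⟨inferInstance, hZM.trans le_sup_left, ?_, ?_⟩
    · intro x hx c
      obtain ⟨m, hm, y, hy, rfl⟩ := Subgroup.mem_sup_of_normal_left.1 hx
      rw [← mul_assoc, hMA m hm, mul_assoc, hcomm y hy _ (hZM ⟨c, rfl⟩), mul_assoc]
    · intro x hx x' hx'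
      obtain ⟨m, hm, y, hy, rfl⟩ := Subgroup.mem_sup_of_normal_left.1 hx
      obtain ⟨m', hm', y', hy', rfl⟩ := Subgroup.mem_sup_of_normal_left.1 hx'
      have h1 : ⁅m * y, m' * y'⁆ = ⁅m, m'⁆ * ⁅y, y'⁆ := by
        have a1 : Commute m y := hcomm y hy m hm
        have a2 : Commute m y' := hcomm y' hy' m hm
        have a3 : Commute m' y := hcomm y hy m' hm'
        have a4 : Commute m' y' := hcomm y' hy' m' hm'
        simp only [commutatorElement_def, mul_inv_rev]
        have e1 : y * (m' * y') = m' * (y * y') := by rw [← mul_assoc, ← a3.eq, mul_assoc]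
        have hc : ∀ z ∈ B, ∀ n ∈ M, z * n = n * z := fun z hz n hn => (hcomm z hz n hn).symm
        calc m * y * (m' * y') * (y⁻¹ * m⁻¹) * (y'⁻¹ * m'⁻¹)
            = m * (y * (m' * y')) * y⁻¹ * m⁻¹ * (y'⁻¹ * m'⁻¹) := by group
          _ = m * m' * ((y * y' * y⁻¹) * m⁻¹) * (y'⁻¹ * m'⁻¹) := by rw [e1]; group
          _ = m * m' * (m⁻¹ * (y * y' * y⁻¹)) * (y'⁻¹ * m'⁻¹) := by
            rw [hc _ (mul_mem (mul_mem hy hy') (inv_mem hy)) _ (inv_mem hm)]
          _ = m * m' * m⁻¹ * ((y * y' * y⁻¹ * y'⁻¹) * m'⁻¹) := by group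
          _ = m * m' * m⁻¹ * (m'⁻¹ * (y * y' * y⁻¹ * y'⁻¹)) := by
            rw [hc _ (mul_mem (mul_mem (mul_mem hy hy') (inv_mem hy)) (inv_mem hy')) _
              (inv_mem hm')]
          _ = _ := by group
      rw [h1]
      exact mul_mem (hMc m hm m' hm') (hBB (Subgroup.commutator_mem_commutator hy hy'))
  have hBM : B ≤ M := le_sup_right.trans (hmax hP1 le_sup_left)
  have hab : B ⊔ S.s.range ≤ S.s.range := by
    refine S.maxab _ inferInstance ?_ le_sup_right
    intro x hx y hy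
    have hxC : x ∈ C := by
      refine (sup_le hBC ?_ : B ⊔ S.s.range ≤ C) hx
      rintro _ ⟨c, rfl⟩ m hm
      exact (hMA m hm c).symm
    exact (hxC y ((sup_le hBM hZM : B ⊔ S.s.range ≤ M) hy)).symm
  exact hBZ (le_sup_left.trans hab)

theorem exists_heis [Finite Γ] : ∃ (M : Subgroup Γ) (H : Heis K V Γ M),
    ∀ g ∈ S.s.range, H.κ g = 1 := by
  classical
  obtain ⟨M, hMn, hZM, hMA, hMc, hself⟩ := S.exists_core
  haveI := S.normal
  let sM : Kˣ →* M := S.s.codRestrict M (fun c => hZM ⟨c, rfl⟩)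
  have hb : ∀ x y : M, ∃ c : Kˣ, S.s c = ⁅(x : Γ), (y : Γ)⁆ := fun x y => hMc x x.2 y y.2
  choose b0 hb0 using hb
  have hbl : ∀ x x' y : M, b0 (x * x') y = b0 x y * b0 x' y := by
    intro x x' y
    apply S.s_inj
    have h := hMA x x.2 (b0 x' y)
    have h2 : S.s (b0 x y) * S.s (b0 x' y) = S.s (b0 x' y) * S.s (b0 x y) := by
      rw [← map_mul, ← map_mul, mul_comm]
    rw [hb0] at h
    rw [map_mul, h2, hb0, hb0, hb0]
    simp only [commutatorElement_def, Subgroup.coe_mul] at h ⊢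
    calc (x : Γ) * x' * y * (x * x' : Γ)⁻¹ * (y : Γ)⁻¹
        = x * (x' * y * (x' : Γ)⁻¹ * (y : Γ)⁻¹) * (y * (x : Γ)⁻¹ * (y : Γ)⁻¹) := by group
      _ = _ := by rw [← h]; group
  have hbr : ∀ x y y' : M, b0 x (y * y') = b0 x y * b0 x y' := by
    intro x y y'
    apply S.s_inj
    rw [map_mul, hb0, hb0, hb0]
    have h := hMA y y.2 (b0 x y')
    rw [hb0] at h
    simp only [commutatorElement_def, Subgroup.coe_mul] at h ⊢
    calc (x : Γ) * (y * y') * (x : Γ)⁻¹ * (y * y' : Γ)⁻¹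
        = x * y * (x : Γ)⁻¹ * (y : Γ)⁻¹ * ((y * (x * y' * (x : Γ)⁻¹ * (y' : Γ)⁻¹)) * (y : Γ)⁻¹) := by
          group
      _ = _ := by rw [← h]; group
  let b : M →* M →* Kˣ := MonoidHom.mk' (fun x => MonoidHom.mk' (b0 x) (hbr x))
    (fun x x' => MonoidHom.ext fun y => hbl x x' y)
  refine ⟨M, {
    s := sM
    s_smul := fun c v => S.s_smul c v
    lin := fun m c v => S.lin_of_comm (hMA m m.2) c v
    faithful := fun m hm => Subtype.ext (S.faithful m hm)
    κ := MulAut.conjNormal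
    κ_smul := ?_
    κ_s := ?_
    b := b
    mul_eq := ?_
    noiso := ?_
    selfc := ?_
    inner := fun m => ⟨m, ?_⟩
    nontriv := S.nontriv }, ?_⟩
  · intro g m v
    simp only [Subgroup.smul_def, MulAut.conjNormal_apply, ← mul_smul]
    congr 1
    group
  · intro g c
    obtain ⟨c', hc'⟩ := S.normal.conj_mem _ ⟨c, rfl⟩ g
    exact ⟨c', Subtype.ext (by simp [sM, hc'])⟩
  · intro x y
    apply Subtype.ext
    change (x : Γ) * y = S.s (b0 x y) * (y * x)
    rw [hb0, commutatorElement_def]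
    group
  · intro B hB hiso
    have hn : (B.map M.subtype).Normal := by
      constructor
      rintro _ ⟨x, hx, rfl⟩ g
      exact ⟨_, hB g x hx, by simp⟩
    have hab : B.map M.subtype ⊔ S.s.range ≤ S.s.range := by
      refine S.maxab _ inferInstance ?_ le_sup_right
      intro x0 hx0 y0 hy0
      obtain ⟨_, ⟨x, hx, rfl⟩, _, ⟨c, rfl⟩, rfl⟩ := Subgroup.mem_sup_of_normal_left.1 hx0
      obtain ⟨_, ⟨y, hy, rfl⟩, _, ⟨d, rfl⟩, rfl⟩ := Subgroup.mem_sup_of_normal_left.1 hy0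
      have h1 : Commute (x : Γ) y := by
        have := hb0 x y
        have h3 : b0 x y = 1 := hiso x hx y hy
        rw [h3, map_one] at this
        exact commutatorElement_eq_one_iff_commute.1 this.symm
      have h2 : Commute (S.s c) (S.s d) := by
        change _ = _
        rw [← map_mul, ← map_mul, mul_comm]
      have h3 : Commute (x : Γ) (S.s d) := (hMA x x.2 d).symm
      have h4 : Commute (S.s c) (y : Γ) := hMA y y.2 c
      exact ((h1.mul_right h3).mul_left (h4.mul_right h2)).eq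
    intro x hx
    obtain ⟨c, hc⟩ := hab (Subgroup.mem_sup_left ⟨x, hx, rfl⟩)
    exact ⟨c, Subtype.ext hc⟩
  · intro g hg
    obtain ⟨c, rfl⟩ := hself g (fun m hm => by
      have := congrArg Subtype.val (hg ⟨m, hm⟩)
      simp only [MulAut.conjNormal_apply] at this
      calc g * m = g * m * g⁻¹ * g := by group
        _ = m * g := by rw [this])
    exact ⟨c, S.s_smul c⟩
  · ext x
    simp
  · rintro _ ⟨c, rfl⟩
    ext x
    simp only [MulAut.conjNormal_apply, MulAut.one_apply]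
    rw [hMA x x.2 c]
    group

end Setup

end Cfsg.Agent.SolvLin
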