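import Cfsg.Agent.SolvLin.Heis

/-!
# The commutator pairing: duality, squarefree exponent, power maps
-/

set_option autoImplicit false
set_option linter.style.haveILetI false

namespace Cfsg.Agent.SolvLin

variable {K V Γ M : Type*} [Field K] [AddCommGroup V] [Module K V] [Group Γ]
  [DistribMulAction Γ V] [Group M] [DistribMulAction M V]

theorem smul_cancel {c d : K} {v : V} (hv : v ≠ 0) (h : c • v = d • v) : c = d := by
  have h2 : (c - d) • v = 0 := by rw [sub_smul, h, sub_self]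
  rcases smul_eq_zero.1 h2 with h3 | h3
  · exact sub_eq_zero.1 h3
  · exact absurd h3 hv

theorem act_ne_zero (g : Γ) {v : V} (hv : v ≠ 0) : g • v ≠ 0 := by
  intro h
  apply hv
  rw [← inv_smul_smul g v, h, smul_zero]

namespace Heis
variable (H : Heis K V Γ M)

include H in
theorem ext_smul {x y : M} (h : ∀ v : V, x • v = y • v) : x = y := by
  have := H.faithful (y⁻¹ * x) (fun v => by rw [mul_smul, h, inv_smul_smul])
  exact (inv_mul_eq_one.1 this).symm

theorem s_inj : Function.Injective H.s := by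
  intro c d hc
  haveI := H.nontriv
  obtain ⟨v, hv⟩ := exists_ne (0 : V)
  have h := H.s_smul c v
  rw [hc, H.s_smul] at h
  exact (Units.ext (smul_cancel hv h)).symm

theorem s_comm (c : Kˣ) (x : M) : H.s c * x = x * H.s c :=
  H.ext_smul fun v => by rw [mul_smul, mul_smul, H.s_smul, H.s_smul, H.lin]

theorem s_commute (c : Kˣ) (x : M) : Commute (H.s c) x := H.s_comm c x

theorem b_eq_one_iff {x y : M} : H.b x y = 1 ↔ x * y = y * x := by
  constructor
  · intro h
    rw [H.mul_eq, h, map_one, one_mul]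
  · intro h
    have h2 := H.mul_eq x y
    rw [h] at h2
    have h3 : H.s (H.b x y) = 1 := by
      have := mul_right_cancel (h2.symm.trans (one_mul _).symm)
      exact this
    exact H.s_inj (h3.trans (map_one _).symm)

@[simp] theorem b_s_left (c : Kˣ) (x : M) : H.b (H.s c) x = 1 := H.b_eq_one_iff.2 (H.s_comm c x)

@[simp] theorem b_s_right (c : Kˣ) (x : M) : H.b x (H.s c) = 1 :=
  H.b_eq_one_iff.2 (H.s_comm c x).symm

@[simp] theorem b_self (x : M) : H.b x x = 1 := H.b_eq_one_iff.2 rfl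

theorem b_swap (x y : M) : H.b y x = (H.b x y)⁻¹ := by
  have h := H.b_self (x * y)
  simp only [map_mul, MonoidHom.mul_apply, b_self, one_mul, mul_one] at h
  rw [eq_inv_iff_mul_eq_one]
  exact h

theorem b_swap_one {x y : M} (h : H.b x y = 1) : H.b y x = 1 := by
  rw [H.b_swap, h, inv_one]

theorem b_Z_left {x : M} (hx : x ∈ H.s.range) (y : M) : H.b x y = 1 := by
  obtain ⟨c, rfl⟩ := hx
  simp

theorem b_Z_right {x : M} (hx : x ∈ H.s.range) (y : M) : H.b y x = 1 := by
  obtain ⟨c, rfl⟩ := hx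
  simp

theorem κ_b (g : Γ) (x y : M) : H.κ g (H.s (H.b x y)) = H.s (H.b (H.κ g x) (H.κ g y)) := by
  have h1 := congrArg (H.κ g) (H.mul_eq x y)
  have h2 := H.mul_eq (H.κ g x) (H.κ g y)
  simp only [map_mul] at h1
  rw [h1] at h2
  exact mul_right_cancel h2

theorem b_κ_one (g : Γ) {x y : M} (h : H.b x y = 1) : H.b (H.κ g x) (H.κ g y) = 1 := by
  apply H.s_inj
  rw [← H.κ_b, h, map_one, map_one]

theorem κ_inv (g : Γ) (x : M) : H.κ g (H.κ g⁻¹ x) = x := by
  rw [← MulAut.mul_apply, ← map_mul, mul_inv_cancel, map_one, MulAut.one_apply]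

theorem κ_inv' (g : Γ) (x : M) : H.κ g⁻¹ (H.κ g x) = x := by
  rw [← MulAut.mul_apply, ← map_mul, inv_mul_cancel, map_one, MulAut.one_apply]

theorem κ_Z (g : Γ) {x : M} (hx : x ∈ H.s.range) : H.κ g x ∈ H.s.range := by
  obtain ⟨c, rfl⟩ := hx
  obtain ⟨c', h⟩ := H.κ_s g c
  exact ⟨c', h.symm⟩

/-- an element whose `Γ`-conjugates all commute with it is a scalar. -/
theorem mem_Z_of_orbit {w : M} (hw : ∀ g, H.b w (H.κ g w) = 1) : w ∈ H.s.range := by
  let B : Subgroup M :=
    { carrier := {x | ∀ y, (∀ g, H.b y (H.κ g w) = 1) → H.b y x = 1}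
      mul_mem' := fun {x x'} hx hx' y hy => by rw [map_mul, hx y hy, hx' y hy, one_mul]
      one_mem' := fun y _ => map_one _
      inv_mem' := fun {x} hx y hy => by rw [map_inv, hx y hy, inv_one] }
  have hww : ∀ g g', H.b (H.κ g w) (H.κ g' w) = 1 := by
    intro g g'
    have := H.b_κ_one g (hw (g⁻¹ * g'))
    rwa [map_mul, MulAut.mul_apply, H.κ_inv] at this
  refine H.noiso B ?_ ?_ (fun y hy => by simpa using hy 1)
  · intro g x hx y hy
    have := hx (H.κ g⁻¹ y) (fun g' => by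
      have := H.b_κ_one g⁻¹ (hy (g * g'))
      rwa [map_mul, MulAut.mul_apply, H.κ_inv'] at this)
    have h2 := H.b_κ_one g this
    rwa [H.κ_inv] at h2
  · intro x hx x' hx'
    exact hx' x (fun g => H.b_swap_one (hx _ (hww g)))

theorem nondeg {x : M} (hx : ∀ y, H.b x y = 1) : x ∈ H.s.range :=
  H.mem_Z_of_orbit fun _ => hx _

theorem normal_of_le {N : Subgroup M} (hN : H.s.range ≤ N) : N.Normal := by
  constructor
  intro n hn g
  rw [H.mul_eq g n, mul_assoc, mul_assoc, mul_inv_cancel, mul_one]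
  exact mul_mem (hN ⟨_, rfl⟩) hn

instance normal_Z : H.s.range.Normal := H.normal_of_le le_rfl

/-- quotients by subgroups containing the scalars are commutative. -/
@[reducible] def quotComm (N : Subgroup M) [N.Normal] (hN : H.s.range ≤ N) : CommGroup (M ⧸ N) :=
  { (inferInstance : Group (M ⧸ N)) with
    mul_comm := by
      intro x y
      induction x using QuotientGroup.induction_on with | H x => ?_
      induction y using QuotientGroup.induction_on with | H y => ?_
      rw [← QuotientGroup.mk_mul, ← QuotientGroup.mk_mul, H.mul_eq x y, QuotientGroup.mk_mul,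
        (QuotientGroup.eq_one_iff _).2 (hN ⟨_, rfl⟩), one_mul] }

theorem mul_pow_eq (x y : M) (k : ℕ) :
    (x * y) ^ k = H.s (H.b y x ^ (k.choose 2)) * (x ^ k * y ^ k) := by
  induction k with
  | zero => simp
  | succ k ih =>
    have h1 : y ^ k * x = H.s (H.b y x ^ k) * (x * y ^ k) := by
      rw [H.mul_eq (y ^ k) x, map_pow, MonoidHom.pow_apply]
    rw [pow_succ, ih, Nat.choose_succ_succ', Nat.choose_one_right, pow_add, mul_comm (H.b y x ^ k),
      map_mul]
    calc H.s (H.b y x ^ k.choose 2) * (x ^ k * y ^ k) * (x * y)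
        = H.s (H.b y x ^ k.choose 2) * (x ^ k * (y ^ k * x) * y) := by group
      _ = H.s (H.b y x ^ k.choose 2) * ((x ^ k * H.s (H.b y x ^ k)) * (x * y ^ k) * y) := by
        rw [h1]; group
      _ = _ := by rw [← H.s_comm]; group

theorem s_mul_pow (c : Kˣ) (x : M) (k : ℕ) : (H.s c * x) ^ k = H.s (c ^ k) * x ^ k := by
  rw [(H.s_commute c x).mul_pow, map_pow]

variable [Finite K]

omit [Finite K] in
theorem pow_card_mem (x : M) : x ^ Nat.card Kˣ ∈ H.s.range :=
  H.nondeg fun y => by rw [map_pow, MonoidHom.pow_apply, pow_card_eq_one']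

omit [Finite K] in
theorem pow_mem_of_sq {r : ℕ} {x : M} (hx : x ^ (r * r) ∈ H.s.range) : x ^ r ∈ H.s.range := by
  apply H.mem_Z_of_orbit
  intro g
  have : H.b (x ^ r) (H.κ g (x ^ r)) = H.b (x ^ (r * r)) (H.κ g x) := by
    simp only [map_pow, MonoidHom.pow_apply, pow_mul]
  rw [this]
  exact H.b_Z_left hx _

theorem exists_exp : ∃ e : ℕ, Squarefree e ∧ e ∣ Nat.card Kˣ ∧ ∀ x : M, x ^ e ∈ H.s.range := by
  refine ⟨∏ p ∈ (Nat.card Kˣ).primeFactors, p, ?_, Nat.prod_primeFactors_dvd _, ?_⟩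
  · refine Finset.squarefree_prod_of_pairwise_isCoprime (fun p hp q hq hpq => ?_)
      (fun p hp => (Nat.prime_of_mem_primeFactors hp).squarefree)
    simp only [Function.onFun, ← Nat.coprime_iff_isRelPrime]
    exact (Nat.coprime_primes (Nat.prime_of_mem_primeFactors hp)
      (Nat.prime_of_mem_primeFactors hq)).mpr hpq
  · intro x
    have key : ∀ k : ℕ, x ^ k ∈ H.s.range ↔ orderOf (x : M ⧸ H.s.range) ∣ k := by
      intro k
      rw [orderOf_dvd_iff_pow_eq_one, ← QuotientGroup.mk_pow, QuotientGroup.eq_one_iff]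
    have hd : orderOf (x : M ⧸ H.s.range) ∣ Nat.card Kˣ := (key _).1 (H.pow_card_mem x)
    have hpos : Nat.card Kˣ ≠ 0 := Nat.card_pos.ne'
    have hsq : Squarefree (orderOf (x : M ⧸ H.s.range)) := by
      rw [Nat.squarefree_iff_prime_squarefree]
      rintro r hr ⟨k, hk⟩
      have h1 : (x ^ k) ^ (r * r) ∈ H.s.range := by
        rw [← pow_mul, key, hk, mul_comm]
      have h2 := H.pow_mem_of_sq h1
      rw [← pow_mul, key, hk] at h2
      have hk0 : k ≠ 0 := by
        rintro rfl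
        rw [hk] at hd
        simp [hpos] at hd
      have h3 : r * (k * r) ∣ 1 * (k * r) := by
        rw [one_mul]
        convert h2 using 1
        ring
      have h4 := Nat.dvd_of_mul_dvd_mul_right (Nat.pos_of_ne_zero (mul_ne_zero hk0 hr.ne_zero)) h3
      exact hr.one_lt.ne' (Nat.dvd_one.1 h4)
    rw [key, ← Nat.prod_primeFactors_of_squarefree hsq]
    exact Finset.prod_dvd_prod_of_subset _ _ _ (Nat.primeFactors_mono hd hpos)

variable [Finite M]

omit [Finite K] in
theorem duality (ψ : M →* Kˣ) (hψ : ∀ c, ψ (H.s c) = 1) : ∃ w, ∀ x, ψ x = H.b x w := by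
  classical
  let W := M ⧸ H.s.range
  haveI : Fintype W := Fintype.ofFinite _
  have hker : ∀ φ : M →* Kˣ, (∀ c, φ (H.s c) = 1) → H.s.range ≤ φ.ker := by
    rintro φ hφ _ ⟨c, rfl⟩
    exact hφ c
  let L : ∀ φ : M →* Kˣ, (∀ c, φ (H.s c) = 1) → (W →* K) := fun φ hφ =>
    (Units.coeHom K).comp (QuotientGroup.lift _ φ (hker φ hφ))
  have hL : ∀ φ hφ (x : M), L φ hφ (x : W) = φ x := fun _ _ _ => rfl
  have hli := linearIndependent_monoidHom W K
  haveI : Finite (W →* K) := hli.finite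
  haveI : Fintype (W →* K) := Fintype.ofFinite _
  have hcard : Fintype.card (W →* K) ≤ Fintype.card W := by
    simpa using hli.fintype_card_le_finrank
  let Φ : W → (W →* K) := fun w => L (H.b.flip w.out) (fun c => by simp)
  have hΦ : Function.Injective Φ := by
    intro w w' h
    rw [← w.out_eq, ← w'.out_eq]
    change ((w.out : M) : W) = (w'.out : M)
    rw [QuotientGroup.eq]
    apply H.nondeg
    intro y
    have h1 : (H.b y w.out : K) = H.b y w'.out := by
      have := DFunLike.congr_fun h (y : W)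
      exact this
    apply H.b_swap_one
    rw [map_mul, map_inv, Units.ext h1, inv_mul_cancel]
  have hbij : Function.Bijective Φ :=
    (Fintype.bijective_iff_injective_and_card Φ).2
      ⟨hΦ, le_antisymm (Fintype.card_le_of_injective Φ hΦ) hcard⟩
  obtain ⟨w, hw⟩ := hbij.2 (L ψ hψ)
  refine ⟨w.out, fun x => Units.ext ?_⟩
  exact (DFunLike.congr_fun hw (x : W)).symm

theorem separate {N : Subgroup M} (hN : H.s.range ≤ N) {x : M} (hx : x ∉ N) :
    ∃ w, (∀ n ∈ N, H.b n w = 1) ∧ H.b x w ≠ 1 := by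
  haveI := H.normal_of_le hN
  letI := H.quotComm N hN
  haveI : NeZero (Nat.card Kˣ) := ⟨Nat.card_pos.ne'⟩
  haveI h1 : HasEnoughRootsOfUnity K (Nat.card Kˣ) := by
    refine ⟨?_, inferInstance⟩
    obtain ⟨ζ, hζ⟩ := IsCyclic.exists_generator (α := Kˣ)
    refine ⟨ζ, ?_⟩
    rw [← orderOf_eq_card_of_forall_mem_zpowers hζ]
    exact IsPrimitiveRoot.coe_units_iff.2 (IsPrimitiveRoot.orderOf ζ)
  haveI : HasEnoughRootsOfUnity K (Monoid.exponent (M ⧸ N)) := by
    refine HasEnoughRootsOfUnity.of_dvd K (n := Nat.card Kˣ) ?_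
    apply Monoid.exponent_dvd_of_forall_pow_eq_one
    intro y
    induction y using QuotientGroup.induction_on with | H y => ?_
    rw [← QuotientGroup.mk_pow, QuotientGroup.eq_one_iff]
    exact hN (H.pow_card_mem y)
  obtain ⟨φ, hφ⟩ := CommGroup.exists_apply_ne_one_of_hasEnoughRootsOfUnity (M ⧸ N) K
    (a := (x : M ⧸ N)) (by rwa [Ne, QuotientGroup.eq_one_iff])
  obtain ⟨w, hw⟩ := H.duality (φ.comp (QuotientGroup.mk' N)) (fun c => by
    change φ (H.s c : M ⧸ N) = 1
    rw [(QuotientGroup.eq_one_iff _).2 (hN ⟨c, rfl⟩), map_one])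
  refine ⟨w, fun n hn => ?_, ?_⟩
  · rw [← hw]
    change φ (n : M ⧸ N) = 1
    rw [(QuotientGroup.eq_one_iff _).2 hn, map_one]
  · rw [← hw]
    exact hφ

omit [Finite K] in
theorem pow_eq_one {N : ℕ} (hN : Nat.card Kˣ ∣ N) (hb : ∀ x y, H.b x y ^ (N.choose 2) = 1)
    (x : M) : x ^ N = 1 := by
  have hc : ∀ c : Kˣ, c ^ N = 1 := fun c => by
    obtain ⟨k, rfl⟩ := hN
    rw [pow_mul, pow_card_eq_one', one_pow]
  have hmem : ∀ y : M, ∃ c, H.s c = y ^ N := fun y => by
    obtain ⟨k, rfl⟩ := hN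
    rw [pow_mul]
    exact pow_mem (H.pow_card_mem y) k
  choose f hf using hmem
  let ψ : M →* Kˣ := MonoidHom.mk' f (fun y z => H.s_inj (by
    rw [map_mul, hf, hf, hf, H.mul_pow_eq, hb, map_one, one_mul]))
  obtain ⟨w, hw⟩ := H.duality ψ (fun c => H.s_inj (by
    change H.s (f _) = _
    rw [hf, ← map_pow, hc]))
  have hw' : ∀ y, H.s (H.b y w) = y ^ N := fun y => by rw [← hw]; exact hf y
  have hwZ : w ∈ H.s.range := by
    apply H.mem_Z_of_orbit
    intro g
    apply H.s_inj
    have h1 := H.κ_b g (H.κ g⁻¹ w) w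
    rw [H.κ_inv, hw', map_pow, H.κ_inv, ← hw'] at h1
    rw [← h1, H.b_self]
  rw [← hw', H.b_Z_right hwZ, map_one]

include H in
theorem pow_two_mul_card (x : M) : x ^ (2 * Nat.card Kˣ) = 1 := by
  refine H.pow_eq_one (Dvd.intro_left 2 rfl) (fun y z => ?_) x
  have : (2 * Nat.card Kˣ).choose 2 = Nat.card Kˣ * (2 * Nat.card Kˣ - 1) := by
    rw [Nat.choose_two_right, mul_assoc, Nat.mul_div_cancel_left _ two_pos]
  rw [this, pow_mul, pow_card_eq_one', one_pow]

include H in
theorem pow_card_eq_one_of (h : Nat.card Kˣ % 4 ≠ 2) (x : M) : x ^ Nat.card Kˣ = 1 := by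
  refine H.pow_eq_one dvd_rfl (fun y z => ?_) x
  obtain ⟨e, he, hdvd, hmem⟩ := H.exists_exp
  have h1 : H.b y z ^ e = 1 := by
    rw [← MonoidHom.pow_apply, ← map_pow]
    exact H.b_Z_left (hmem y) z
  suffices h2 : e ∣ (Nat.card Kˣ).choose 2 by
    obtain ⟨k, hk⟩ := h2
    rw [hk, pow_mul, h1, one_pow]
  rw [Nat.choose_two_right]
  rcases Nat.even_or_odd (Nat.card Kˣ) with hn | hn
  · obtain ⟨k, hk⟩ : 4 ∣ Nat.card Kˣ := by
      obtain ⟨k, hk⟩ := hn
      omega
    have h3 : e ∣ 2 * k := by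
      rw [← he.dvd_pow_iff_dvd two_ne_zero]
      refine hdvd.trans ?_
      rw [hk]
      exact ⟨k, by ring⟩
    have : Nat.card Kˣ * (Nat.card Kˣ - 1) / 2 = 2 * k * (Nat.card Kˣ - 1) := by
      rw [Nat.div_eq_iff_eq_mul_left two_pos]
      · generalize Nat.card Kˣ - 1 = t
        rw [hk]
        ring
      · exact Dvd.dvd.mul_right (by omega) _
    rw [this]
    exact h3.mul_right _
  · obtain ⟨k, hk⟩ := hn
    have : Nat.card Kˣ * (Nat.card Kˣ - 1) / 2 = Nat.card Kˣ * k := by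
      have h5 : Nat.card Kˣ - 1 = k * 2 := by omega
      rw [h5, ← mul_assoc, Nat.mul_div_cancel _ two_pos]
    rw [this]
    exact hdvd.mul_right _

end Heis

end Cfsg.Agent.SolvLin
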