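import Cfsg.Agent.SolvLin.Defs

/-!
# The imprimitive step and the reduction to irreducible modules
-/

set_option autoImplicit false
set_option linter.style.haveILetI false

namespace Cfsg.Agent.SolvLin

variable {G V : Type*} [Group G] [AddCommGroup V] [DistribMulAction G V]

namespace Imprim
variable (I : Imprim G V)

theorem e_mem {v : V} (hv : v ∈ I.e.range) : I.e v = v := by
  obtain ⟨w, rfl⟩ := hv
  exact I.idem w

theorem inv : Inv I.H I.e.range := by
  rintro h _ ⟨v, rfl⟩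
  exact ⟨(h : G) • v, I.comm h h.2 v⟩

theorem orth' {g : G} (hg : g ∉ I.H) {v : V} (hv : v ∈ I.e.range) : I.e (g • v) = 0 := by
  rw [← I.e_mem hv]
  exact I.orth g hg v

theorem exists_ne_zero : ∃ v ∈ I.e.range, v ≠ 0 := by
  by_contra h
  push Not at h
  exact I.ne (AddMonoidHom.ext fun v => h _ ⟨v, rfl⟩)

theorem closure_eq_top (hirr : Irr G V) {U : AddSubgroup V} (hU : U ≠ ⊥) :
    AddSubgroup.closure {w | ∃ g : G, ∃ u ∈ U, g • u = w} = ⊤ := by
  refine (hirr.2 _ ?_).resolve_left (fun h => hU ?_)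
  · intro g v hv
    induction hv using AddSubgroup.closure_induction with
    | mem x hx =>
      obtain ⟨g', u, hu, rfl⟩ := hx
      exact AddSubgroup.subset_closure ⟨g * g', u, hu, mul_smul _ _ _⟩
    | zero => simp
    | add x y _ _ hx hy => rw [smul_add]; exact add_mem hx hy
    | neg x _ hx => rw [smul_neg]; exact neg_mem hx
  · rw [eq_bot_iff, ← h]
    intro u hu
    exact AddSubgroup.subset_closure ⟨1, u, hu, one_smul _ _⟩

theorem irr (hirr : Irr G V) : letI := subAct I.e.range I.inv; Irr I.H I.e.range := by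
  letI := subAct I.e.range I.inv
  obtain ⟨v, hv, hv0⟩ := I.exists_ne_zero
  refine ⟨⟨⟨v, hv⟩, 0, fun h => hv0 (congrArg Subtype.val h)⟩, fun U hU => ?_⟩
  by_cases h : U = ⊥
  · exact Or.inl h
  right
  have h1 : U.map I.e.range.subtype ≠ ⊥ := by
    rwa [Ne, AddSubgroup.map_eq_bot_iff_of_injective _ Subtype.val_injective]
  have h2 : ∀ w, I.e w ∈ U.map I.e.range.subtype := by
    intro w
    have hw : w ∈ AddSubgroup.closure {w | ∃ g : G, ∃ u ∈ U.map I.e.range.subtype, g • u = w} := by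
      rw [closure_eq_top hirr h1]
      trivial
    induction hw using AddSubgroup.closure_induction with
    | mem x hx =>
      obtain ⟨g, _, ⟨u, hu, rfl⟩, rfl⟩ := hx
      by_cases hg : g ∈ I.H
      · refine ⟨_, hU ⟨g, hg⟩ u hu, ?_⟩
        rw [I.comm g hg]
        change g • (u : V) = g • I.e u
        rw [I.e_mem u.2]
      · rw [AddSubgroup.coe_subtype, I.orth' hg u.2]
        exact zero_mem _
    | zero => simp
    | add x y _ _ hx hy => rw [map_add]; exact add_mem hx hy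
    | neg x _ hx => rw [map_neg]; exact neg_mem hx
  rw [eq_top_iff]
  intro u _
  obtain ⟨u', hu', h3⟩ := h2 u
  rw [I.e_mem u.2] at h3
  rwa [← Subtype.ext h3]

theorem card_range_lt [Finite V] : Nat.card I.e.range < Nat.card V := by
  obtain ⟨v, hv, hv0⟩ := I.exists_ne_zero
  obtain ⟨g, -, hg⟩ := SetLike.exists_of_lt I.coatom.lt_top
  have h : g • v ∉ I.e.range := by
    intro h
    have := I.e_mem h
    rw [I.orth' hg hv, eq_comm, smul_eq_zero_iff_eq] at this
    exact hv0 this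
  exact Finite.card_subtype_lt h

theorem index_lt [Finite V] : I.H.index < Nat.card V := by
  obtain ⟨v, hv, hv0⟩ := I.exists_ne_zero
  let f : G ⧸ I.H → {w : V // w ≠ 0} := fun ω => ⟨ω.out • v, by
    rwa [Ne, smul_eq_zero_iff_eq]⟩
  have hf : Function.Injective f := by
    intro ω ω' h
    have h1 : ω.out • v = ω'.out • v := congrArg Subtype.val h
    rw [← ω.out_eq, ← ω'.out_eq]
    change ((ω.out : G) : G ⧸ I.H) = (ω'.out : G)
    rw [QuotientGroup.eq]
    by_contra h2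
    have := I.orth' h2 hv
    rw [mul_smul, ← h1, inv_smul_smul, I.e_mem hv] at this
    exact hv0 this
  exact (Nat.card_le_card_of_injective f hf).trans_lt
    (Finite.card_subtype_lt (x := 0) (by simp))

theorem hasBase [Finite G] (hirr : Irr G V) {m c : ℕ} (hc : Colourable I.H c)
    (hm : letI := subAct I.e.range I.inv; Many I.H I.e.range m c) : HasBase G V m := by
  classical
  letI := subAct I.e.range I.inv
  obtain ⟨f, hf1, hf2⟩ := hc
  obtain ⟨t, ht1, ht2⟩ := hm
  haveI : Fintype (G ⧸ I.H) := Fintype.ofFinite _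
  let T : Fin m → V := fun i => ∑ ω : G ⧸ I.H, ω.out • (t (f ω.out) i : V)
  have hT : ∀ (ω : G ⧸ I.H) i, I.e (ω.out⁻¹ • T i) = t (f ω.out) i := by
    intro ω i
    simp only [T]
    rw [Finset.smul_sum, map_sum, Finset.sum_eq_single ω]
    · rw [inv_smul_smul, I.e_mem (t _ i).2]
    · intro ω' _ hne
      rw [← mul_smul]
      refine I.orth' (fun h => hne ?_) (t _ i).2
      rw [← QuotientGroup.eq] at h
      simpa using h.symm
    · simp
  refine ⟨T, fun g hg => ?_⟩
  have key : ∀ ω : G ⧸ I.H, ∃ h : I.H, (g • ω).out⁻¹ * g * ω.out = h ∧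
      ∀ i, h • t (f ω.out) i = t (f (g • ω).out) i := by
    intro ω
    have h1 : (g • ω).out⁻¹ * (g * ω.out) ∈ I.H := by
      rw [← QuotientGroup.eq, QuotientGroup.out_eq', ← smul_eq_mul, MulAction.Quotient.mk_smul_out]
    refine ⟨⟨_, h1⟩, mul_assoc _ _ _, fun i => Subtype.ext ?_⟩
    change ((g • ω).out⁻¹ * (g * ω.out)) • (t (f ω.out) i : V) = _
    rw [← hT, ← hT, ← I.comm _ h1, ← mul_smul, mul_assoc, mul_inv_cancel_right, mul_smul, hg]
  have hout : ∀ x : G, f (x : G ⧸ I.H).out = f x := by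
    intro x
    obtain ⟨h, hh⟩ := QuotientGroup.mk_out_eq_mul I.H x
    rw [hh, hf1 _ _ h.2]
  have hcore : g ∈ I.H.normalCore := by
    apply hf2
    intro x
    obtain ⟨h, -, hh⟩ := key x
    have := ht2 _ _ h hh
    rw [hout, MulAction.Quotient.smul_mk, smul_eq_mul, hout] at this
    exact this.symm
  have hfix : ∀ ω : G ⧸ I.H, g • ω = ω := by
    intro ω
    rw [Subgroup.normalCore_eq_ker, MonoidHom.mem_ker] at hcore
    exact DFunLike.congr_fun hcore ω
  intro v
  have hv : v ∈ AddSubgroup.closure {w | ∃ g : G, ∃ u ∈ I.e.range, g • u = w} := by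
    rw [closure_eq_top hirr]
    · trivial
    · obtain ⟨v, hv, hv0⟩ := I.exists_ne_zero
      intro h
      rw [h] at hv
      exact hv0 hv
  induction hv using AddSubgroup.closure_induction with
  | mem x hx =>
    obtain ⟨x, u, hu, rfl⟩ := hx
    obtain ⟨h, hh1, hh2⟩ := key x
    rw [hfix] at hh1 hh2
    obtain ⟨k, hk⟩ := QuotientGroup.mk_out_eq_mul I.H x
    have h3 := congrArg Subtype.val (ht1 _ h hh2 (k⁻¹ • ⟨u, hu⟩))
    change (h : G) • (k : G)⁻¹ • u = (k : G)⁻¹ • u at h3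
    rw [← hh1, hk, ← mul_smul, ← inv_smul_eq_iff, inv_inv, ← mul_smul] at h3
    rw [← mul_smul, ← inv_smul_eq_iff, ← mul_smul]
    convert h3 using 2
    group
  | zero => simp
  | add x y _ _ hx hy => rw [smul_add, hx, hy]
  | neg x _ hx => rw [smul_neg, hx]

end Imprim

theorem hasBase_of_cr [Finite V] (hcr : CR G V) {m : ℕ}
    (h : ∀ (U : AddSubgroup V) (hU : Inv G U), (letI := subAct U hU; Irr G U) →
      letI := subAct U hU; HasBase G U m) : HasBase G V m := by
  suffices key : ∀ (n : ℕ) (U : AddSubgroup V), Inv G U → Nat.card U = n →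
      ∃ t : Fin m → V, (∀ i, t i ∈ U) ∧ ∀ g : G, (∀ i, g • t i = t i) → ∀ u ∈ U, g • u = u by
    obtain ⟨t, -, ht⟩ := key _ ⊤ (fun _ _ _ => trivial) rfl
    exact ⟨t, fun g hg v => ht g hg v trivial⟩
  intro n
  induction n using Nat.strong_induction_on with | _ n ih => ?_
  intro U hU hn
  by_cases hU0 : U = ⊥
  · refine ⟨0, fun _ => zero_mem _, fun g _ u hu => ?_⟩
    rw [hU0, AddSubgroup.mem_bot] at hu
    rw [hu, smul_zero]
  obtain ⟨U1, -, ⟨hU1, hU1U, hU10⟩, hmin⟩ := Finite.exists_le_minimal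
    (p := fun W : AddSubgroup V => Inv G W ∧ W ≤ U ∧ W ≠ ⊥) ⟨hU, le_rfl, hU0⟩
  letI := subAct U1 hU1
  have hirr : Irr G U1 := by
    refine ⟨(AddSubgroup.nontrivial_iff_ne_bot U1).2 hU10, fun W hW => ?_⟩
    by_cases hW0 : W = ⊥
    · exact Or.inl hW0
    right
    have h1 := hmin (y := W.map U1.subtype) ⟨?_, (AddSubgroup.map_subtype_le W).trans hU1U, ?_⟩
      (AddSubgroup.map_subtype_le W)
    · rw [eq_top_iff]
      intro u _
      obtain ⟨w, hw, hwu⟩ := h1 u.2
      rwa [← Subtype.ext hwu]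
    · rintro g _ ⟨w, hw, rfl⟩
      exact ⟨_, hW g w hw, rfl⟩
    · rwa [Ne, AddSubgroup.map_eq_bot_iff_of_injective _ Subtype.val_injective]
  obtain ⟨t1, ht1⟩ := h U1 hU1 hirr
  obtain ⟨W, hW, hinf, hsup⟩ := hcr U1 hU1
  have hlt : W ⊓ U < U := by
    refine lt_of_le_of_ne inf_le_right fun h2 => hU10 ?_
    rw [eq_bot_iff, ← hinf]
    exact le_inf le_rfl (hU1U.trans (h2 ▸ inf_le_left))
  obtain ⟨t2, ht2, ht2'⟩ := ih (Nat.card (W ⊓ U : AddSubgroup V))
    (hn ▸ Set.ncard_lt_ncard hlt (Set.toFinite _)) (W ⊓ U)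
    (fun g v hv => ⟨hW g v hv.1, hU g v hv.2⟩) rfl
  refine ⟨fun i => t1 i + t2 i, fun i => add_mem (hU1U (t1 i).2) (ht2 i).2, fun g hg u hu => ?_⟩
  have hsplit : ∀ i, g • (t1 i : V) = t1 i ∧ g • t2 i = t2 i := by
    intro i
    have h1 := hg i
    rw [smul_add] at h1
    have h2 : g • (t1 i : V) - t1 i = t2 i - g • t2 i := by
      rw [sub_eq_sub_iff_add_eq_add, h1, add_comm]
    have h3 : g • (t1 i : V) - t1 i ∈ U1 ⊓ W :=
      AddSubgroup.mem_inf.2 ⟨U1.sub_mem (hU1 g _ (t1 i).2) (t1 i).2,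
        h2 ▸ W.sub_mem (ht2 i).1 (hW g _ (ht2 i).1)⟩
    rw [hinf, AddSubgroup.mem_bot] at h3
    rw [h3] at h2
    exact ⟨sub_eq_zero.1 h3, (sub_eq_zero.1 h2.symm).symm⟩
  obtain ⟨a, ha, b, hb, rfl⟩ := AddSubgroup.mem_sup.1 (hsup ▸ AddSubgroup.mem_top u)
  have hbU : b ∈ U := by simpa using sub_mem hu (hU1U ha)
  have h4 := congrArg Subtype.val (ht1 g (fun i => Subtype.ext (hsplit i).1) ⟨a, ha⟩)
  rw [smul_add, ht2' g (fun i => (hsplit i).2) b ⟨hb, hbU⟩]
  exact congrArg (· + b) h4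

end Cfsg.Agent.SolvLin
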