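import Cfsg.Agent.SolvLin.QP
import Cfsg.Agent.SolvLin.Field
import Cfsg.Agent.SolvLin.Imprim
import Cfsg.Agent.SolvLin.Orbits
import Cfsg.Agent.SolvLin.Colour
import Cfsg.Agent.SolvLin.Design

/-!
# Three vectors for solvable groups, two vectors for groups of odd order
-/

set_option autoImplicit false
set_option linter.style.haveILetI false

namespace Cfsg.Agent.SolvLin

universe u v

section QP
variable {K V Γ M : Type*} [Field K] [AddCommGroup V] [Module K V] [Group Γ]
  [DistribMulAction Γ V] [Group M] [DistribMulAction M V]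

theorem Heis.exists_design [Finite K] [Finite M] (H : Heis K V Γ M) (D : Subgroup M) :
    ∃ c : M ⧸ H.perp D → Fin 4, IsDesign Kˣ c := by
  obtain ⟨e, he, -, hmem⟩ := H.exists_exp
  refine SolvLin.exists_design Kˣ he fun x => ?_
  induction x using QuotientGroup.induction_on with | H x => ?_
  rw [← QuotientGroup.mk_pow, QuotientGroup.eq_one_iff]
  exact H.Z_le_perp _ (hmem x)

theorem Setup.base3 [Finite K] [Finite Γ] (S : Setup K V Γ) : HasBase Γ V 3 := by
  obtain ⟨M, H, -⟩ := S.exists_heis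
  obtain ⟨v, y, hv, hp⟩ := H.exists_pair
  obtain ⟨c, hc⟩ := H.exists_design (MulAction.stabilizer M v)
  exact H.base3_of hv hp hc

theorem Setup.base2_odd [Finite K] [Finite Γ] (S : Setup K V Γ) {k : ℕ} (hk : Odd k)
    (h : ∀ g : Γ, g ^ k ∈ S.s.range) : HasBase Γ V 2 := by
  obtain ⟨M, H, hH⟩ := S.exists_heis
  obtain ⟨v, y, hv, hp⟩ := H.exists_pair
  obtain ⟨c, hc⟩ := H.exists_design (MulAction.stabilizer M v)
  exact H.base2_odd hv hp hc fun g => ⟨k, hk, by rw [← map_pow, hH _ (h g)]⟩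

end QP

theorem HasBase.of_hom {G Γ V : Type*} [Group G] [Group Γ] [AddCommGroup V] [DistribMulAction G V]
    [DistribMulAction Γ V] (f : G →* Γ) (hf : ∀ g (v : V), f g • v = g • v) {m : ℕ}
    (h : HasBase Γ V m) : HasBase G V m := by
  obtain ⟨t, ht⟩ := h
  exact ⟨t, fun g hg v => by rw [← hf, ht (f g) (fun i => by rw [hf, hg])]⟩

theorem hasBase_of_range {G : Type*} {V : Type v} [Group G] [Finite G] [AddCommGroup V] [Finite V]
    [DistribMulAction G V] {m : ℕ} (hG : Group.IsSolvable G) (hirr : Irr G V)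
    (h : ∀ (G' : Type v) [Group G'] [Finite G'] [DistribMulAction G' V], Group.IsSolvable G' →
      Nat.card G' ∣ Nat.card G → Irr G' V → HasBase G' V m) : HasBase G V m := by
  let ρ : G →* (AddMonoid.End V)ˣ := (DistribMulAction.toAddMonoidEnd G V).toHomUnits
  refine HasBase.of_hom ρ.rangeRestrict (fun g v => rfl) (h ρ.range
    (Group.isSolvable_of_surjective ρ.rangeRestrict_surjective)
    (Subgroup.card_dvd_of_surjective _ ρ.rangeRestrict_surjective)
    ⟨hirr.1, fun U hU => hirr.2 U fun g v hv => hU (ρ.rangeRestrict g) v hv⟩)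

theorem irr_base3_aux (n : ℕ) : ∀ (G V : Type u) [Group G] [Finite G] [AddCommGroup V] [Finite V]
    [DistribMulAction G V], Nat.card V = n → Group.IsSolvable G → Irr G V → HasBase G V 3 := by
  induction n using Nat.strong_induction_on with | _ n ih => ?_
  intro G V _ _ _ _ _ hn hG hirr
  rcases imprim_or_setup hG hirr with ⟨⟨I⟩⟩ | ⟨K, _, _, _, Γ, _, _, _, S, f, hf, -⟩
  · letI := subAct I.e.range I.inv
    haveI := (I.irr hirr).1
    exact I.hasBase hirr (colour_five hG I.coatom fun S N _ _ _ _ _ h1 _ h3 h4 =>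
      ih _ (hn ▸ h3 ▸ I.index_lt) S N rfl h1 h4)
      (many_three inferInstance (ih _ (hn ▸ I.card_range_lt) _ _ rfl inferInstance (I.irr hirr)))
  · exact S.base3.of_hom f hf

theorem irr_base2_odd_aux (n : ℕ) : ∀ (G V : Type u) [Group G] [Finite G] [AddCommGroup V]
    [Finite V] [DistribMulAction G V], Nat.card V = n → Group.IsSolvable G → Odd (Nat.card G) →
      Irr G V → HasBase G V 2 := by
  induction n using Nat.strong_induction_on with | _ n ih => ?_
  intro G V _ _ _ _ _ hn hG ho hirr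
  rcases imprim_or_setup hG hirr with ⟨⟨I⟩⟩ | ⟨K, _, _, _, Γ, _, _, _, S, f, hf, hk⟩
  · letI := subAct I.e.range I.inv
    haveI := (I.irr hirr).1
    have ho' : Odd (Nat.card I.H) := ho.of_dvd_nat (Subgroup.card_subgroup_dvd_card _)
    exact I.hasBase hirr (colour_two hG I.coatom ho fun S N _ _ _ _ _ h1 h2 h3 h4 =>
      ih _ (hn ▸ h3 ▸ I.index_lt) S N rfl h1 (ho.of_dvd_nat h2) h4)
      (many_two_two ho' (ih _ (hn ▸ I.card_range_lt) _ _ rfl inferInstance ho' (I.irr hirr)))
  · exact (S.base2_odd ho hk).of_hom f hf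

variable {G V : Type*} [Group G] [Finite G] [AddCommGroup V] [Finite V] [DistribMulAction G V]

theorem irr_base3 (hG : Group.IsSolvable G) (hirr : Irr G V) : HasBase G V 3 :=
  hasBase_of_range hG hirr fun G' _ _ _ h1 _ h2 => irr_base3_aux _ G' V rfl h1 h2

theorem irr_base2_odd (hG : Group.IsSolvable G) (ho : Odd (Nat.card G)) (hirr : Irr G V) :
    HasBase G V 2 :=
  hasBase_of_range hG hirr fun G' _ _ _ h1 h3 h2 =>
    irr_base2_odd_aux _ G' V rfl h1 (ho.of_dvd_nat h3) h2

theorem cr_base3 (hG : Group.IsSolvable G) (hcr : CR G V) : HasBase G V 3 :=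
  hasBase_of_cr hcr fun U hU h => letI := subAct U hU; irr_base3 hG h

theorem cr_base2_odd (hG : Group.IsSolvable G) (ho : Odd (Nat.card G)) (hcr : CR G V) :
    HasBase G V 2 :=
  hasBase_of_cr hcr fun U hU h => letI := subAct U hU; irr_base2_odd hG ho h

end Cfsg.Agent.SolvLin
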