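import Cfsg.Agent.SolvLin.Three

/-!
# Two vectors for coprime solvable groups
-/

set_option autoImplicit false
set_option linter.style.haveILetI false

namespace Cfsg.Agent.SolvLin

universe u v

section QP
variable {K V Γ M : Type*} [Field K] [AddCommGroup V] [Module K V] [Group Γ]
  [DistribMulAction Γ V] [Group M] [DistribMulAction M V]

theorem Heis.pow_mem_of_κ (H : Heis K V Γ M) {k : ℕ} (hκ : ∀ g, H.κ g ^ k = 1) (x : M) :
    x ^ k ∈ H.s.range := by
  obtain ⟨g, hg⟩ := H.inner x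
  apply H.nondeg
  intro y
  have := DFunLike.congr_fun (hκ g) y
  rw [hg, ← map_pow] at this
  simp only [MulAut.conj_apply, MulAut.one_apply] at this
  rw [H.b_eq_one_iff]
  calc x ^ k * y = x ^ k * y * (x ^ k)⁻¹ * x ^ k := by group
    _ = _ := by rw [this]

theorem Setup.base2 [Finite K] [Finite Γ] [Finite V] (S : Setup K V Γ) {k : ℕ}
    (h : ∀ g : Γ, g ^ k ∈ S.s.range) (hc : ¬ 3 ∣ k ∨ (¬ 2 ∣ Nat.card V ∧ ¬ 3 ∣ Nat.card V)) :
    HasBase Γ V 2 := by
  haveI := S.nontriv
  haveI := Fintype.ofFinite K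
  have hKV : Nat.card K ∣ Nat.card V := by
    rw [Module.natCard_eq_pow_finrank (K := K) (V := V)]
    exact dvd_pow_self _ Module.finrank_pos.ne'
  have hK : Nat.card K = Nat.card Kˣ + 1 := by
    have := Finite.one_lt_card (α := K)
    rw [Nat.card_units]
    omega
  by_cases h2 : Nat.card Kˣ = 2
  · letI := Module.compHom V (ZMod.ringEquivOfPrime K Nat.prime_three
      (by rw [← Nat.card_eq_fintype_card, hK, h2])).toRingHom
    obtain ⟨S', hS'⟩ := S.transport (ZMod.ringEquivOfPrime K Nat.prime_three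
      (by rw [← Nat.card_eq_fintype_card, hK, h2]))
    obtain ⟨M, H, hH⟩ := S'.exists_heis
    exact H.base2_three S.solv (hc.resolve_right fun e => e.2 (by rwa [hK, h2] at hKV))
      fun g => by rw [← map_pow, hH _ (hS' ▸ h g)]
  by_cases h4 : Nat.card Kˣ = 4
  · letI := Module.compHom V (ZMod.ringEquivOfPrime K fact5.out
      (by rw [← Nat.card_eq_fintype_card, hK, h4])).toRingHom
    obtain ⟨S', -⟩ := S.transport (ZMod.ringEquivOfPrime K fact5.out
      (by rw [← Nat.card_eq_fintype_card, hK, h4]))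
    obtain ⟨M, H, -⟩ := S'.exists_heis
    exact H.base2_five
  obtain ⟨M, H, hH⟩ := S.exists_heis
  by_cases h8 : Nat.card Kˣ = 8
  · exact H.base2_nine h8
  obtain ⟨v, y, hv, hp⟩ := H.exists_pair
  obtain ⟨c, hcd⟩ := H.exists_design (MulAction.stabilizer M v)
  have key : ∀ n, (∀ x : M, x ^ n ∈ H.s.range) → ∀ χ : M ⧸ H.perp (MulAction.stabilizer M v),
      orderOf χ ∣ n := fun n hn χ => by
    induction χ using QuotientGroup.induction_on with | H x => ?_
    rw [orderOf_dvd_iff_pow_eq_one, ← QuotientGroup.mk_pow, QuotientGroup.eq_one_iff]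
    exact H.Z_le_perp _ (hn x)
  refine H.base2_gen hv hp hcd (fun χ _ ho e => ?_) (fun χ _ ho e => ?_)
  · have a1 := ho ▸ key _ H.pow_card_mem χ
    have a2 := Nat.le_of_dvd (by decide) e
    generalize Nat.card Kˣ = n at *
    revert e a1 h2 h4 h8
    interval_cases n <;> decide
  · have a1 := ho ▸ key _ H.pow_card_mem χ
    rw [hK, Nat.dvd_antisymm e a1] at hKV
    exact hc.resolve_right (fun e => e.1 ((by decide : 2 ∣ 3 + 1).trans hKV))
      (ho ▸ key _ (H.pow_mem_of_κ fun g => by rw [← map_pow, hH _ (h g)]) χ)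

end QP

theorem irr_base2_aux (n : ℕ) : ∀ (G V : Type u) [Group G] [Finite G] [AddCommGroup V]
    [Finite V] [DistribMulAction G V], Nat.card V = n → Group.IsSolvable G →
      (¬ 3 ∣ Nat.card G ∨ (¬ 2 ∣ Nat.card V ∧ ¬ 3 ∣ Nat.card V)) → Irr G V → HasBase G V 2 := by
  induction n using Nat.strong_induction_on with | _ n ih => ?_
  intro G V _ _ _ _ _ hn hG hc hirr
  rcases imprim_or_setup hG hirr with ⟨⟨I⟩⟩ | ⟨K, _, _, _, Γ, _, _, _, S, f, hf, hk⟩
  · letI := subAct I.e.range I.inv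
    haveI := (I.irr hirr).1
    rcases hc with h3 | ⟨h2, h3⟩
    · have h3' : ¬ 3 ∣ Nat.card I.H := fun e => h3 (e.trans (Subgroup.card_subgroup_dvd_card _))
      exact I.hasBase hirr (colour_three hG I.coatom h3 fun S N _ _ _ _ _ h1 h2 h4 h5 =>
        ih _ (hn ▸ h4 ▸ I.index_lt) S N rfl h1 (Or.inl fun e => h3 (e.trans h2)) h5)
        (many_two_three h3' (ih _ (hn ▸ I.card_range_lt) _ _ rfl inferInstance (Or.inl h3')
          (I.irr hirr)))
    · have hd := AddSubgroup.card_addSubgroup_dvd_card I.e.range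
      have h2' : ¬ 2 ∣ Nat.card I.e.range := fun e => h2 (e.trans hd)
      have h3' : ¬ 3 ∣ Nat.card I.e.range := fun e => h3 (e.trans hd)
      exact I.hasBase hirr (colour_five hG I.coatom fun S N _ _ _ _ _ h1 _ _ h4 =>
        irr_base3 h1 h4) (many_two_five inferInstance h2' h3'
          (ih _ (hn ▸ I.card_range_lt) _ _ rfl inferInstance (Or.inr ⟨h2', h3'⟩) (I.irr hirr)))
  · exact (S.base2 hk hc).of_hom f hf

variable {G V : Type*} [Group G] [Finite G] [AddCommGroup V] [Finite V] [DistribMulAction G V]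

theorem irr_base2 (hG : Group.IsSolvable G)
    (hc : ¬ 3 ∣ Nat.card G ∨ (¬ 2 ∣ Nat.card V ∧ ¬ 3 ∣ Nat.card V)) (hirr : Irr G V) :
    HasBase G V 2 :=
  hasBase_of_range hG hirr fun G' _ _ _ h1 h3 h2 =>
    irr_base2_aux _ G' V rfl h1 (hc.imp_left fun h e => h (e.trans h3)) h2

theorem irr_base2_coprime (hG : Group.IsSolvable G) (hc : (Nat.card G).Coprime (Nat.card V))
    (hirr : Irr G V) : HasBase G V 2 := by
  by_cases h2 : 2 ∣ Nat.card V
  · exact irr_base2_odd hG (Nat.coprime_two_right.1 (hc.coprime_dvd_right h2)) hirr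
  refine irr_base2 hG (or_iff_not_imp_right.2 fun h e => ?_) hirr
  exact absurd (Nat.eq_one_of_dvd_coprimes hc e (by tauto)) (by decide)

theorem cr_base2_coprime (hG : Group.IsSolvable G) (hc : (Nat.card G).Coprime (Nat.card V))
    (hcr : CR G V) : HasBase G V 2 :=
  hasBase_of_cr hcr fun U hU h => letI := subAct U hU
    irr_base2_coprime hG (hc.coprime_dvd_right (AddSubgroup.card_addSubgroup_dvd_card U)) h

end Cfsg.Agent.SolvLin
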