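import Cfsg.Agent.SolvLin.Main

/-!
# Explicit qubit models of the zero component
-/

set_option autoImplicit false
set_option linter.style.haveILetI false

namespace Cfsg.Agent.SolvLin

open MulAction

variable {K V Γ M : Type*} [Field K] [AddCommGroup V] [Module K V] [Group Γ]
  [DistribMulAction Γ V] [Group M] [DistribMulAction M V]

/-- adding one qubit to a family of operators -/
def extP {U J : Type*} [Neg U] (P : J → U → U) (j : Bool × Bool × J) (u : U × U) : U × U :=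
  if j.1 then (if j.2.1 then -P j.2.2 u.2 else P j.2.2 u.2, P j.2.2 u.1)
  else (P j.2.2 u.1, if j.2.1 then -P j.2.2 u.2 else P j.2.2 u.2)

/-- a model of the action of `C_M(D)` on a subspace fixed by `D`. -/
structure Model (H : Heis K V Γ M) (U : Type*) {J : Type*} [AddCommGroup U] [Module K U]
    (P : J → U → U) (one : J) where
  D : Subgroup M
  φ : U →ₗ[K] V
  inj : Function.Injective φ
  fix : ∀ d ∈ D, ∀ u, d • φ u = φ u
  γ : J → M
  γ_one : γ one = 1
  γE : ∀ j, γ j ∈ H.perp D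
  act : ∀ j u, γ j • φ u = φ (P j u)
  gen : ∀ e ∈ H.perp D, ∃ c, ∃ d ∈ D, ∃ j, e = H.s c * d * γ j
  perf : ∀ m : M, ∃ j₀, ∀ j, H.b m (γ j) = H.b (γ j₀) (γ j)
  γinj : ∀ j j', (∀ k, H.b (γ j) (γ k) = H.b (γ j') (γ k)) → j = j'

namespace Heis
variable (H : Heis K V Γ M)

theorem b_sq {x : M} (hx : x * x ∈ H.s.range) (y : M) : H.b x y = 1 ∨ H.b x y = -1 := by
  have h1 : H.b x y ^ 2 = 1 := by
    rw [← MonoidHom.pow_apply, ← map_pow, sq, H.b_Z_left hx]
  have h2 : (H.b x y : K) ^ 2 = 1 := by rw [← Units.val_pow_eq_pow_val, h1, Units.val_one]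
  exact (sq_eq_one_iff.1 h2).imp (fun h => Units.ext h) (fun h => Units.ext h)

theorem smul_comm_of_b {x y : M} (h : H.b x y = 1) (w : V) : x • y • w = y • x • w := by
  rw [← mul_smul, H.b_eq_one_iff.1 h, mul_smul]

theorem smul_anti_of_b {x y : M} (h : H.b x y = -1) (w : V) : x • y • w = -(y • x • w) := by
  rw [← mul_smul, H.mul_eq x y, h, mul_smul, H.s_smul, mul_smul]
  simp

/-- the base model in the plus case -/
def modelPlus {v : V} (hv : v ≠ 0)
    (h : H.perp (stabilizer M v) ≤ H.s.range ⊔ stabilizer M v) :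
    Model H K (fun (_ : Unit) (u : K) => u) () where
  D := stabilizer M v
  φ := LinearMap.toSpanSingleton K V v
  inj := fun _ _ h => smul_cancel hv h
  fix := fun d hd u => by simp [H.lin, mem_stabilizer_iff.1 hd]
  γ := fun _ => 1
  γ_one := rfl
  γE := fun _ => one_mem _
  act := fun _ u => one_smul _ _
  gen := fun e he => by
    obtain ⟨_, ⟨c, rfl⟩, d, hd, rfl⟩ := Subgroup.mem_sup_of_normal_left.1 (h he)
    exact ⟨c, d, hd, (), (mul_one _).symm⟩
  perf := fun m => ⟨(), by simp⟩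
  γinj := fun _ _ _ => rfl

/-- operators of the minus qubit -/
def minusP {R : Type*} [AddCommGroup R] (j : Bool × Bool) (u : R × R) : R × R :=
  if j.1 then (if j.2 then (-(u.1 - u.2), u.1 + u.2) else (-u.2, u.1))
  else (if j.2 then (u.1 + u.2, u.1 - u.2) else u)

theorem Minus.ne {v : V} {i j : M} (h : H.Minus v i j) : (-1 : Kˣ) ≠ 1 := by
  intro h1
  have h2 : Odd (Nat.card Kˣ) := by
    rw [← Nat.not_even_iff_odd, even_iff_two_dvd]
    intro h2
    haveI : Finite Kˣ := Nat.finite_of_card_ne_zero (by have := h.card; omega)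
    haveI : Fact (Nat.Prime 2) := ⟨Nat.prime_two⟩
    obtain ⟨c, hc⟩ := exists_prime_orderOf_dvd_card' 2 h2
    have h3 : (c : K) ^ 2 = 1 := by
      rw [← Units.val_pow_eq_pow_val, ← hc, pow_orderOf_eq_one, Units.val_one]
    have h4 : c = 1 := by
      rcases sq_eq_one_iff.1 h3 with h | h
      · exact Units.ext h
      · exact (Units.ext h : c = -1).trans h1
    simp [h4] at hc
  have := h.card
  obtain ⟨k, hk⟩ := h2
  omega

/-- the base model in the minus case -/
def modelMinus {v : V} (hv : v ≠ 0) {i j : M} (h : H.Minus v i j) (hj : j • v = v + i • v) :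
    Model H (K × K) minusP (false, false) where
  D := stabilizer M v
  φ := (LinearMap.toSpanSingleton K V v).coprod (LinearMap.toSpanSingleton K V (i • v))
  inj := by
    rw [injective_iff_map_eq_zero]
    rintro ⟨a, b⟩ hab
    simp only [LinearMap.coprod_apply, LinearMap.toSpanSingleton_apply] at hab
    have hb : b = 0 := by
      by_contra hb
      have h1 : i • v = (-(b⁻¹ * a)) • v := by
        have : i • v = b⁻¹ • b • i • v := by rw [smul_smul, inv_mul_cancel₀ hb, one_smul]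
        rw [this, eq_neg_of_add_eq_zero_right hab, smul_neg, smul_smul, neg_smul]
      have h2 : -(b⁻¹ * a) ≠ 0 := by
        intro h2
        rw [h2, zero_smul] at h1
        exact act_ne_zero i hv h1
      exact h.iN (H.mem_sup_iff.2 ⟨Units.mk0 _ h2, h1⟩)
    rw [hb, zero_smul, add_zero] at hab
    rw [hb, (smul_eq_zero.1 hab).resolve_right hv]
    rfl
  fix := fun d hd u => by
    simp [H.lin, mem_stabilizer_iff.1 hd, H.perp_fix h.iE (fun d hd => hd) d hd]
  γ := fun k => (if k.1 then i else 1) * (if k.2 then j else 1)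
  γ_one := by simp
  γE := by
    rintro ⟨_ | _, _ | _⟩ <;> simp [h.iE, h.jE, mul_mem]
  act := by
    have hi2 : i • i • v = -v := by
      rw [← mul_smul, h.ii, H.s_smul]
      simp
    have hji : j • i • v = v - i • v := by
      have := H.smul_anti_of_b h.ij v
      rw [hj, smul_add, hi2, eq_comm, neg_eq_iff_eq_neg] at this
      rw [this]
      abel
    rintro ⟨_ | _, _ | _⟩ ⟨a, b⟩ <;>
      simp only [minusP, LinearMap.coprod_apply, LinearMap.toSpanSingleton_apply, mul_smul,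
        one_smul, smul_add, smul_sub, H.lin, hi2, hji, hj, if_true, if_false, Bool.false_eq_true] <;>
      generalize i • v = w <;> module
  gen := fun e he => by
    obtain ⟨n, hn, h1⟩ := h.gen e he
    obtain ⟨_, ⟨c, rfl⟩, d, hd, rfl⟩ := Subgroup.mem_sup_of_normal_left.1 hn
    rcases h1 with rfl | rfl | rfl | rfl
    · exact ⟨c, d, hd, (false, false), by simp⟩
    · exact ⟨c, d, hd, (true, false), by simp⟩
    · exact ⟨c, d, hd, (false, true), by simp⟩
    · exact ⟨c, d, hd, (true, true), by simp⟩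
  perf := fun m => by
    have hji : H.b j i = -1 := by rw [H.b_swap, h.ij]; simp
    have a1 := H.b_sq ⟨_, h.ii.symm⟩ m
    have a2 := H.b_sq ⟨_, h.jj.symm⟩ m
    rw [H.b_swap, inv_eq_one, inv_eq_iff_eq_inv, inv_neg, inv_one] at a1 a2
    rcases a1 with a1 | a1 <;> rcases a2 with a2 | a2
    · exact ⟨(false, false), by rintro ⟨_ | _, _ | _⟩ <;> simp [a1, a2]⟩
    · exact ⟨(true, false), by rintro ⟨_ | _, _ | _⟩ <;> simp [a1, a2, h.ij]⟩
    · exact ⟨(false, true), by rintro ⟨_ | _, _ | _⟩ <;> simp [a1, a2, hji]⟩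
    · exact ⟨(true, true), by rintro ⟨_ | _, _ | _⟩ <;> simp [a1, a2, h.ij, hji]⟩
  γinj := by
    have hji : H.b j i = -1 := by rw [H.b_swap, h.ij]; simp
    have hne := h.ne
    have hne' := h.ne.symm
    rintro ⟨_ | _, _ | _⟩ ⟨_ | _, _ | _⟩ h1 <;> have a1 := h1 (true, false) <;>
      have a2 := h1 (false, true) <;> simp [h.ij, hji, hne, hne'] at a1 a2 ⊢

end Heis

namespace Model
variable {H : Heis K V Γ M} {U J : Type*} [AddCommGroup U] [Module K U] {P : J → U → U} {one : J}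
  (A : Model H U P one)

theorem D_inf [Nontrivial U] {d : M} (hd : d ∈ A.D) (hZ : d ∈ H.s.range) : d = 1 := by
  obtain ⟨u, hu⟩ := exists_ne (0 : U)
  exact H.eq_one_of_Z_fix (fun h => hu (A.inj (h.trans (map_zero _).symm))) hZ (A.fix d hd u)

theorem D_le_perp [Nontrivial U] : A.D ≤ H.perp A.D := by
  obtain ⟨u, hu⟩ := exists_ne (0 : U)
  intro x hx d hd
  exact H.stab_le_perp (fun h => hu (A.inj (h.trans (map_zero _).symm))) (A.fix x hx u) d
    (A.fix d hd u)

theorem act' {e : M} (he : e ∈ H.perp A.D) : ∃ (c : Kˣ) (j : J), (∃ d ∈ A.D, e = H.s c * d * A.γ j) ∧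
    ∀ u, e • A.φ u = A.φ ((c : K) • P j u) := by
  obtain ⟨c, d, hd, j, rfl⟩ := A.gen e he
  exact ⟨c, j, ⟨d, hd, rfl⟩, fun u => by
    rw [mul_smul, mul_smul, A.act, A.fix d hd, H.s_smul, map_smul]⟩

theorem ext [Nontrivial U] (hsq : ∀ x : M, ∃ c, (H.s c * x) * (H.s c * x) = 1 ∨
      (H.s c * x) * (H.s c * x) = H.s (-1)) (hne : H.perp A.D ≠ ⊤) :
    ∃ B : Model H (U × U) (extP P) (false, false, one), H.perp B.D = ⊤ → (H.perp A.D).index ∣ 2 := by
  classical
  have hZ : ∀ x : M, x * x ∈ H.s.range := by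
    intro x
    obtain ⟨c, hc⟩ := hsq x
    have h1 : (H.s c * x) * (H.s c * x) ∈ H.s.range := by
      rcases hc with h | h <;> rw [h]
      · exact one_mem _
      · exact ⟨_, rfl⟩
    rw [← sq, H.s_mul_pow, sq x] at h1
    have h2 := H.s.range.mul_mem (H.s.range.inv_mem ⟨c ^ 2, rfl⟩) h1
    rwa [inv_mul_cancel_left] at h2
  obtain ⟨x0, hx0⟩ : ∃ x0, x0 ∉ H.perp A.D := by
    by_contra h
    push Not at h
    exact hne ((Subgroup.eq_top_iff' _).2 h)
  obtain ⟨z, hz, hzx0⟩ : ∃ z ∈ A.D, H.b z x0 ≠ 1 := by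
    by_contra h
    push Not at h
    exact hx0 h
  have hzz : z * z = 1 := A.D_inf (mul_mem hz hz) (hZ z)
  have hzγ : ∀ j, H.b z (A.γ j) = 1 := fun j => A.γE j z hz
  obtain ⟨x, hxx, hzx, hxγ⟩ : ∃ x : M, x * x = 1 ∧ H.b z x ≠ 1 ∧ ∀ j, H.b x (A.γ j) = 1 := by
    obtain ⟨j0, hj0⟩ := A.perf x0
    obtain ⟨c, hc⟩ := hsq (x0 * (A.γ j0)⁻¹)
    have h1 : H.b z (H.s c * (x0 * (A.γ j0)⁻¹)) ≠ 1 := by simpa [hzγ] using hzx0
    have h2 : ∀ j, H.b (H.s c * (x0 * (A.γ j0)⁻¹)) (A.γ j) = 1 := by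
      intro j
      simp [hj0]
    generalize H.s c * (x0 * (A.γ j0)⁻¹) = x1 at hc h1 h2
    rcases hc with hc | hc
    · exact ⟨x1, hc, h1, h2⟩
    · refine ⟨x1 * z, ?_, by simpa using h1, fun j => by simp [h2, hzγ]⟩
      have := H.mul_pow_eq x1 z 2
      rw [sq, sq, sq, hc, hzz, (H.b_sq (hZ z) x1).resolve_left h1, mul_one, ← map_mul] at this
      simpa using this
  have hzx' : H.b z x = -1 := (H.b_sq (hZ z) x).resolve_left hzx
  have hxz' : H.b x z = -1 := by rw [H.b_swap, hzx']; simp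
  have hm1 : (-1 : Kˣ) ≠ 1 := hzx' ▸ hzx
  have hγx : ∀ j, H.b (A.γ j) x = 1 := fun j => H.b_swap_one (hxγ j)
  have hγz : ∀ j, H.b (A.γ j) z = 1 := fun j => H.b_swap_one (hzγ j)
  let D' : Subgroup M := A.D ⊓ (H.b.flip x).ker
  have hD' : ∀ d, d ∈ D' ↔ d ∈ A.D ∧ H.b d x = 1 := fun d => Iff.rfl
  have hsplit : ∀ e ∈ H.perp D', e ∈ H.perp A.D ∨ x * e ∈ H.perp A.D := by
    intro e he
    have key : ∀ e ∈ H.perp D', H.b z e = 1 → e ∈ H.perp A.D := by
      intro e he hze d hd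
      rcases H.b_sq (hZ d) x with h | h
      · exact he d ⟨hd, h⟩
      · have := he (d * z) ((hD' _).2 ⟨mul_mem hd hz, by simp [h, hzx']⟩)
        simpa [hze] using this
    rcases H.b_sq (hZ z) e with h | h
    · exact Or.inl (key e he h)
    · exact Or.inr (key _ (mul_mem (fun d hd => hd.2) he) (by simp [h, hzx']))
  let xl : V →ₗ[K] V :=
    { toFun := fun w => x • w
      map_add' := smul_add x
      map_smul' := H.lin x }
  have hxl : ∀ w, xl w = x • w := fun _ => rfl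
  have hxx' : ∀ w : V, x • x • w = w := fun w => by rw [← mul_smul, hxx, one_smul]
  refine ⟨{
    D := D'
    φ := A.φ.coprod (xl.comp A.φ)
    inj := ?_
    fix := ?_
    γ := fun k => (if k.1 then x else 1) * ((if k.2.1 then z else 1) * A.γ k.2.2)
    γ_one := by simp [A.γ_one]
    γE := ?_
    act := ?_
    gen := ?_
    perf := ?_
    γinj := ?_ }, ?_⟩
  · rw [injective_iff_map_eq_zero]
    rintro ⟨a, b⟩ hab
    simp only [LinearMap.coprod_apply, LinearMap.comp_apply, hxl] at hab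
    have h1 := congrArg (z • ·) hab
    simp only [smul_add, smul_zero, A.fix z hz, H.smul_anti_of_b hzx'] at h1
    have h2 : (2 : K) • A.φ a = 0 := by
      rw [two_smul]
      linear_combination (norm := abel) hab + h1
    have h3 : (2 : K) ≠ 0 := fun h => hm1 (Units.ext (by
      simp only [Units.val_neg, Units.val_one]; linear_combination -h))
    have h4 : A.φ a = 0 := (smul_eq_zero.1 h2).resolve_left h3
    rw [h4, zero_add, smul_eq_zero_iff_eq] at hab
    rw [A.inj (h4.trans (map_zero _).symm), A.inj (hab.trans (map_zero _).symm)]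
    rfl
  · rintro d ⟨hd, hdx⟩ ⟨a, b⟩
    simp only [LinearMap.coprod_apply, LinearMap.comp_apply, hxl, smul_add,
      H.smul_comm_of_b (x := d) hdx, A.fix d hd]
  · rintro ⟨_ | _, _ | _, j⟩ d ⟨hd, hdx⟩ <;>
      simp [A.γE j d hd, show H.b d x = 1 from hdx, A.D_le_perp hz d hd]
  · rintro ⟨_ | _, _ | _, j⟩ ⟨a, b⟩ <;>
      simp [extP, hxl, mul_smul, H.smul_comm_of_b (hγx j), A.act, A.fix z hz,
        H.smul_anti_of_b hzx', hxx', add_comm]
  · intro e he
    have key : ∀ e ∈ H.perp A.D, ∃ c, ∃ d ∈ D', ∃ (β : Bool) (j : J),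
        e = H.s c * d * ((if β then z else 1) * A.γ j) := by
      intro e he
      obtain ⟨c, d, hd, j, rfl⟩ := A.gen e he
      rcases H.b_sq (hZ d) x with h | h
      · exact ⟨c, d, ⟨hd, h⟩, false, j, by simp⟩
      · refine ⟨c, d * z, (hD' _).2 ⟨mul_mem hd hz, by simp [h, hzx']⟩, true, j, ?_⟩
        simp only [if_true, mul_assoc]
        rw [← mul_assoc z, hzz, one_mul]
    rcases hsplit e he with h | h
    · obtain ⟨c, d, hd, β, j, h1⟩ := key e h
      exact ⟨c, d, hd, (false, β, j), by simpa using h1⟩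
    · obtain ⟨c, d, hd, β, j, h1⟩ := key _ h
      refine ⟨c, d, hd, (true, β, j), ?_⟩
      have h2 : e = x * (x * e) := by rw [← mul_assoc, hxx, one_mul]
      rw [h2, h1]
      simp only [if_true, ← mul_assoc]
      rw [← H.s_comm, mul_assoc _ x d, ← H.b_eq_one_iff.1 hd.2, ← mul_assoc]
  · intro m
    obtain ⟨j0, hj0⟩ := A.perf m
    have a1 := H.b_sq (hZ m) x
    have a2 := H.b_sq (hZ m) z
    rcases a1 with a1 | a1 <;> rcases a2 with a2 | a2
    · exact ⟨(false, false, j0), by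
        rintro ⟨_ | _, _ | _, j⟩ <;> simp [a1, a2, hj0, hγx, hγz]⟩
    · exact ⟨(true, false, j0), by
        rintro ⟨_ | _, _ | _, j⟩ <;> simp [a1, a2, hj0, hγx, hγz, hxγ, hxz']⟩
    · exact ⟨(false, true, j0), by
        rintro ⟨_ | _, _ | _, j⟩ <;> simp [a1, a2, hj0, hγx, hγz, hzγ, hzx']⟩
    · exact ⟨(true, true, j0), by
        rintro ⟨_ | _, _ | _, j⟩ <;> simp [a1, a2, hj0, hγx, hγz, hxγ, hzγ, hzx', hxz']⟩
  · rintro ⟨α, β, j⟩ ⟨α', β', j'⟩ h1
    have a1 := h1 (true, false, one)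
    have a2 := h1 (false, true, one)
    have a3 : j = j' := A.γinj j j' fun k => by
      have := h1 (false, false, k)
      rcases α with _ | _ <;> rcases β with _ | _ <;> rcases α' with _ | _ <;>
        rcases β' with _ | _ <;> simpa [hxγ, hzγ] using this
    have hm1' := hm1.symm
    rcases α with _ | _ <;> rcases β with _ | _ <;> rcases α' with _ | _ <;>
      rcases β' with _ | _ <;> simp [A.γ_one, hγx, hγz, hzx', hxz', hm1, hm1', a3] at a1 a2 ⊢
  · intro h
    rw [Subgroup.index_dvd_two_iff']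
    refine ⟨x, fun e => (hsplit e ?_).symm⟩
    change H.perp D' = ⊤ at h
    rw [h]
    trivial

theorem card_eq [Nontrivial U] (h : H.perp A.D = ⊤) :
    Function.Bijective (fun j => (A.γ j : M ⧸ H.s.range)) := by
  constructor
  · intro j j' hjj
    refine A.γinj j j' fun k => ?_
    have := H.b_Z_left (QuotientGroup.eq.1 hjj) (A.γ k)
    rwa [map_mul, map_inv, MonoidHom.mul_apply, MonoidHom.inv_apply, inv_mul_eq_one] at this
  · intro w
    induction w using QuotientGroup.induction_on with | H m => ?_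
    obtain ⟨c, d, hd, j, rfl⟩ := A.gen m (h ▸ Subgroup.mem_top m)
    have : d = 1 := A.D_inf hd (H.nondeg fun y => (h ▸ Subgroup.mem_top y : y ∈ H.perp A.D) d hd)
    refine ⟨j, ?_⟩
    rw [this, mul_one, QuotientGroup.mk_mul, (QuotientGroup.eq_one_iff (N := H.s.range) _).2 ⟨c, rfl⟩, one_mul]

theorem stab_eq {u : U} (hu0 : u ≠ 0)
    (hu : ∀ (c : Kˣ) j, (c : K) • P j u = u → c = 1 ∧ j = one) : stabilizer M (A.φ u) = A.D := by
  have h1 : A.D ≤ stabilizer M (A.φ u) := fun d hd => A.fix d hd u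
  refine le_antisymm (fun x hx => ?_) h1
  have h2 : x ∈ H.perp A.D := fun d hd =>
    H.stab_le_perp (fun h => hu0 (A.inj (h.trans (map_zero _).symm))) hx d (h1 hd)
  obtain ⟨c, j, ⟨d, hd, rfl⟩, h3⟩ := A.act' h2
  obtain ⟨rfl, rfl⟩ := hu c j (A.inj ((h3 u).symm.trans hx))
  simpa [A.γ_one] using hd

/-- the relation induced by a group element on the model -/
def rel (g : Γ) (hg : ∀ (c : K) (w : V), g • (c • w) = c • g • w) : Submodule K (U × U) where
  carrier := {p | g • A.φ p.1 = A.φ p.2}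
  add_mem' := fun {p q} hp hq => by
    change g • A.φ (p.1 + q.1) = A.φ (p.2 + q.2)
    rw [map_add, map_add, smul_add, hp, hq]
  zero_mem' := by simp
  smul_mem' := fun c p hp => by
    change g • A.φ (c • p.1) = A.φ (c • p.2)
    rw [map_smul, map_smul, hg, hp]

/-- what has to be checked in a model -/
def Rigid (K : Type*) [Field K] {U J : Type*} [AddCommGroup U] [Module K U] (P : J → U → U)
    (v y : U) : Prop :=
  ∀ R : Submodule K (U × U), (∀ u, (0, u) ∈ R → u = 0) → (v, v) ∈ R → (y, y) ∈ R →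
    (∀ j, ∃ (c : Kˣ) (j' : J), ∀ u u', (u, u') ∈ R → (P j u, (c : K) • P j' u') ∈ R) →
    ∀ u, (u, u) ∈ R

include A in
theorem base2 [Finite K] [Finite M] (hlin : ∀ (g : Γ) (c : K) (w : V), g • (c • w) = c • g • w)
    (y : U) (t : Fin 4 → U) (ht0 : ∀ k, k ≠ 0 → t k ≠ 0)
    (ht : ∀ k l, k ≠ 0 → l ≠ 0 → ∀ (c : Kˣ) j, (c : K) • P j (t k) = t l → k = l ∧ c = 1 ∧ j = one)
    (hR : Rigid K P (t 1) y) : HasBase Γ V 2 := by
  have h1 : (1 : Fin 4) ≠ 0 := by decide
  have hst : ∀ k, k ≠ 0 → stabilizer M (A.φ (t k)) = A.D := fun k hk =>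
    A.stab_eq (ht0 k hk) fun c j h => (ht k k hk hk c j h).2
  have hv : A.φ (t 1) ≠ 0 := fun h => ht0 1 h1 (A.inj (h.trans (map_zero _).symm))
  have hfix : ∀ g : Γ, g • A.φ (t 1) = A.φ (t 1) → g • A.φ y = A.φ y → ∀ u, g • A.φ u = A.φ u := by
    intro g hg hy
    refine hR (A.rel g (hlin g)) (fun u hu => ?_) hg hy fun j => ?_
    · have : g • A.φ 0 = A.φ u := hu
      rw [map_zero, smul_zero] at this
      exact A.inj (this.symm.trans (map_zero _).symm)
    · have h2 := H.κ_perp hg (x := A.γ j) (by rw [hst 1 h1]; exact A.γE j)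
      rw [hst 1 h1] at h2
      obtain ⟨c, j', -, h3⟩ := A.act' h2
      refine ⟨c, j', fun u u' hu => ?_⟩
      change g • A.φ (P j u) = A.φ ((c : K) • P j' u')
      rw [← A.act, H.κ_smul, show g • A.φ u = A.φ u' from hu, h3]
  obtain ⟨c, hc⟩ := H.exists_design (stabilizer M (A.φ (t 1)))
  refine H.base2_of hv (y0 := A.φ y) ⟨fun d hd => A.fix d (hst 1 h1 ▸ hd) y, fun g hg hy =>
    ⟨hlin g, fun e he => ?_⟩⟩ hc (fun χ => χ.out) (fun χ => χ.out_eq) (fun χ => A.φ (t (c χ)))
    (fun χ hχ h => ht0 _ hχ (A.inj (h.trans (map_zero _).symm)))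
    (fun χ d hd => A.fix d (hst 1 h1 ▸ hd) _) (fun g hg hy χ => hfix g hg hy _)
    (fun χ hχ x _ hx => ?_) (fun g hg _ h0 hκ => hc.rigid _ fun χ => ?_)
  · rw [hst 1 h1] at he
    obtain ⟨c, j, -, h3⟩ := A.act' he
    rw [h3, hfix g hg hy]
  · have : c χ ≠ 0 := by rcases hχ with h | h <;> rw [h] <;> decide
    rw [hst 1 h1, ← hst _ this]
    exact hx
  · by_cases hχ : c χ = 0
    · rw [hχ, (h0 χ).2 hχ]
    have h2 : (H.τ hg χ).out⁻¹ * H.κ g χ.out ∈ H.perp (stabilizer M (A.φ (t 1))) := by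
      rw [← QuotientGroup.eq, ← H.τ_mk hg]
      simp
    obtain ⟨a, j, -, h3⟩ := A.act' ((congrArg H.perp (hst 1 h1)).le h2)
    have h4 := h3 (t (c χ))
    rw [mul_smul, hκ χ hχ, inv_smul_smul] at h4
    exact (ht _ _ hχ (mt (h0 χ).1 hχ) a j (A.inj h4).symm).1.symm

end Model

end Cfsg.Agent.SolvLin
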