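import Cfsg.Agent.SolvLin.Frame2

/-!
# Bases in the quasi-primitive case from a design
-/

set_option autoImplicit false
set_option linter.style.haveILetI false

namespace Cfsg.Agent.SolvLin

open MulAction

variable {K V Γ M : Type*} [Field K] [AddCommGroup V] [Module K V] [Group Γ]
  [DistribMulAction Γ V] [Group M] [DistribMulAction M V]

theorem IsDesign.one {C X : Type*} [CommGroup C] [CommGroup X] {c : X → Fin 4}
    (hc : IsDesign C c) : c 1 = 0 := by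
  by_contra h
  have := hc.prime 1 h
  rw [orderOf_one] at this
  exact Nat.not_prime_one this

theorem root_of [Finite K] {r a : ℕ} (hn : Nat.card Kˣ = r * a) {U : Kˣ} (hU : U ^ a = 1) :
    ∃ c : Kˣ, c ^ r = U := by
  classical
  obtain ⟨ζ, hζ⟩ := IsCyclic.exists_generator (α := Kˣ)
  obtain ⟨j, -, rfl⟩ := Finset.mem_image.1 (mem_zpowers_iff_mem_range_orderOf.1 (hζ U))
  rw [← pow_mul, ← orderOf_dvd_iff_pow_eq_one, orderOf_eq_card_of_forall_mem_zpowers hζ, hn] at hU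
  have ha : 0 < a := by
    have : 0 < Nat.card Kˣ := Nat.card_pos
    rw [hn] at this
    exact Nat.pos_of_mul_pos_left this
  obtain ⟨k, rfl⟩ := Nat.dvd_of_mul_dvd_mul_right ha hU
  exact ⟨ζ ^ k, by rw [← pow_mul, mul_comm]⟩

theorem proj_colour {γ : K} (h0 : γ ≠ 0) (h1 : γ ≠ 1) (k l : Fin 4)
    (h : (![1, 0, 1, 1] : Fin 4 → K) l * (![0, 1, 1, γ] : Fin 4 → K) k =
      (![0, 1, 1, γ] : Fin 4 → K) l * (![1, 0, 1, 1] : Fin 4 → K) k) : k = l := by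
  have h2 := h0.symm
  have h3 := h1.symm
  fin_cases k <;> fin_cases l <;> simp_all

theorem proj_colour' (l : Fin 4) (h : l ≠ 1) : (![1, 0, 1, 1] : Fin 4 → K) l = 1 := by
  fin_cases l <;> simp_all

/-- the exponent used to normalize representatives -/
def rr (r : ℕ) : ℕ := if r = 2 then 4 else r

theorem colour_arith (k l : Fin 4) (r n : ℕ) (hk : k ≠ 0) (hl : l ≠ 0)
    (h5 : (l : ℕ) * rr r ≡ (k : ℕ) * rr r [MOD n])
    (k2 : l = 2 ∨ l = 3 → r = 2 → ¬ n ∣ 8) (k3 : l = 2 → r = 3 → ¬ n ∣ 3)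
    (l2 : k = 2 ∨ k = 3 → r = 2 → ¬ n ∣ 8) (l3 : k = 2 → r = 3 → ¬ n ∣ 3)
    (m2 : l = 2 → r = 2 ∨ r = 3) (m3 : l = 3 → r = 2)
    (n2 : k = 2 → r = 2 ∨ r = 3) (n3 : k = 3 → r = 2) : k = l := by
  by_contra hkl
  have hr : (r = 2 ∧ ¬ n ∣ 8) ∨ (r = 3 ∧ ¬ n ∣ 3 ∧ k ≠ 3 ∧ l ≠ 3) := by
    by_cases hr2 : r = 2
    · left
      refine ⟨hr2, ?_⟩
      fin_cases k <;> fin_cases l <;> simp_all
    · right
      fin_cases k <;> fin_cases l <;> simp_all
  have h6 := (Nat.modEq_iff_dvd.1 h5)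
  clear h5 k2 k3 l2 l3 m2 m3 n2 n3
  rcases hr with ⟨rfl, hn⟩ | ⟨rfl, hn, hk, hl⟩
  · apply hn
    have h7 : ((n : ℤ)) ∣ 8 := h6.trans (by
      clear h6
      revert k l
      decide)
    exact_mod_cast h7
  · apply hn
    have h7 : ((n : ℤ)) ∣ 3 := h6.trans (by
      clear h6
      revert k l
      decide)
    exact_mod_cast h7

namespace Heis
variable (H : Heis K V Γ M)

theorem base3_of [Finite K] [Finite M] {v y0 : V} (hv : v ≠ 0) (hp : H.Pair v y0)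
    {c : M ⧸ H.perp (stabilizer M v) → Fin 4} (hc : IsDesign Kˣ c) : HasBase Γ V 3 := by
  classical
  haveI : Fintype (M ⧸ H.perp (stabilizer M v)) := Fintype.ofFinite _
  obtain ⟨γ, hγ⟩ : ∃ γ : K, (γ ≠ 0 ∧ γ ≠ 1) ∨ ∀ χ : M ⧸ H.perp (stabilizer M v), χ = 1 := by
    by_cases h : ∃ γ : Kˣ, γ ≠ 1
    · obtain ⟨γ, hγ⟩ := h
      exact ⟨γ, Or.inl ⟨γ.ne_zero, fun h => hγ (Units.ext h)⟩⟩
    · push Not at h
      refine ⟨0, Or.inr fun χ => ?_⟩
      induction χ using QuotientGroup.induction_on with | H x => ?_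
      rw [QuotientGroup.eq_one_iff]
      exact fun d _ => h _
  let α : Fin 4 → K := ![1, 0, 1, 1]
  let β : Fin 4 → K := ![0, 1, 1, γ]
  let y : M ⧸ H.perp (stabilizer M v) → V := fun χ => if χ = 1 then y0 else α (c χ) • χ.out • v
  let z : M ⧸ H.perp (stabilizer M v) → V := fun χ => if χ = 1 then 0 else β (c χ) • χ.out • v
  have hy : ∀ χ, H.Comp (stabilizer M v) χ.out (y χ) := by
    intro χ
    simp only [y]
    split_ifs with h
    · exact (H.comp_one.2 hp.1).congr H (by simp [h])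
    · exact (H.comp_smul (fun d hd => hd) _).kmul H _
  have hz : ∀ χ, H.Comp (stabilizer M v) χ.out (z χ) := by
    intro χ
    simp only [z]
    split_ifs with h
    · exact Comp.zero H _ _
    · exact (H.comp_smul (fun d hd => hd) _).kmul H _
  refine ⟨![v, ∑ χ, y χ, ∑ χ, z χ], fun g hg => ?_⟩
  have hg0 : g • v = v := hg 0
  have hg1 := H.smul_comp_eq hg0 y hy (hg 1)
  have hg2 := H.smul_comp_eq hg0 z hz (hg 2)
  have hy0 : g • y0 = y0 := by simpa [y] using hg1 1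
  obtain ⟨hlin, hE⟩ := hp.2 g hg0 hy0
  have key : ∀ χ, χ ≠ 1 → α (c χ) • g • χ.out • v = α (c (H.τ hg0 χ)) • (H.τ hg0 χ).out • v ∧
      β (c χ) • g • χ.out • v = β (c (H.τ hg0 χ)) • (H.τ hg0 χ).out • v := by
    intro χ hχ
    have h1 : H.τ hg0 χ ≠ 1 := by simpa using hχ
    have h2 := hg1 χ
    have h3 := hg2 χ
    simp only [y, z, if_neg hχ, if_neg h1, hlin] at h2 h3
    exact ⟨h2, h3⟩
  have hτ : ∀ χ, H.τ hg0 χ = χ := by
    apply hc.rigid
    intro χ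
    by_cases hχ : χ = 1
    · simp [hχ]
    obtain ⟨hγ0, hγ1⟩ := hγ.resolve_right (fun h => hχ (h χ))
    obtain ⟨h2, h3⟩ := key χ hχ
    have h4 : α (c χ) * β (c (H.τ hg0 χ)) = β (c χ) * α (c (H.τ hg0 χ)) := by
      apply smul_cancel (act_ne_zero g (act_ne_zero χ.out hv))
      rw [mul_comm (α _), mul_comm (β (c χ)), mul_smul, mul_smul, h2, h3, smul_comm]
    exact proj_colour hγ0 hγ1 _ _ h4
  refine H.final hv hg0 hE hc (fun χ => χ.out) (fun χ => χ.out_eq) (fun _ => v) (fun _ _ => hv)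
    (fun _ d hd => hd) (fun _ => hg0) (fun _ _ x _ hx => hx) hτ (fun χ hχ => ?_)
  have hχ1 : χ ≠ 1 := fun h => hχ (h ▸ hc.one)
  obtain ⟨h2, h3⟩ := key χ hχ1
  rw [hτ] at h2 h3
  by_cases h : c χ = 1
  · rw [h] at h3
    simpa [β] using h3
  · have : α (c χ) = 1 := proj_colour' _ h
    simpa [this] using h2

theorem base2_of [Finite M] {v y0 : V} (hv : v ≠ 0) (hp : H.Pair v y0)
    {c : M ⧸ H.perp (stabilizer M v) → Fin 4} (hc : IsDesign Kˣ c)
    (m : M ⧸ H.perp (stabilizer M v) → M) (hm : ∀ χ, (m χ : M ⧸ H.perp (stabilizer M v)) = χ)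
    (u : M ⧸ H.perp (stabilizer M v) → V) (hu0 : ∀ χ, c χ ≠ 0 → u χ ≠ 0)
    (huD : ∀ χ, ∀ d ∈ stabilizer M v, d • u χ = u χ)
    (hug : ∀ g : Γ, g • v = v → g • y0 = y0 → ∀ χ, g • u χ = u χ)
    (hgen : ∀ χ, c χ = 1 ∨ c χ = 2 → ∀ x ∈ H.perp (stabilizer M v), x • u χ = u χ →
      x ∈ stabilizer M v)
    (hτ : ∀ (g : Γ) (hg : g • v = v), (∀ (a : K) (w : V), g • (a • w) = a • g • w) →
      (∀ χ, c (H.τ hg χ) = 0 ↔ c χ = 0) →
      (∀ χ, c χ ≠ 0 → H.κ g (m χ) • u χ = m (H.τ hg χ) • u (H.τ hg χ)) → ∀ χ, H.τ hg χ = χ) :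
    HasBase Γ V 2 := by
  classical
  haveI : Fintype (M ⧸ H.perp (stabilizer M v)) := Fintype.ofFinite _
  let y : M ⧸ H.perp (stabilizer M v) → V := fun χ =>
    if χ = 1 then y0 else if c χ = 0 then 0 else m χ • u χ
  have hy : ∀ χ, H.Comp (stabilizer M v) χ.out (y χ) := by
    intro χ
    simp only [y]
    split_ifs with h h'
    · exact (H.comp_one.2 hp.1).congr H (by simp [h])
    · exact Comp.zero H _ _
    · exact (H.comp_smul (huD χ) _).congr H (by simp [hm])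
  refine ⟨![v, ∑ χ, y χ], fun g hg => ?_⟩
  have hg0 : g • v = v := hg 0
  have hg1 := H.smul_comp_eq hg0 y hy (hg 1)
  have hy0 : g • y0 = y0 := by simpa [y] using hg1 1
  obtain ⟨hlin, hE⟩ := hp.2 g hg0 hy0
  have hne : ∀ χ, χ ≠ 1 → (y χ = 0 ↔ c χ = 0) := by
    intro χ hχ
    simp only [y, if_neg hχ]
    split_ifs with h
    · simp [h]
    · simp only [h, iff_false]
      exact act_ne_zero _ (hu0 χ h)
  have h0 : ∀ χ, c (H.τ hg0 χ) = 0 ↔ c χ = 0 := by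
    intro χ
    by_cases hχ : χ = 1
    · simp [hχ]
    have h1 : H.τ hg0 χ ≠ 1 := by simpa using hχ
    rw [← hne _ h1, ← hne _ hχ, ← hg1 χ, smul_eq_zero_iff_eq]
  have key : ∀ χ, c χ ≠ 0 → g • m χ • u χ = m (H.τ hg0 χ) • u (H.τ hg0 χ) := by
    intro χ hχ
    have hχ1 : χ ≠ 1 := fun h => hχ (h ▸ hc.one)
    have h1 : H.τ hg0 χ ≠ 1 := by simpa using hχ1
    have h2 := hg1 χ
    simpa only [y, if_neg hχ1, if_neg h1, if_neg hχ, if_neg (mt (h0 χ).1 hχ)] using h2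
  have hτ' := hτ g hg0 hlin h0 (fun χ hχ => by
    rw [← key χ hχ, H.κ_smul, hug g hg0 hy0])
  refine H.final hv hg0 hE hc m hm u hu0 huD (hug g hg0 hy0) hgen hτ' (fun χ hχ => ?_)
  rw [key χ hχ, hτ']

theorem exists_rep [Finite K] [Finite M] (D : Subgroup M) (χ : M ⧸ H.perp D)
    (hr : (orderOf χ).Prime) : ∃ m : M, (m : M ⧸ H.perp D) = χ ∧ m ^ orderOf χ ∈ H.s.range ∧
      m ^ rr (orderOf χ) = 1 := by
  obtain ⟨e, he, hdvd, hmem⟩ := H.exists_exp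
  set r := orderOf χ with hrdef
  have hre : r ∣ e := by
    rw [hrdef, orderOf_dvd_iff_pow_eq_one, ← χ.out_eq]
    change ((χ.out : M) : M ⧸ H.perp D) ^ e = 1
    rw [← QuotientGroup.mk_pow, QuotientGroup.eq_one_iff]
    exact H.Z_le_perp _ (hmem _)
  obtain ⟨e', rfl⟩ := hre
  have hcop : e'.Coprime r := (Nat.coprime_of_squarefree_mul he).symm
  obtain ⟨t, -, ht⟩ := Nat.exists_mul_mod_eq_one_of_coprime hcop hr.one_lt
  let x := χ.out ^ (e' * t)
  have hx1 : (x : M ⧸ H.perp D) = χ := by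
    simp only [x, QuotientGroup.mk_pow, QuotientGroup.out_eq']
    rw [← pow_mod_orderOf, ← hrdef, ht, pow_one]
  obtain ⟨u, hu⟩ : x ^ r ∈ H.s.range := by
    simp only [x]
    rw [← pow_mul, show e' * t * r = r * e' * t by ring, pow_mul]
    exact pow_mem (hmem _) t
  obtain ⟨n', hn'⟩ : r ∣ Nat.card Kˣ := (Dvd.intro _ rfl).trans hdvd
  suffices h : ∃ a : Kˣ, (H.s a * x) ^ rr r = 1 by
    obtain ⟨a, ha⟩ := h
    refine ⟨H.s a * x, ?_, ?_, ha⟩
    · rw [QuotientGroup.mk_mul, hx1, (QuotientGroup.eq_one_iff _).2 (H.Z_le_perp _ ⟨a, rfl⟩),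
        one_mul]
    · rw [H.s_mul_pow, ← hu]
      exact mul_mem ⟨_, rfl⟩ ⟨_, rfl⟩
  have h1 : (u ^ n') ^ r = 1 := by rw [← pow_mul, mul_comm, ← hn', pow_card_eq_one']
  have h2 : (u ^ n') ^ 2 = 1 := H.s_inj (by
    rw [map_pow, map_pow, hu, ← pow_mul, ← pow_mul, ← mul_assoc, ← hn', mul_comm,
      H.pow_two_mul_card, map_one])
  have key : ∀ ε : Kˣ, (ε * u) ^ n' = 1 → ∃ a : Kˣ, (H.s a * x) ^ r = H.s ε⁻¹ := by
    intro ε hε
    obtain ⟨a, ha⟩ := root_of hn' (U := (ε * u)⁻¹) (by rw [inv_pow, hε, inv_one])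
    refine ⟨a, ?_⟩
    rw [H.s_mul_pow, ha, ← hu, ← map_mul]
    congr 1
    rw [mul_inv, mul_assoc, inv_mul_cancel, mul_one]
  by_cases hr2 : r = 2
  · have h3 : ∃ ε : Kˣ, ε ^ 2 = 1 ∧ (ε * u) ^ n' = 1 := by
      by_cases h4 : u ^ n' = 1
      · exact ⟨1, by simp, by simpa using h4⟩
      · have h5 : Nat.card Kˣ % 4 = 2 := by
          by_contra h5
          apply h4
          apply H.s_inj
          rw [map_pow, hu, ← pow_mul, ← hn', H.pow_card_eq_one_of h5, map_one]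
        have h6 : Odd n' := Nat.odd_iff.2 (by rw [hr2] at hn'; omega)
        have h7 : ((u ^ n' : Kˣ) : K) ^ 2 = 1 := by
          rw [← Units.val_pow_eq_pow_val, h2, Units.val_one]
        have h8 : u ^ n' = -1 :=
          Units.ext ((sq_eq_one_iff.1 h7).resolve_left (fun h => h4 (Units.ext h)))
        exact ⟨-1, by simp, by rw [mul_pow, h8, h6.neg_one_pow]; simp⟩
    obtain ⟨ε, hε, hε'⟩ := h3
    obtain ⟨a, ha⟩ := key ε hε'
    refine ⟨a, ?_⟩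
    rw [hr2] at ha
    rw [rr, if_pos hr2, show 4 = 2 * 2 from rfl, pow_mul, ha, ← map_pow, inv_pow, hε, inv_one,
      map_one]
  · have h3 : u ^ n' = 1 := by
      have h4 := pow_gcd_eq_one.2 ⟨h1, h2⟩
      rwa [(Nat.coprime_primes hr Nat.prime_two).2 hr2, pow_one] at h4
    obtain ⟨a, ha⟩ := key 1 (by simpa using h3)
    exact ⟨a, by rw [rr, if_neg hr2, ha, inv_one, map_one]⟩

theorem rr_pow_eq {v : V} (hv : v ≠ 0) {g : Γ} (hA : ∀ c, H.κ g (H.s c) = H.s c) {r : ℕ}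
    (hr : r.Prime) {m m' : M} (hm : m ^ r ∈ H.s.range) (hm' : m' ^ r ∈ H.s.range)
    (h : H.κ g m • v = m' • v) : m ^ rr r = m' ^ rr r := by
  have hκ : ∀ x ∈ H.s.range, H.κ g x = x := by
    rintro _ ⟨c, rfl⟩
    exact hA c
  obtain ⟨x, hx, hxm⟩ : ∃ x ∈ stabilizer M v, H.κ g m = m' * x :=
    ⟨m'⁻¹ * H.κ g m, by rw [mem_stabilizer_iff, mul_smul, h, inv_smul_smul], by group⟩
  have h1 : x ^ r = 1 := by
    refine H.eq_one_of_Z_fix hv ?_ (pow_mem hx r)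
    have h2 := H.mul_pow_eq m' x r
    rw [← hxm, ← map_pow, hκ _ hm] at h2
    have h3 : x ^ r = (m' ^ r)⁻¹ * ((H.s (H.b x m' ^ r.choose 2))⁻¹ * m ^ r) := by
      rw [h2]; group
    rw [h3]
    exact mul_mem (inv_mem hm') (mul_mem (inv_mem ⟨_, rfl⟩) hm)
  obtain ⟨hd1, hd2⟩ : r ∣ rr r ∧ r ∣ (rr r).choose 2 := by
    by_cases hr2 : r = 2
    · subst hr2
      decide
    · rw [rr, if_neg hr2]
      exact ⟨dvd_rfl, hr.dvd_choose_self two_ne_zero (lt_of_le_of_ne hr.two_le (Ne.symm hr2))⟩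
  obtain ⟨k1, hk1⟩ := hd1
  obtain ⟨k2, hk2⟩ := hd2
  have h4 := H.mul_pow_eq m' x (rr r)
  have h5 : m ^ rr r ∈ H.s.range := by
    rw [hk1, pow_mul]
    exact pow_mem hm _
  have h6 : H.b x m' ^ r = 1 := by rw [← map_pow, H.b_Z_right hm']
  rw [← hxm, ← map_pow, hκ _ h5, hk2, pow_mul, h6, one_pow, map_one, one_mul] at h4
  rw [h4]
  conv_lhs => rw [hk1, pow_mul x, h1, one_pow, mul_one]
  rw [← hk1]

/-- the generic two-vector theorem. -/
theorem base2_gen [Finite K] [Finite M] {v y0 : V} (hv : v ≠ 0) (hp : H.Pair v y0)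
    {c : M ⧸ H.perp (stabilizer M v) → Fin 4} (hc : IsDesign Kˣ c)
    (h2 : ∀ χ, c χ = 2 ∨ c χ = 3 → orderOf χ = 2 → ¬ Nat.card Kˣ ∣ 8)
    (h3 : ∀ χ, c χ = 2 → orderOf χ = 3 → ¬ Nat.card Kˣ ∣ 3) : HasBase Γ V 2 := by
  classical
  obtain ⟨ζ, hζ⟩ := IsCyclic.exists_generator (α := Kˣ)
  have hord := orderOf_eq_card_of_forall_mem_zpowers hζ
  have hrep : ∀ χ : M ⧸ H.perp (stabilizer M v), ∃ m : M,
      (m : M ⧸ H.perp (stabilizer M v)) = χ ∧ (c χ ≠ 0 → m ^ orderOf χ ∈ H.s.range ∧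
        m ^ rr (orderOf χ) = H.s (ζ ^ ((c χ : ℕ) * rr (orderOf χ)))) := by
    intro χ
    by_cases hχ : c χ = 0
    · exact ⟨χ.out, χ.out_eq, fun h => absurd hχ h⟩
    obtain ⟨m, h1, h2, h3⟩ := H.exists_rep _ χ (hc.prime χ hχ)
    refine ⟨H.s (ζ ^ (c χ : ℕ)) * m, ?_, fun _ => ⟨?_, ?_⟩⟩
    · rw [QuotientGroup.mk_mul, h1, (QuotientGroup.eq_one_iff _).2 (H.Z_le_perp _ ⟨_, rfl⟩),
        one_mul]
    · rw [H.s_mul_pow]
      exact mul_mem ⟨_, rfl⟩ h2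
    · rw [H.s_mul_pow, h3, mul_one, pow_mul]
  choose m hm hm' using hrep
  refine H.base2_of hv hp hc m hm (fun _ => v) (fun _ _ => hv) (fun _ d hd => hd)
    (fun g hg _ _ => hg) (fun _ _ x _ hx => hx) (fun g hg hlin h0 hκ => ?_)
  apply hc.rigid
  intro χ
  by_cases hχ : c χ = 0
  · rw [hχ, (h0 χ).2 hχ]
  have hψ : c (H.τ hg χ) ≠ 0 := mt (h0 χ).1 hχ
  have ho : orderOf (H.τ hg χ) = orderOf χ := MulEquiv.orderOf_eq _ _
  obtain ⟨a1, a2⟩ := hm' χ hχ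
  obtain ⟨b1, b2⟩ := hm' _ hψ
  rw [ho] at b1 b2
  have h4 := H.rr_pow_eq hv (H.A_of_lin hlin) (hc.prime χ hχ) a1 b1 (hκ χ hχ)
  rw [a2, b2] at h4
  have h5 := H.s_inj h4
  rw [pow_eq_pow_iff_modEq, hord] at h5
  exact colour_arith _ _ _ _ hψ hχ h5 (h2 χ) (h3 χ) (ho ▸ h2 _) (ho ▸ h3 _)
    (fun h => (hc.two χ h).1) (fun h => (hc.three χ h).1)
    (fun h => ho ▸ (hc.two _ h).1) (fun h => ho ▸ (hc.three _ h).1)

/-- the two-vector theorem for groups of odd order modulo scalars. -/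
theorem base2_odd [Finite M] {v y0 : V} (hv : v ≠ 0) (hp : H.Pair v y0)
    {c : M ⧸ H.perp (stabilizer M v) → Fin 4} (hc : IsDesign Kˣ c)
    (hodd : ∀ g : Γ, ∃ k, Odd k ∧ H.κ g ^ k = 1) : HasBase Γ V 2 := by
  have hX : Odd (Nat.card (M ⧸ H.perp (stabilizer M v))) := by
    rw [← Nat.not_even_iff_odd, even_iff_two_dvd]
    intro h
    haveI : Fact (Nat.Prime 2) := ⟨Nat.prime_two⟩
    obtain ⟨χ, hχ⟩ := exists_prime_orderOf_dvd_card' 2 h
    induction χ using QuotientGroup.induction_on with | H x => ?_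
    obtain ⟨g, hg⟩ := H.inner x
    obtain ⟨k, hk, hk'⟩ := hodd g
    have h1 : x ^ k ∈ H.s.range := by
      apply H.nondeg
      intro y
      rw [H.b_eq_one_iff]
      rw [hg, ← map_pow] at hk'
      have := DFunLike.congr_fun hk' y
      simp only [MulAut.conj_apply, MulAut.one_apply] at this
      calc x ^ k * y = x ^ k * y * (x ^ k)⁻¹ * x ^ k := by group
        _ = _ := by rw [this]
    have h2 : 2 ∣ k := by
      rw [← hχ, orderOf_dvd_iff_pow_eq_one, ← QuotientGroup.mk_pow, QuotientGroup.eq_one_iff]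
      exact H.Z_le_perp _ h1
    exact (Nat.not_even_iff_odd.2 hk) (even_iff_two_dvd.2 h2)
  refine H.base2_of hv hp hc (fun χ => χ.out) (fun χ => χ.out_eq) (fun _ => v) (fun _ _ => hv)
    (fun _ d hd => hd) (fun g hg _ _ => hg) (fun _ _ x _ hx => hx) (fun g hg _ h0 _ χ => ?_)
  have h1 := hc.rigid_odd hX (H.τ hg) h0
  obtain ⟨_, ⟨k, rfl⟩, hk⟩ := hodd g
  induction χ using QuotientGroup.induction_on with | H x => ?_
  have h2 : ∀ (j : ℕ) (y : M), (((H.κ g ^ (2 * j)) y : M) : M ⧸ H.perp (stabilizer M v)) = y := by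
    intro j
    induction j with
    | zero => simp
    | succ j ih =>
      intro y
      rw [mul_add, pow_add, MulAut.mul_apply, ih, mul_one, sq, MulAut.mul_apply, ← H.τ_mk hg,
        ← H.τ_mk hg, h1]
  have h3 := h2 k (H.κ g x)
  rw [← MulAut.mul_apply, ← pow_succ, hk, MulAut.one_apply] at h3
  rw [H.τ_mk, ← h3]

end Heis

end Cfsg.Agent.SolvLin
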