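import Cfsg.Agent.SolvLin.Cert

/-!
# The fields with five and nine elements
-/

set_option autoImplicit false
set_option linter.style.haveILetI false

namespace Cfsg.Agent.SolvLin

open MulAction

variable {K V Γ M : Type*} [Field K] [AddCommGroup V] [Module K V] [Group Γ]
  [DistribMulAction Γ V] [Group M] [DistribMulAction M V]

theorem zmod_lin {p : ℕ} [NeZero p] [Module (ZMod p) V] (g : Γ) (c : ZMod p) (w : V) :
    g • (c • w) = c • g • w := by
  rw [← ZMod.natCast_zmod_val c, Nat.cast_smul_eq_nsmul, Nat.cast_smul_eq_nsmul, smul_comm]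

theorem Setup.transport {K' : Type*} [Field K'] (S : Setup K V Γ) (e : K' ≃+* K) :
    letI := Module.compHom V e.toRingHom
    ∃ S' : Setup K' V Γ, S'.s.range = S.s.range := by
  letI := Module.compHom V e.toRingHom
  have h : (S.s.comp (Units.map e.toRingHom.toMonoidHom)).range = S.s.range := by
    rw [MonoidHom.range_comp, (MonoidHom.range_eq_top (f := Units.map e.toRingHom.toMonoidHom)).2
      (Units.mapEquiv e.toMulEquiv).surjective, ← MonoidHom.range_eq_map]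
  exact ⟨⟨S.s.comp (Units.map e.toRingHom.toMonoidHom), fun c v => S.s_smul _ v, S.faithful,
    h ▸ S.normal, S.solv, h ▸ S.maxab, S.nontriv⟩, h⟩

namespace Heis
variable (H : Heis K V Γ M) [Finite K] [Finite M]

omit [Finite M] in
theorem sq_mem (h : Nat.card Kˣ ∣ 8) (x : M) : x * x ∈ H.s.range := by
  obtain ⟨e, he, hdvd, hmem⟩ := H.exists_exp
  obtain ⟨k, hk⟩ : e ∣ 2 := (he.dvd_pow_iff_dvd (n := 3) (by decide)).1 (hdvd.trans h)
  rw [← sq, hk, pow_mul]
  exact pow_mem (hmem x) k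

theorem hsq (h : Nat.card Kˣ = 2 ∨ Nat.card Kˣ = 4 ∨ Nat.card Kˣ = 8) (x : M) :
    ∃ c, (H.s c * x) * (H.s c * x) = 1 ∨ (H.s c * x) * (H.s c * x) = H.s (-1) := by
  obtain ⟨u, hu⟩ := H.sq_mem (by rcases h with h | h | h <;> rw [h] <;> decide) x
  by_cases h2 : Nat.card Kˣ = 2
  · have h1 : (u : K) ^ 2 = 1 := by
      rw [← Units.val_pow_eq_pow_val, ← h2, pow_card_eq_one', Units.val_one]
    refine ⟨1, ?_⟩
    rw [map_one, one_mul, ← hu]
    exact (sq_eq_one_iff.1 h1).imp (fun h => by rw [Units.ext (u := u) (v := 1) h, map_one])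
      (fun h => by rw [Units.ext (u := u) (v := -1) h])
  · obtain ⟨a, ha⟩ : 2 ∣ Nat.card Kˣ := by omega
    have h1 := H.pow_card_eq_one_of (by omega) x
    rw [ha, pow_mul, sq, ← hu, ← map_pow] at h1
    obtain ⟨c, hc⟩ := root_of ha (U := u⁻¹) (by
      rw [inv_pow, H.s_inj (h1.trans (map_one _).symm), inv_one])
    exact ⟨c, Or.inl (by rw [← sq, H.s_mul_pow, hc, sq, ← hu, ← map_mul, inv_mul_cancel, map_one])⟩

theorem base2_small {v y : V} (hv : v ≠ 0) (hp : H.Pair v y)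
    (h : (H.perp (stabilizer M v)).index ∣ 2) : HasBase Γ V 2 := by
  obtain ⟨c, hc⟩ := H.exists_design (stabilizer M v)
  have h1 : ¬ 2 < Nat.card (M ⧸ H.perp (stabilizer M v)) := not_lt.2 (Nat.le_of_dvd two_pos h)
  exact H.base2_gen hv hp hc
    (fun χ h => (h1 (h.elim (fun h => (hc.two χ h).2) fun h => (hc.three χ h).2)).elim)
    (fun χ h => (h1 (hc.two χ h).2).elim)

theorem base2_five {V Γ M : Type*} [AddCommGroup V] [Module (ZMod 5) V] [Group Γ]
    [DistribMulAction Γ V] [Group M] [DistribMulAction M V] [Finite M]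
    (H : Heis (ZMod 5) V Γ M) : HasBase Γ V 2 := by
  have hn : Nat.card (ZMod 5)ˣ = 4 := by rw [Nat.card_eq_fintype_card, ZMod.card_units]
  have hsq := H.hsq (Or.inr (Or.inl hn))
  obtain ⟨v, hv, h | ⟨i, j, hm, -⟩⟩ := H.frame_cases
  · obtain ⟨y, hy⟩ := H.pair_plus hv.1 h
    by_cases h0 : H.perp (H.modelPlus hv.1 h).D = ⊤
    · exact H.base2_small hv.1 hy (by
        rw [show H.perp (stabilizer M v) = ⊤ from h0, Subgroup.index_top]; exact one_dvd _)
    obtain ⟨A1, hA1⟩ := (H.modelPlus hv.1 h).ext hsq h0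
    by_cases h1 : H.perp A1.D = ⊤
    · exact H.base2_small hv.1 hy (hA1 h1)
    obtain ⟨A2, -⟩ := A1.ext hsq h1
    exact A2.base2_of_cert zmod_lin cert_five
  · have := hm.card
    omega

include H in
theorem base2_nine (hn : Nat.card Kˣ = 8) : HasBase Γ V 2 := by
  classical
  have hsq := H.hsq (Or.inr (Or.inr hn))
  have hZ := H.sq_mem hn.dvd
  obtain ⟨v0, hv0, h | ⟨i, j, hm, -⟩⟩ := H.frame_cases
  swap
  · have := hm.card
    omega
  by_cases h0 : H.perp (H.modelPlus hv0.1 h).D = ⊤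
  · obtain ⟨y, hy⟩ := H.pair_plus hv0.1 h
    exact H.base2_small hv0.1 hy (by
      rw [show H.perp (stabilizer M v0) = ⊤ from h0, Subgroup.index_top]; exact one_dvd _)
  obtain ⟨B, -⟩ := (H.modelPlus hv0.1 h).ext hsq h0
  obtain ⟨ζ, hζ⟩ := IsCyclic.exists_generator (α := Kˣ)
  have hord := (orderOf_eq_card_of_forall_mem_zpowers hζ).trans hn
  have hζ4 : (ζ : K) ^ 4 ≠ 1 := fun h => by
    have := orderOf_dvd_of_pow_eq_one (Units.ext h : ζ ^ 4 = 1)
    rw [hord] at this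
    omega
  have hζ0 := ζ.ne_zero
  have h2 : (2 : K) ≠ 0 := fun h => hζ4 (by
    have h8 : (ζ : K) ^ 8 = 1 := by
      rw [← Units.val_pow_eq_pow_val, ← hord, pow_orderOf_eq_one, Units.val_one]
    have : ((ζ : K) ^ 4 - 1) ^ 2 = 0 := by linear_combination h8 + (1 - (ζ : K) ^ 4) * h
    exact sub_eq_zero.1 (pow_eq_zero_iff two_ne_zero |>.1 this))
  have hφ : ∀ b : K, B.φ (1, b) ≠ 0 := fun b h => by
    simpa using B.inj (h.trans (map_zero _).symm)
  have hst : stabilizer M (B.φ (1, ζ)) = B.D := by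
    refine B.stab_eq (by simp) ?_
    rintro c ⟨_ | _, _ | _, _⟩ hc <;>
      simp only [extP, Prod.smul_mk, smul_eq_mul, Prod.mk.injEq, if_true, if_false,
        Bool.false_eq_true, mul_one] at hc
    · exact ⟨Units.ext hc.1, rfl⟩
    · rw [hc.1] at hc
      exact absurd (show (2 : K) * ζ = 0 by linear_combination -hc.2) (mul_ne_zero h2 hζ0)
    · rw [hc.2] at hc
      exact absurd (by linear_combination ((ζ : K) ^ 2 + 1) * hc.1) hζ4
    · rw [hc.2] at hc
      exact absurd (by linear_combination (1 - (ζ : K) ^ 2) * hc.1) hζ4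
  have hiv : B.γ (false, true, ()) • B.φ (1, ζ) = B.φ (1, -ζ) := B.act _ _
  have hcomb : ∀ u : K × K, ∃ α β : K, B.φ u = α • B.φ (1, ζ) + β • B.φ (1, -ζ) := by
    rintro ⟨a, b⟩
    refine ⟨(a + b / ζ) / 2, (a - b / ζ) / 2, ?_⟩
    rw [← map_smul, ← map_smul, ← map_add]
    congr 1
    ext <;> simp <;> field_simp <;> ring
  obtain ⟨y, hy⟩ := H.pair_of (hφ ζ) (i := B.γ (false, true, ())) (hst ▸ B.γE _)
    (Or.inl (H.eq_one_of_Z_fix (hφ ζ) (hZ _) (by rw [mul_smul, hiv, B.act]; simp [extP])))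
    (fun e he => by
      obtain ⟨c, j, -, h3⟩ := B.act' (hst ▸ he)
      rw [h3, hiv]
      exact hcomb _)
  obtain ⟨c, hc⟩ := H.exists_design (stabilizer M (B.φ (1, ζ)))
  have ho : ∀ χ, c χ ≠ 0 → orderOf χ = 2 := by
    intro χ hχ
    refine (Nat.prime_dvd_prime_iff_eq (hc.prime χ hχ) Nat.prime_two).1 ?_
    induction χ using QuotientGroup.induction_on with | H x => ?_
    rw [orderOf_dvd_iff_pow_eq_one, ← QuotientGroup.mk_pow, QuotientGroup.eq_one_iff, sq]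
    exact H.Z_le_perp _ (hZ x)
  have hrep : ∀ χ : M ⧸ H.perp (stabilizer M (B.φ (1, ζ))), ∃ m : M,
      (m : M ⧸ H.perp (stabilizer M (B.φ (1, ζ)))) = χ ∧
        (c χ ≠ 0 → m ^ 4 = H.s (ζ ^ ((c χ : ℕ) * 4))) := by
    intro χ
    by_cases hχ : c χ = 0
    · exact ⟨χ.out, χ.out_eq, fun h => absurd hχ h⟩
    obtain ⟨m, h1, -, h3⟩ := H.exists_rep _ χ (hc.prime χ hχ)
    rw [ho χ hχ] at h3
    refine ⟨H.s (ζ ^ (c χ : ℕ)) * m, ?_, fun _ => ?_⟩
    · rw [QuotientGroup.mk_mul, h1, (QuotientGroup.eq_one_iff _).2 (H.Z_le_perp _ ⟨_, rfl⟩),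
        one_mul]
    · rw [H.s_mul_pow, show m ^ 4 = 1 from h3, mul_one, pow_mul]
  choose m hm hm' using hrep
  refine H.base2_of (hφ ζ) hy hc m hm (fun χ => B.φ (1, if c χ = 3 then 0 else ζ))
    (fun χ _ => hφ _) (fun χ d hd => B.fix d (hst ▸ hd) _) (fun g hg hg' χ => ?_)
    (fun χ hχ x _ hx => ?_) (fun g hg hlin h0 hκ => hc.rigid _ fun χ => ?_)
  · obtain ⟨hlin, hE⟩ := hy.2 g hg hg'
    obtain ⟨α, β, h3⟩ := hcomb (1, if c χ = 3 then 0 else ζ)
    have := hE _ (hst ▸ B.γE (false, true, ()))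
    rw [hiv] at this
    rw [h3, smul_add, hlin, hlin, hg, this]
  · rwa [if_neg (by rcases hχ with h | h <;> rw [h] <;> decide)] at hx
  by_cases hχ : c χ = 0
  · rw [hχ, (h0 χ).2 hχ]
  have hψ : c (H.τ hg χ) ≠ 0 := mt (h0 χ).1 hχ
  have h3 : (m (H.τ hg χ))⁻¹ * H.κ g (m χ) ∈ H.perp (stabilizer M (B.φ (1, ζ))) := by
    rw [← QuotientGroup.eq, ← H.τ_mk hg, hm, hm]
  obtain ⟨a, j, -, h4⟩ := B.act' ((congrArg H.perp hst).le h3)
  have h5 := h4 (1, if c χ = 3 then 0 else ζ)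
  have h6 := hκ χ hχ
  rw [mul_smul, h6, inv_smul_smul] at h5
  have h7 := B.inj h5
  have ha := a.ne_zero
  by_cases a1 : c χ = 3 <;> by_cases a2 : c (H.τ hg χ) = 3
  · rw [a1, a2]
  · rcases j with ⟨_ | _, _ | _, _⟩ <;> simp [extP, a1, a2] at h7
  · rcases j with ⟨_ | _, _ | _, _⟩ <;> simp [extP, a1, a2, ha.symm] at h7
  · simp only [if_neg a1, if_neg a2] at h6
    have h8 := H.rr_pow_eq (hφ ζ) (H.A_of_lin hlin) Nat.prime_two (sq (m χ) ▸ hZ _)
      (sq (m (H.τ hg χ)) ▸ hZ _) h6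
    rw [show rr 2 = 4 from rfl, hm' _ hχ, hm' _ hψ] at h8
    have h9 := H.s_inj h8
    rw [pow_eq_pow_iff_modEq, hord] at h9
    revert h9 hχ hψ a1 a2
    generalize c χ = k
    generalize c (H.τ hg χ) = l
    revert k l
    decide

end Heis

end Cfsg.Agent.SolvLin
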